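import Cfsg.Agent.Lib.PiHom.Frame

/-!
# The action of the normalizer on the Sylow 2-subgroup of a minimal counterexample
-/

set_option autoImplicit false
set_option linter.unusedSectionVars false
set_option linter.style.haveILetI false

open Subgroup

namespace CfsgLib.PiHom

universe u

variable {π : Set ℕ} {G : Type u} [Group G] [Finite G]

theorem conj_pow_eq_mul_pow {l x c : G} (h : l * x * l⁻¹ = x * c) (hc : Commute l c) :
    ∀ i : ℕ, l ^ i * x * (l ^ i)⁻¹ = x * c ^ i := by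
  intro i
  induction i with
  | zero => simp
  | succ i ih =>
    have e : l * c ^ i * l⁻¹ = c ^ i := by rw [(hc.pow_right i).eq, mul_inv_cancel_right]
    rw [pow_succ', show l * l ^ i * x * (l * l ^ i)⁻¹ = l * (l ^ i * x * (l ^ i)⁻¹) * l⁻¹ by group, ih,
      show l * (x * c ^ i) * l⁻¹ = l * x * l⁻¹ * (l * c ^ i * l⁻¹) by group, h, e, mul_assoc, ← pow_succ']

/-- An element of odd order moving `x` by a fixed 2-element fixes `x`. -/
theorem commute_of_conj_eq_mul {l x c : G} (hodd : Odd (orderOf l)) (h : l * x * l⁻¹ = x * c)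
    (hc : Commute l c) {k : ℕ} (hk : c ^ 2 ^ k = 1) : Commute l x := by
  have h1 := conj_pow_eq_mul_pow h hc (orderOf l)
  rw [pow_orderOf_eq_one, one_mul, inv_one, mul_one, eq_comm, mul_eq_left] at h1
  have h2 : c = 1 := by
    rw [← orderOf_eq_one_iff]
    exact Nat.eq_one_of_dvd_coprimes (Nat.Coprime.pow_right k (Nat.coprime_two_right.2 hodd))
      (orderOf_dvd_of_pow_eq_one h1) (orderOf_dvd_of_pow_eq_one hk)
  rw [h2, mul_one] at h
  exact mul_inv_eq_iff_eq_mul.1 h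

theorem mem_zpowers_pow_of_coprime {l : G} {m : ℕ} (hm : Nat.Coprime (orderOf l) m) :
    l ∈ zpowers (l ^ m) := by
  refine mem_zpowers_iff.2 ⟨Nat.gcdB (orderOf l) m, ?_⟩
  have hb : (1 : ℤ) = (orderOf l : ℤ) * Nat.gcdA (orderOf l) m + (m : ℤ) * Nat.gcdB (orderOf l) m := by
    have := Nat.gcd_eq_gcd_ab (orderOf l) m
    rw [hm.gcd_eq_one] at this
    exact_mod_cast this
  rw [← zpow_natCast, ← zpow_mul]
  conv_rhs => rw [← zpow_one l, hb, zpow_add, zpow_mul, zpow_natCast, pow_orderOf_eq_one, one_zpow, one_mul]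

theorem mem_sylow_of_normalizer (S : Sylow 2 G) {t : G} (ht : t ∈ normalizer ((S : Subgroup G) : Set G))
    {k : ℕ} (hk : orderOf t ∣ 2 ^ k) : t ∈ (S : Subgroup G) := by
  haveI := Fact.mk Nat.prime_two
  obtain ⟨j, -, hj⟩ := (Nat.dvd_prime_pow Nat.prime_two).1 hk
  have hp : IsPGroup 2 (zpowers t) := IsPGroup.of_card (n := j) (by rw [Nat.card_zpowers, hj])
  have hmem : t ∈ zpowers t ⊓ normalizer ((S : Subgroup G) : Set G) := mem_inf.2 ⟨mem_zpowers t, ht⟩
  erw [hp.inf_normalizer_sylow S] at hmem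
  exact hmem.2

theorem Four.mul_self {S : Sylow 2 G} {E : Subgroup G} (hF : Four S E) {e : G} (he : e ∈ E) : e * e = 1 := by
  haveI := hF.klein
  exact congrArg Subtype.val (IsKleinFour.mul_self (⟨e, he⟩ : E))

theorem Four.eq_mul_of_ne {S : Sylow 2 G} {E : Subgroup G} (hF : Four S E) {a b c : G} (ha : a ∈ E) (hb : b ∈ E)
    (hc : c ∈ E) (ha1 : a ≠ 1) (hb1 : b ≠ 1) (hab : a ≠ b) (hc1 : c ≠ 1) (hca : c ≠ a) (hcb : c ≠ b) :
    c = a * b := by
  haveI := hF.klein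
  have e : ∀ {x : G} (hx : x ∈ E), x ≠ 1 → (⟨x, hx⟩ : E) ≠ 1 := fun _ h' e => h' (congrArg Subtype.val e)
  exact congrArg Subtype.val (IsKleinFour.eq_mul_of_ne_all (x := (⟨a, ha⟩ : E)) (y := ⟨b, hb⟩) (z := ⟨c, hc⟩)
    (e ha ha1) (e hb hb1) (fun h' => hab (congrArg Subtype.val h')) (e hc hc1)
    (fun h' => hca (congrArg Subtype.val h')) (fun h' => hcb (congrArg Subtype.val h')))

theorem Four.conj_mem {S : Sylow 2 G} {E : Subgroup G} (hF : Four S E) {n : G}
    (hn : n ∈ normalizer ((S : Subgroup G) : Set G)) {e : G} (he : e ∈ E) : n * e * n⁻¹ ∈ E :=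
  hF.invol _ ((mem_normalizer_iff.1 hn e).1 (hF.le he)) (by
    rw [show n * e * n⁻¹ * (n * e * n⁻¹) = n * (e * e) * n⁻¹ by group, hF.mul_self he]; group)

theorem Four.exists_ne_one {S : Sylow 2 G} {E : Subgroup G} (hF : Four S E) : ∃ a ∈ E, a ≠ 1 := by
  haveI := hF.klein
  by_contra! hall
  have h4 : Nat.card E = 4 := IsKleinFour.card_four
  rw [(Subgroup.eq_bot_iff_forall E).2 hall, card_bot] at h4
  omega

namespace Frame

variable {S : Sylow 2 G} {E : Subgroup G} (hF : Frame S E)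
include hF

theorem mem_of_sq_eq {a b : G} (ha : a ∈ (S : Subgroup G)) (hb : b ∈ (S : Subgroup G)) (hab : Commute a b)
    (h : a * a = b * b) : a⁻¹ * b ∈ E := by
  refine hF.invol _ (mul_mem (inv_mem ha) hb) ?_
  have hc : Commute a⁻¹ b := hab.inv_left
  rw [show a⁻¹ * b * (a⁻¹ * b) = a⁻¹ * (b * a⁻¹) * b by group, ← hc.eq,
    show a⁻¹ * (a⁻¹ * b) * b = (a * a)⁻¹ * (b * b) by group, h, inv_mul_cancel]

theorem sq_mul {y e : G} (hy : y ∈ (S : Subgroup G)) (he : e ∈ E) : y * e * (y * e) = y * y := by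
  rw [show y * e * (y * e) = y * (e * y) * e by group, (hF.central e he y hy).eq,
    show y * (y * e) * e = y * y * (e * e) by group, hF.mul_self he, mul_one]

theorem sq_ne_one {y : G} (hy : y ∈ (S : Subgroup G)) (hyE : y ∉ E) : y * y ≠ 1 :=
  fun e => hyE (hF.invol y hy e)

/-- An element of odd order fixing `E` pointwise and one further coset centralizes `S`. -/
theorem centralizes_of_fixed {l : G} (hl : l ∈ normalizer ((S : Subgroup G) : Set G)) (hodd : Odd (orderOf l))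
    (hE : ∀ e ∈ E, Commute l e) {y : G} (hy : y ∈ (S : Subgroup G)) (hyE : y ∉ E)
    (hfix : y⁻¹ * (l * y * l⁻¹) ∈ E) : ∀ s ∈ (S : Subgroup G), Commute l s := by
  haveI := Fact.mk Nat.prime_two
  have hmem : ∀ {x : G}, x ∈ (S : Subgroup G) → l * x * l⁻¹ ∈ (S : Subgroup G) := fun hx =>
    (mem_normalizer_iff.1 hl _).1 hx
  have h2 : ∀ {x : G}, x ∈ (S : Subgroup G) → ∃ k : ℕ, x ^ 2 ^ k = 1 := fun {x} hx => by
    obtain ⟨k, hk⟩ := S.2 ⟨x, hx⟩
    exact ⟨k, congrArg Subtype.val hk⟩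
  have step1 : ∀ a ∈ (S : Subgroup G), Commute a y → Commute l a := by
    intro a ha hay
    set a' := l * a * l⁻¹ with ha'
    have h1 : Commute a' (l * y * l⁻¹) := hay.map (MulAut.conj l)
    have h2' : Commute a' (y⁻¹ * (l * y * l⁻¹))⁻¹ := ((hF.central _ hfix a' (hmem ha)).symm).inv_right
    have h3 : Commute a' y := by
      have := h1.mul_right h2'
      rwa [show l * y * l⁻¹ * (y⁻¹ * (l * y * l⁻¹))⁻¹ = y by group] at this
    have hc : a⁻¹ * a' ∈ E := hF.mem_of_sq_eq ha (hmem ha) (hF.abel y hy hyE a ha a' (hmem ha) hay h3) (by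
      rw [ha', show l * a * l⁻¹ * (l * a * l⁻¹) = l * (a * a) * l⁻¹ by group, (hE _ (hF.sq a ha)).eq,
        mul_inv_cancel_right])
    obtain ⟨k, hk⟩ := h2 (hF.le hc)
    exact commute_of_conj_eq_mul hodd (by rw [ha']; group) (hE _ hc) hk
  intro z hz
  have hly : Commute l y := step1 y hy (Commute.refl y)
  set z' := l * z * l⁻¹ with hz'
  have hk : l * (z * y * z⁻¹ * y⁻¹) * l⁻¹ = z * y * z⁻¹ * y⁻¹ := by
    rw [(hE _ (hF.comm z hz y hy)).eq, mul_inv_cancel_right]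
  have hk' : z' * y * z'⁻¹ = z * y * z⁻¹ := by
    have e : l * (z * y * z⁻¹ * y⁻¹) * l⁻¹ = z' * (l * y * l⁻¹) * z'⁻¹ * (l * y * l⁻¹)⁻¹ := by
      rw [hz']; group
    rw [hly.eq, mul_inv_cancel_right, hk] at e
    exact (mul_right_cancel e).symm
  have hw : Commute (z⁻¹ * z') y := by
    have e : z⁻¹ * (z' * y * z'⁻¹) * z = y := by rw [hk']; group
    calc z⁻¹ * z' * y = z⁻¹ * (z' * y * z'⁻¹) * z * (z⁻¹ * z') := by group
      _ = y * (z⁻¹ * z') := by rw [e]
  obtain ⟨k, hk2⟩ := h2 (mul_mem (inv_mem hz) (hmem hz))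
  exact commute_of_conj_eq_mul hodd (c := z⁻¹ * z') (by simp only [hz']; group) (step1 _ (mul_mem (inv_mem hz) (hmem hz)) hw) hk2

/-- An element of odd order normalizing `S` and fixing an involution centralizes `E`. -/
theorem centralizes_four {l : G} (hl : l ∈ normalizer ((S : Subgroup G) : Set G)) (hodd : Odd (orderOf l))
    {a : G} (ha : a ∈ E) (ha1 : a ≠ 1) (hla : Commute l a) : ∀ e ∈ E, Commute l e := by
  intro b hb
  by_cases hb1 : b = 1
  · rw [hb1]; exact Commute.one_right l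
  by_cases hba : b = a
  · rw [hba]; exact hla
  have hfa : l * a * l⁻¹ = a := by rw [hla.eq, mul_inv_cancel_right]
  have hinj : ∀ {x y : G}, l * x * l⁻¹ = l * y * l⁻¹ → x = y := fun e => mul_left_cancel (mul_right_cancel e)
  have hne : ∀ {x : G}, x ≠ 1 → x ≠ a → l * x * l⁻¹ ≠ 1 ∧ l * x * l⁻¹ ≠ a := fun hx hxa =>
    ⟨fun e => hx (conj_eq_one_iff.1 e), fun e => hxa (hinj (e.trans hfa.symm))⟩
  by_cases hlb : l * b * l⁻¹ = b
  · exact mul_inv_eq_iff_eq_mul.1 hlb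
  have e1 := hF.eq_mul_of_ne ha hb (hF.conj_mem hl hb) ha1 hb1 (Ne.symm hba) (hne hb1 hba).1 (hne hb1 hba).2 hlb
  have e2 : l ^ 2 * b * (l ^ 2)⁻¹ = b := by
    have h1 := hne (hne hb1 hba).1 (hne hb1 hba).2
    rw [pow_two, show l * l * b * (l * l)⁻¹ = l * (l * b * l⁻¹) * l⁻¹ by group]
    by_contra h3
    exact hlb (hinj ((hF.eq_mul_of_ne ha hb (hF.conj_mem hl (hF.conj_mem hl hb)) ha1 hb1 (Ne.symm hba) h1.1 h1.2
      h3).trans e1.symm))
  have hle : zpowers (l ^ 2) ≤ centralizer ({b} : Set G) := by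
    rw [zpowers_le, mem_centralizer_singleton_iff]
    exact mul_inv_eq_iff_eq_mul.1 e2
  exact mem_centralizer_singleton_iff.1 (hle (mem_zpowers_pow_of_coprime (Nat.coprime_two_right.2 hodd)))

/-- An element of odd order permuting the involutions of `E` in a cycle. -/
theorem exists_cycle : ∃ n ∈ normalizer ((S : Subgroup G) : Set G), Odd (orderOf n) ∧
    (∀ a ∈ E, a ≠ 1 → n * a * n⁻¹ ≠ a) ∧
    (∀ a ∈ E, n ^ 2 * a * (n ^ 2)⁻¹ = a * (n * a * n⁻¹)) ∧
    ∀ a ∈ E, Commute (n ^ 3) a := by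
  obtain ⟨a, ha, ha1⟩ := hF.exists_ne_one
  haveI := hF.klein
  obtain ⟨b, hb, hb1, hba⟩ : ∃ b ∈ E, b ≠ 1 ∧ b ≠ a := by
    by_contra! hall
    have hle : (E : Set G) ⊆ {1, a} := fun x hx => (em (x = 1)).imp_right fun h1 => hall x hx h1
    have := Set.ncard_le_ncard hle
    rw [← Nat.card_coe_set_eq, show Nat.card (E : Set G) = 4 from IsKleinFour.card_four] at this
    have h2 : ({1, a} : Set G).ncard ≤ 2 := (Set.ncard_insert_le _ _).trans (by rw [Set.ncard_singleton])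
    omega
  obtain ⟨m, hm, hmab⟩ := hF.trans a ha b hb ha1 hb1
  obtain ⟨i, r, hr, hmo⟩ := Nat.exists_eq_pow_mul_and_not_dvd (orderOf_pos m).ne' 2 (by norm_num)
  have hro : Odd r := Nat.odd_iff.2 (Nat.two_dvd_ne_zero.1 hr)
  set n := m ^ 2 ^ i with hn
  have hnN : n ∈ normalizer ((S : Subgroup G) : Set G) := pow_mem hm _
  have hodd : Odd (orderOf n) := hro.of_dvd_nat (orderOf_dvd_of_pow_eq_one (by
    rw [hn, ← pow_mul, ← hmo, pow_orderOf_eq_one]))
  have hs : m ^ r ∈ (S : Subgroup G) := mem_sylow_of_normalizer S (pow_mem hm r) (k := i)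
    (orderOf_dvd_of_pow_eq_one (by rw [← pow_mul, mul_comm, ← hmo, pow_orderOf_eq_one]))
  have hnmove : ∀ c ∈ E, c ≠ 1 → n * c * n⁻¹ ≠ c := by
    intro c hc hc1 e
    have hn1 : Commute n c := mul_inv_eq_iff_eq_mul.1 e
    have hna : Commute n a := hF.centralizes_four hnN hodd hc hc1 hn1 a ha
    have hr1 : Commute (m ^ r) a := (hF.central a ha _ hs).symm
    have hb' : (1 : ℤ) = (r : ℤ) * Nat.gcdA r (2 ^ i) + ((2 ^ i : ℕ) : ℤ) * Nat.gcdB r (2 ^ i) := by
      have := Nat.gcd_eq_gcd_ab r (2 ^ i)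
      rw [(Nat.Coprime.pow_right i (Nat.coprime_two_right.2 hro)).gcd_eq_one] at this
      exact_mod_cast this
    have hma : Commute m a := by
      have h1 := (hr1.zpow_left (Nat.gcdA r (2 ^ i))).mul_left (hna.zpow_left (Nat.gcdB r (2 ^ i)))
      rwa [hn, ← zpow_natCast m r, ← zpow_natCast m (2 ^ i), ← zpow_mul, ← zpow_mul, ← zpow_add, ← hb',
        zpow_one] at h1
    exact hba (by rw [← hmab, hma.eq, mul_inv_cancel_right])
  have hne1 : ∀ {c : G}, c ≠ 1 → n * c * n⁻¹ ≠ 1 := fun hc e => hc (conj_eq_one_iff.1 e)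
  have hsq : ∀ c ∈ E, n ^ 2 * c * (n ^ 2)⁻¹ = c * (n * c * n⁻¹) := by
    intro c hc
    rw [pow_two, show n * n * c * (n * n)⁻¹ = n * (n * c * n⁻¹) * n⁻¹ by group]
    by_cases hc1 : c = 1
    · rw [hc1]; simp
    refine hF.eq_mul_of_ne hc (hF.conj_mem hnN hc) (hF.conj_mem hnN (hF.conj_mem hnN hc)) hc1 (hne1 hc1)
      (hnmove c hc hc1).symm (hne1 (hne1 hc1)) (fun e => ?_) (hnmove _ (hF.conj_mem hnN hc) (hne1 hc1))
    -- otherwise the square of `n` and hence `n` fixes `c`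
    have hle : zpowers (n ^ 2) ≤ centralizer ({c} : Set G) := by
      rw [zpowers_le, mem_centralizer_singleton_iff]
      refine mul_inv_eq_iff_eq_mul.1 ?_
      rw [pow_two, show n * n * c * (n * n)⁻¹ = n * (n * c * n⁻¹) * n⁻¹ by group]
      exact e
    exact hnmove c hc hc1 (by
      rw [mem_centralizer_singleton_iff.1 (hle (mem_zpowers_pow_of_coprime (Nat.coprime_two_right.2 hodd))),
        mul_inv_cancel_right])
  refine ⟨n, hnN, hodd, hnmove, hsq, fun c hc => mul_inv_eq_iff_eq_mul.1 ?_⟩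
  have hc' : n * c * n⁻¹ * c = c * (n * c * n⁻¹) := (hF.central c hc _ (hF.le (hF.conj_mem hnN hc))).eq.symm
  calc n ^ 3 * c * (n ^ 3)⁻¹ = n * (n ^ 2 * c * (n ^ 2)⁻¹) * n⁻¹ := by rw [pow_succ', pow_two]; group
    _ = n * c * n⁻¹ * (n ^ 2 * c * (n ^ 2)⁻¹) := by
      conv_lhs => rw [hsq c hc]
      rw [pow_two]; group
    _ = n * c * n⁻¹ * c * (n * c * n⁻¹) := by rw [hsq c hc]; group
    _ = c := by rw [hc', mul_assoc, hF.mul_self (hF.conj_mem hnN hc), mul_one]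

omit hF in
theorem eq_or_eq_or_eq {S : Sylow 2 G} {E : Subgroup G} (hF : Frame S E) {n : G}
    (hn : n ∈ normalizer ((S : Subgroup G) : Set G)) (hmove : ∀ a ∈ E, a ≠ 1 → n * a * n⁻¹ ≠ a) {a b : G}
    (ha : a ∈ E) (ha1 : a ≠ 1) (hb : b ∈ E) (hb1 : b ≠ 1) :
    b = a ∨ b = n * a * n⁻¹ ∨ b = a * (n * a * n⁻¹) := by
  by_contra! hall
  exact hall.2.2 (hF.eq_mul_of_ne ha (hF.conj_mem hn ha) hb ha1 (fun e => ha1 (conj_eq_one_iff.1 e))
    (hmove a ha ha1).symm hb1 hall.1 hall.2.1)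

end Frame

end CfsgLib.PiHom
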