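import Mathlib

/-!
# Five triples pairwise meeting in two elements, and the final arithmetic
-/

set_option autoImplicit false
set_option linter.unusedSectionVars false

namespace CfsgLib.PiHom

theorem inter_card_two {α : Type*} [DecidableEq α] {A B : Finset α} {a : α} (hA : A.card = 3)
    (haA : a ∈ A) (haB : a ∉ B) (h : (A ∩ B).card = 2) : A.erase a ⊆ B := by
  have h1 : A ∩ B ⊆ A.erase a := fun x hx => Finset.mem_erase.2
    ⟨fun e => haB (e ▸ (Finset.mem_inter.1 hx).2), (Finset.mem_inter.1 hx).1⟩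
  have h2 : A ∩ B = A.erase a :=
    Finset.eq_of_subset_of_card_le h1 (by rw [Finset.card_erase_of_mem haA, hA, h])
  rw [← h2]
  exact Finset.inter_subset_right

/-- Five triples pairwise meeting in two elements have a common pair. -/
theorem sunflower {α : Type*} [DecidableEq α] (W : Fin 5 → Finset α) (hcard : ∀ j, (W j).card = 3)
    (hint : ∀ j k, j ≠ k → (W j ∩ W k).card = 2) : ∃ a b, a ≠ b ∧ ∀ j, a ∈ W j ∧ b ∈ W j := by
  obtain ⟨a, b, hab, hI⟩ := Finset.card_eq_two.1 (hint 0 1 (by decide))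
  have hab0 : ∀ {c}, (c = a ∨ c = b) → c ∈ W 0 ∧ c ∈ W 1 := fun hc => Finset.mem_inter.1 (by
    rw [hI]; simpa using hc)
  obtain ⟨x, hx⟩ : ∃ x, W 0 \ {a, b} = {x} := Finset.card_eq_one.1 (by
    rw [Finset.card_sdiff_of_subset (by
      intro c hc; exact (hab0 (by simpa using hc)).1), hcard, Finset.card_pair hab])
  obtain ⟨y, hy⟩ : ∃ y, W 1 \ {a, b} = {y} := Finset.card_eq_one.1 (by
    rw [Finset.card_sdiff_of_subset (by
      intro c hc; exact (hab0 (by simpa using hc)).2), hcard, Finset.card_pair hab])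
  have hx' : x ∈ W 0 ∧ x ≠ a ∧ x ≠ b := by
    have : x ∈ W 0 \ {a, b} := by rw [hx]; exact Finset.mem_singleton_self x
    simpa using this
  have hy' : y ∈ W 1 ∧ y ≠ a ∧ y ≠ b := by
    have : y ∈ W 1 \ {a, b} := by rw [hy]; exact Finset.mem_singleton_self y
    simpa using this
  have hxy : x ≠ y := by
    intro e
    have : x ∈ W 0 ∩ W 1 := Finset.mem_inter.2 ⟨hx'.1, e ▸ hy'.1⟩
    rw [hI] at this
    simp [hx'.2.1, hx'.2.2] at this
  have hW0 : W 0 = {a, b, x} := (Finset.eq_of_subset_of_card_le (by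
      intro c hc
      simp only [Finset.mem_insert, Finset.mem_singleton] at hc
      rcases hc with rfl | rfl | rfl
      exacts [(hab0 (Or.inl rfl)).1, (hab0 (Or.inr rfl)).1, hx'.1]) (by
      rw [hcard, Finset.card_eq_three.2 ⟨a, b, x, hab, hx'.2.1.symm, hx'.2.2.symm, rfl⟩])).symm
  have hW1 : W 1 = {a, b, y} := (Finset.eq_of_subset_of_card_le (by
      intro c hc
      simp only [Finset.mem_insert, Finset.mem_singleton] at hc
      rcases hc with rfl | rfl | rfl
      exacts [(hab0 (Or.inl rfl)).2, (hab0 (Or.inr rfl)).2, hy'.1]) (by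
      rw [hcard, Finset.card_eq_three.2 ⟨a, b, y, hab, hy'.2.1.symm, hy'.2.2.symm, rfl⟩])).symm
  have htype : ∀ j, j ≠ 0 → j ≠ 1 → (a ∈ W j ∧ b ∈ W j) ∨ W j = {b, x, y} ∨ W j = {a, x, y} := by
    intro j hj0 hj1
    have key : ∀ c d, W 0 = {c, d, x} → W 1 = {c, d, y} → c ≠ d → c ≠ x → c ≠ y → d ≠ x → d ≠ y → c ∉ W j →
        W j = {d, x, y} := by
      intro c d e0 e1 hcd hcx hcy hdx hdy hc
      have s0 := inter_card_two (hcard 0) (by rw [e0]; simp) hc (hint 0 j hj0.symm)
      have s1 := inter_card_two (hcard 1) (by rw [e1]; simp) hc (hint 1 j hj1.symm)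
      refine (Finset.eq_of_subset_of_card_le ?_ ?_).symm
      · intro z hz
        simp only [Finset.mem_insert, Finset.mem_singleton] at hz
        rcases hz with rfl | rfl | rfl
        · exact s0 (by rw [e0]; simp [hcd.symm])
        · exact s0 (by rw [e0]; simp [hcx.symm])
        · exact s1 (by rw [e1]; simp [hcy.symm])
      · rw [hcard, Finset.card_eq_three.2 ⟨d, x, y, hdx, hdy, hxy, rfl⟩]
    by_cases ha : a ∈ W j
    · by_cases hb : b ∈ W j
      · exact Or.inl ⟨ha, hb⟩
      · refine Or.inr (Or.inr (key b a ?_ ?_ hab.symm hx'.2.2.symm hy'.2.2.symm hx'.2.1.symm hy'.2.1.symm hb))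
        · rw [hW0, Finset.insert_comm]
        · rw [hW1, Finset.insert_comm]
    · exact Or.inr (Or.inl (key a b hW0 hW1 hab hx'.2.1.symm hy'.2.1.symm hx'.2.2.symm hy'.2.2.symm ha))
  have hsame : ∀ j k, j ≠ k → W j ≠ W k := fun j k hjk e => by
    have := hint j k hjk
    rw [e, Finset.inter_self, hcard] at this
    omega
  have hmix : ∀ j k, j ≠ 0 → j ≠ 1 → k ≠ j → (a ∈ W j ∧ b ∈ W j) → (W k = {b, x, y} ∨ W k = {a, x, y}) → False := by
    intro j k hj0 hj1 hkj hP hk
    obtain ⟨c, hc, hcne⟩ : ∃ c ∈ W j, c ≠ a ∧ c ≠ b := by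
      obtain ⟨c, hc⟩ : ∃ c, W j \ {a, b} = {c} := Finset.card_eq_one.1 (by
        rw [Finset.card_sdiff_of_subset (by intro c hc; simp at hc; rcases hc with rfl | rfl; exacts [hP.1, hP.2]),
          hcard, Finset.card_pair hab])
      have : c ∈ W j \ {a, b} := by rw [hc]; exact Finset.mem_singleton_self c
      simp at this
      exact ⟨c, this.1, this.2⟩
    have hWj : W j = {a, b, c} := (Finset.eq_of_subset_of_card_le (by
        intro z hz
        simp only [Finset.mem_insert, Finset.mem_singleton] at hz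
        rcases hz with rfl | rfl | rfl
        exacts [hP.1, hP.2, hc]) (by
        rw [hcard, Finset.card_eq_three.2 ⟨a, b, c, hab, hcne.1.symm, hcne.2.symm, rfl⟩])).symm
    have hcx : c ≠ x := fun e => hsame j 0 hj0 (by rw [hWj, hW0, e])
    have hcy : c ≠ y := fun e => hsame j 1 hj1 (by rw [hWj, hW1, e])
    have h2 := hint j k hkj.symm
    rcases hk with hk | hk
    · have : W j ∩ W k ⊆ {b} := by
        rw [hWj, hk]
        intro z hz
        simp only [Finset.mem_inter, Finset.mem_insert, Finset.mem_singleton] at hz ⊢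
        rcases hz with ⟨rfl | rfl | rfl, h'⟩
        · rcases h' with h' | h' | h'
          exacts [absurd h' hab, absurd h'.symm hx'.2.1, absurd h'.symm hy'.2.1]
        · rfl
        · rcases h' with h' | h' | h'
          exacts [absurd h' hcne.2, absurd h' hcx, absurd h' hcy]
      have := Finset.card_le_card this
      rw [h2, Finset.card_singleton] at this
      omega
    · have : W j ∩ W k ⊆ {a} := by
        rw [hWj, hk]
        intro z hz
        simp only [Finset.mem_inter, Finset.mem_insert, Finset.mem_singleton] at hz ⊢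
        rcases hz with ⟨rfl | rfl | rfl, h'⟩
        · rfl
        · rcases h' with h' | h' | h'
          exacts [absurd h'.symm hab, absurd h'.symm hx'.2.2, absurd h'.symm hy'.2.2]
        · rcases h' with h' | h' | h'
          exacts [absurd h' hcne.1, absurd h' hcx, absurd h' hcy]
      have := Finset.card_le_card this
      rw [h2, Finset.card_singleton] at this
      omega
  refine ⟨a, b, hab, fun j => ?_⟩
  rcases eq_or_ne j 0 with rfl | hj0
  · exact ⟨(hab0 (Or.inl rfl)).1, (hab0 (Or.inr rfl)).1⟩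
  rcases eq_or_ne j 1 with rfl | hj1
  · exact ⟨(hab0 (Or.inl rfl)).2, (hab0 (Or.inr rfl)).2⟩
  by_contra hno
  have hj := (htype j hj0 hj1).resolve_left hno
  have hothers : ∀ k, k ≠ 0 → k ≠ 1 → W k = {b, x, y} ∨ W k = {a, x, y} := fun k hk0 hk1 =>
    (htype k hk0 hk1).resolve_left fun hP => by
      rcases eq_or_ne j k with rfl | hjk
      · exact hno hP
      · exact hmix k j hk0 hk1 hjk hP hj
  rcases hothers 2 (by decide) (by decide) with h2 | h2 <;>
    rcases hothers 3 (by decide) (by decide) with h3 | h3 <;>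
    rcases hothers 4 (by decide) (by decide) with h4 | h4 <;>
    first
      | exact hsame 2 3 (by decide) (h2.trans h3.symm)
      | exact hsame 2 4 (by decide) (h2.trans h4.symm)
      | exact hsame 3 4 (by decide) (h3.trans h4.symm)

theorem abs_inv_le {p : ℤ} {m : ℚ} (hm : 0 < m) (h : m ≤ |(p : ℚ)|) : -(1 / m) ≤ 1 / (p : ℚ) := by
  have h1 : |1 / (p : ℚ)| ≤ 1 / m := by
    rw [abs_div, abs_one]
    exact div_le_div_of_nonneg_left (by norm_num) hm h
  linarith [(abs_le.1 h1).1]

theorem degree_bound {p r : ℤ} {m : ℕ} (hdvd : (m : ℤ) ∣ p - r) {b : ℤ} (hb1 : b ≤ |r|) (hb2 : b + |r| ≤ m) :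
    (b : ℚ) ≤ |(p : ℚ)| := by
  have hle : b ≤ |p| := by
    obtain ⟨k, hk⟩ := hdvd
    have hp : p = r + m * k := by linarith
    rcases eq_or_ne k 0 with rfl | hk0
    · rw [hp]; simpa using hb1
    · have h1 : (m : ℤ) ≤ |(m : ℤ) * k| := by
        rw [abs_mul, abs_of_nonneg (Int.natCast_nonneg m)]
        exact le_mul_of_one_le_right (Int.natCast_nonneg m) (Int.one_le_abs hk0)
      have h2 : |(m : ℤ) * k| ≤ |p| + |r| := by
        have := abs_sub p r
        rwa [hp, add_sub_cancel_left, ← hp] at this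
      linarith
  rw [← Int.cast_abs]
  exact_mod_cast hle

/-- The numerical end of the proof. -/
theorem no_solution {pA pB pX qA qB qX : ℤ} (hsum : 1 + qA + qB + qX = 0)
    (hsq : qA ^ 2 + qB ^ 2 + 5 * qX ^ 2 ≤ 63)
    (hA : (64 : ℤ) ∣ pA + 3 * qA + 60) (hB : (64 : ℤ) ∣ pB + 3 * qB + 60)
    (hX : (64 : ℤ) ∣ pX + 3 * qX + 12) (hA' : (16 : ℤ) ∣ pA - qA) (hB' : (16 : ℤ) ∣ pB - qB)
    (hX' : (16 : ℤ) ∣ pX - qX) (hA1 : pA ≠ 1) (hB1 : pB ≠ 1)
    (heq : (1 : ℚ) + (qA : ℚ) ^ 2 / pA + (qB : ℚ) ^ 2 / pB + (qX : ℚ) ^ 2 / pX = 0) : False := by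
  have hqA : qA % 4 = 1 := by omega
  have hqB : qB % 4 = 1 := by omega
  have hqX : qX % 4 = 1 := by omega
  have hX3 : -3 ≤ qX ∧ qX ≤ 3 := by constructor <;> nlinarith [sq_nonneg qA, sq_nonneg qB]
  have hne : ∀ p : ℤ, (64 : ℤ) ∣ p - 1 → p ≠ 1 → (63 : ℚ) ≤ |(p : ℚ)| := fun p hd hp => by
    have hle : (63 : ℤ) ≤ |p| := by
      obtain ⟨k, hk⟩ := hd
      have hk0 : k ≠ 0 := fun e => hp (by rw [e] at hk; linarith)
      rcases lt_or_gt_of_ne hk0 with h | h
      · rw [abs_of_nonpos (by linarith)]; linarith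
      · rw [abs_of_nonneg (by linarith)]; linarith
    rw [← Int.cast_abs]
    exact_mod_cast hle
  have hA8 : -7 ≤ qA ∧ qA ≤ 7 := by constructor <;> nlinarith [sq_nonneg qX, sq_nonneg qB]
  have hB8 : -7 ≤ qB ∧ qB ≤ 7 := by constructor <;> nlinarith [sq_nonneg qX, sq_nonneg qA]
  obtain ⟨hX1, hX2⟩ := hX3
  obtain ⟨hA2, hA3⟩ := hA8
  obtain ⟨hB2, hB3⟩ := hB8
  have hcases : (qX = 1 ∧ ((qA = 1 ∧ qB = -3) ∨ (qA = -3 ∧ qB = 1))) ∨ (qX = -3 ∧ qA = 1 ∧ qB = 1) := by
    obtain rfl : qB = -1 - qA - qX := by omega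
    interval_cases qX <;> first | omega | (interval_cases qA <;> first | omega | (norm_num at hsq))
  rcases hcases with ⟨rfl, ⟨rfl, rfl⟩ | ⟨rfl, rfl⟩⟩ | ⟨rfl, rfl, rfl⟩
  · have b1 := abs_inv_le (by norm_num) (hne pA (by omega) hA1)
    have b2 := abs_inv_le (by norm_num) (degree_bound (p := pB) (r := 13) (m := 64) (b := 13)
      (by push_cast; omega) (by norm_num) (by norm_num))
    have b3 := abs_inv_le (by norm_num) (degree_bound (p := pX) (r := -15) (m := 64) (b := 15)
      (by push_cast; omega) (by norm_num) (by norm_num))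
    push_cast at b2 b3 heq
    rw [show ((-3 : ℚ)) ^ 2 / pB = 9 * (1 / pB) by ring, show (1 : ℚ) ^ 2 / pA = 1 / pA by ring,
      show (1 : ℚ) ^ 2 / pX = 1 / pX by ring] at heq
    linarith
  · have b1 := abs_inv_le (by norm_num) (degree_bound (p := pA) (r := 13) (m := 64) (b := 13)
      (by push_cast; omega) (by norm_num) (by norm_num))
    have b2 := abs_inv_le (by norm_num) (hne pB (by omega) hB1)
    have b3 := abs_inv_le (by norm_num) (degree_bound (p := pX) (r := -15) (m := 64) (b := 15)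
      (by push_cast; omega) (by norm_num) (by norm_num))
    push_cast at b1 b3 heq
    rw [show ((-3 : ℚ)) ^ 2 / pA = 9 * (1 / pA) by ring, show (1 : ℚ) ^ 2 / pB = 1 / pB by ring,
      show (1 : ℚ) ^ 2 / pX = 1 / pX by ring] at heq
    linarith
  · by_cases hpX : pX = -3
    · have b1 : |(1 : ℚ) / pA| ≤ 1 / 63 := by
        rw [abs_div, abs_one]; exact div_le_div_of_nonneg_left (by norm_num) (by norm_num) (hne pA (by omega) hA1)
      have b2 : |(1 : ℚ) / pB| ≤ 1 / 63 := by
        rw [abs_div, abs_one]; exact div_le_div_of_nonneg_left (by norm_num) (by norm_num) (hne pB (by omega) hB1)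
      subst hpX
      push_cast at heq
      rw [show (1 : ℚ) ^ 2 / pA = 1 / pA by ring, show (1 : ℚ) ^ 2 / pB = 1 / pB by ring] at heq
      norm_num at heq
      rw [abs_le] at b1 b2
      simp only [one_div] at b1 b2
      linarith [b1.1, b1.2, b2.1, b2.2]
    · have b3 : -(1 / (61 : ℚ)) ≤ 1 / (pX : ℚ) := by
        refine abs_inv_le (by norm_num) ?_
        have hle : (61 : ℤ) ≤ |pX| := by
          rcases le_or_gt 0 pX with h | h
          · rw [abs_of_nonneg h]; omega
          · rw [abs_of_nonpos h.le]; omega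
        rw [← Int.cast_abs]
        exact_mod_cast hle
      have b1 := abs_inv_le (by norm_num) (hne pA (by omega) hA1)
      have b2 := abs_inv_le (by norm_num) (hne pB (by omega) hB1)
      push_cast at heq
      rw [show ((-3 : ℚ)) ^ 2 / pX = 9 * (1 / pX) by ring, show (1 : ℚ) ^ 2 / pA = 1 / pA by ring,
        show (1 : ℚ) ^ 2 / pB = 1 / pB by ring] at heq
      linarith

end CfsgLib.PiHom
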