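import Cfsg.Agent.Lib.Coprime.SchurZassenhaus
import Cfsg.Agent.Lib.FT.NoMinSimple
import Mathlib.GroupTheory.Sylow
import Mathlib.GroupTheory.SchurZassenhaus

/-!
# `π`-homogeneous groups: definitions, quotients, reduction to simple groups
-/

set_option autoImplicit false
set_option linter.unusedSectionVars false
set_option linter.style.haveILetI false

open Subgroup

namespace CfsgLib.PiHom

universe u v

variable {π : Set ℕ} {G : Type u} [Group G]

/-- All prime divisors lie in `π`. -/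
def PiNum (π : Set ℕ) (n : ℕ) : Prop := ∀ p : ℕ, p.Prime → p ∣ n → p ∈ π

/-- No prime divisor lies in `π`. -/
def CoNum (π : Set ℕ) (n : ℕ) : Prop := ∀ p : ℕ, p.Prime → p ∣ n → p ∉ π

/-- The `π'`-elements form a subgroup. -/
def Closed (π : Set ℕ) (G : Type u) [Group G] : Prop :=
  ∃ K : Subgroup G, ∀ x : G, x ∈ K ↔ CoNum π (orderOf x)

/-- Every `π`-subgroup is 2-closed. -/
def TwoCl (π : Set ℕ) (G : Type u) [Group G] : Prop :=
  ∀ H : Subgroup G, PiNum π (Nat.card H) → ∀ P : Sylow 2 H, (P : Subgroup H).Normal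

/-- A `π'`-element normalizing a `π`-subgroup centralizes it. -/
def Hom (π : Set ℕ) (G : Type u) [Group G] : Prop :=
  ∀ H : Subgroup G, PiNum π (Nat.card H) → ∀ x ∈ normalizer (H : Set G), CoNum π (orderOf x) →
    x ∈ centralizer (H : Set G)

theorem CoNum.of_dvd {m n : ℕ} (h : CoNum π n) (hd : m ∣ n) : CoNum π m :=
  fun p hp hpm => h p hp (hpm.trans hd)

theorem PiNum.of_dvd {m n : ℕ} (h : PiNum π n) (hd : m ∣ n) : PiNum π m :=
  fun p hp hpm => h p hp (hpm.trans hd)

theorem CoNum.mul {m n : ℕ} (hm : CoNum π m) (hn : CoNum π n) : CoNum π (m * n) :=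
  fun p hp hd => (hp.dvd_mul.1 hd).elim (hm p hp) (hn p hp)

theorem PiNum.mul {m n : ℕ} (hm : PiNum π m) (hn : PiNum π n) : PiNum π (m * n) :=
  fun p hp hd => (hp.dvd_mul.1 hd).elim (hm p hp) (hn p hp)

theorem piNum_one : PiNum π 1 := fun p hp hd => absurd (Nat.dvd_one.1 hd) hp.ne_one

theorem coNum_one : CoNum π 1 := fun p hp hd => absurd (Nat.dvd_one.1 hd) hp.ne_one

theorem piNum_pow {p : ℕ} (hp : p.Prime) (hπ : p ∈ π) (n : ℕ) : PiNum π (p ^ n) :=
  fun q hq hd => (Nat.prime_dvd_prime_iff_eq hq hp).1 (hq.dvd_of_dvd_pow hd) ▸ hπ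

theorem coNum_pow {p : ℕ} (hp : p.Prime) (hπ : p ∉ π) (n : ℕ) : CoNum π (p ^ n) :=
  fun q hq hd => (Nat.prime_dvd_prime_iff_eq hq hp).1 (hq.dvd_of_dvd_pow hd) ▸ hπ

theorem coprime_of {m n : ℕ} (hm : PiNum π m) (hn : CoNum π n) : Nat.Coprime m n :=
  Nat.coprime_of_dvd fun p hp h1 h2 => hn p hp h2 (hm p hp h1)

theorem odd_of_coNum (h2 : 2 ∈ π) {n : ℕ} (h : CoNum π n) : Odd n :=
  Nat.not_even_iff_odd.1 fun he => h 2 Nat.prime_two (even_iff_two_dvd.1 he) h2

variable [Finite G]

theorem coNum_card_iff {K : Subgroup G} :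
    CoNum π (Nat.card K) ↔ ∀ x ∈ K, CoNum π (orderOf x) := by
  refine ⟨fun h x hx => h.of_dvd (orderOf_mk x hx ▸ orderOf_dvd_natCard _), fun h p hp hd => ?_⟩
  haveI := Fact.mk hp
  obtain ⟨x, hx⟩ := exists_prime_orderOf_dvd_card' p hd
  exact h x x.2 p hp (by rw [orderOf_coe, hx])

theorem isSolvable_of_coNum (h2 : 2 ∈ π) {K : Subgroup G} (h : CoNum π (Nat.card K)) : Group.IsSolvable K :=
  CfsgLib.FT.isSolvable_of_odd _ (odd_of_coNum h2 h)

/-! ### The easy direction and the given form of the hypothesis -/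

theorem hom_of_relIndex
    (h : ∀ H : Subgroup G, H ≠ ⊥ → (∀ p : ℕ, p.Prime → p ∣ Nat.card H → p ∈ π) →
      ∀ p : ℕ, p.Prime → p ∣ (centralizer (H : Set G)).relIndex (normalizer (H : Set G)) → p ∈ π) :
    Hom π G := by
  intro H hH x hx hxo
  by_cases hb : H = ⊥
  · subst hb
    exact mem_centralizer_iff.2 fun y hy => by rw [mem_bot.1 hy, one_mul, mul_one]
  set N := normalizer (H : Set G)
  set C := (centralizer (H : Set G)).subgroupOf N
  haveI : C.Normal := inferInstanceAs ((centralizer (H : Set G)).subgroupOf (normalizer (H : Set G))).Normal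
  have h1 : orderOf (QuotientGroup.mk' C ⟨x, hx⟩) = 1 := by
    refine Nat.eq_one_of_dvd_coprimes (coprime_of (π := π) ?_ hxo)
      (orderOf_dvd_natCard _) ((orderOf_map_dvd _ _).trans (by rw [orderOf_mk]))
    rw [← Subgroup.index_eq_card]
    exact h H hb hH
  rw [orderOf_eq_one_iff, QuotientGroup.mk'_apply, QuotientGroup.eq_one_iff] at h1
  exact h1

theorem relIndex_of_closed (hcl : Closed π G) (H : Subgroup G)
    (hH : PiNum π (Nat.card H)) (p : ℕ) (hp : p.Prime)
    (hd : p ∣ (centralizer (H : Set G)).relIndex (normalizer (H : Set G))) : p ∈ π := by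
  by_contra hπ
  haveI := Fact.mk hp
  obtain ⟨K, hK⟩ := hcl
  set N := normalizer (H : Set G)
  set P : Sylow p N := default
  refine P.not_dvd_index (hd.trans (index_dvd_of_le fun x hx => ?_))
  obtain ⟨k, hk⟩ := P.2 ⟨x, hx⟩
  have hxo : CoNum π (orderOf ((x : N) : G)) := by
    refine (coNum_pow hp hπ k).of_dvd (orderOf_dvd_of_pow_eq_one ?_)
    exact congrArg Subtype.val (congrArg Subtype.val hk)
  have hKc : ∀ g : G, ∀ y ∈ K, g * y * g⁻¹ ∈ K := fun g y hy => (hK _).2 (by
    rw [show g * y * g⁻¹ = MulAut.conj g y from rfl, MulEquiv.orderOf_eq]; exact (hK y).1 hy)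
  refine mem_subgroupOf.2 (mem_centralizer_iff.2 fun y hy => ?_)
  have hmem : y * (x : G) * y⁻¹ * (x : G)⁻¹ ∈ H ⊓ K := by
    refine ⟨?_, K.mul_mem (hKc y _ ((hK _).2 hxo)) (K.inv_mem ((hK _).2 hxo))⟩
    rw [show y * (x : G) * y⁻¹ * (x : G)⁻¹ = y * ((x : G) * y⁻¹ * (x : G)⁻¹) by group]
    exact H.mul_mem hy ((mem_normalizer_iff.1 (x : N).2 _).1 (H.inv_mem hy))
  have h1 : orderOf (y * (x : G) * y⁻¹ * (x : G)⁻¹) = 1 :=
    Nat.eq_one_of_dvd_coprimes (coprime_of hH ((hK _).1 hmem.2))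
      (by rw [← orderOf_mk _ hmem.1]; exact orderOf_dvd_natCard _) dvd_rfl
  rw [orderOf_eq_one_iff] at h1
  exact mul_inv_eq_iff_eq_mul.1 (mul_inv_eq_one.1 h1)

/-! ### Subgroups -/

theorem TwoCl.subgroup (h : TwoCl π G) (U : Subgroup G) : TwoCl π U := by
  intro H hH P
  have e := H.equivMapOfInjective U.subtype U.subtype_injective
  haveI := Fact.mk Nat.prime_two
  have hP := h _ (by rwa [← Nat.card_congr e.toEquiv]) (P.mapSurjective (f := e.toMonoidHom) e.surjective)
  have := Normal.comap hP e.toMonoidHom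
  rwa [show ((P.mapSurjective (f := e.toMonoidHom) e.surjective : Sylow 2 _) : Subgroup _) =
    (P : Subgroup H).map e.toMonoidHom from rfl, comap_map_eq_self_of_injective e.injective] at this

theorem Hom.subgroup (h : Hom π G) (U : Subgroup G) : Hom π U := by
  intro H hH x hx hxo
  have hc := h (H.map U.subtype) (by rwa [card_map_of_injective U.subtype_injective]) x ?_
    (by rwa [orderOf_coe])
  · exact mem_centralizer_iff.2 fun y hy => Subtype.ext (mem_centralizer_iff.1 hc y ⟨y, hy, rfl⟩)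
  · refine mem_normalizer_iff.2 fun y => ⟨?_, ?_⟩
    · rintro ⟨z, hz, rfl⟩
      exact ⟨x * z * x⁻¹, (mem_normalizer_iff.1 hx z).1 hz, rfl⟩
    · rintro ⟨z, hz, e⟩
      refine ⟨x⁻¹ * z * x, ?_, ?_⟩
      · have := (mem_normalizer_iff.1 hx (x⁻¹ * z * x)).2 (by simpa [mul_assoc] using hz)
        exact this
      · have e' : (z : G) = x * y * (x : G)⁻¹ := e
        simp [e', mul_assoc]

/-! ### Quotients -/

variable {N : Subgroup G} [N.Normal]

/-- The preimage of a subgroup of the quotient. -/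
theorem card_preimage (H : Subgroup (G ⧸ N)) :
    Nat.card (H.comap (QuotientGroup.mk' N)) = Nat.card H * Nat.card N := by
  have h1 := (H.comap (QuotientGroup.mk' N)).card_mul_index
  rw [index_comap_of_surjective _ (QuotientGroup.mk'_surjective N), ← N.card_mul_index,
    Subgroup.index_eq_card N] at h1
  rw [← H.card_mul_index, mul_comm (Nat.card N), mul_assoc, mul_comm H.index, ← mul_assoc] at h1
  exact Nat.eq_of_mul_eq_mul_right (Nat.pos_of_ne_zero H.index_ne_zero_of_finite) h1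

theorem TwoCl.map (h : TwoCl π G) {H : Subgroup G} (hH : PiNum π (Nat.card H)) {G' : Type v} [Group G']
    [Finite G'] (f : G →* G') : ∀ P : Sylow 2 (H.map f), (P : Subgroup (H.map f)).Normal := by
  intro P
  haveI := Fact.mk Nat.prime_two
  obtain ⟨Q, hQ⟩ := Sylow.mapSurjective_surjective (f := f.subgroupMap H) (f.subgroupMap_surjective H) 2 P
  rw [← hQ, Sylow.coe_mapSurjective]
  exact (h H hH Q).map _ (f.subgroupMap_surjective H)

/-- A lift of a subgroup of coprime order. -/
theorem exists_lift (hN : CoNum π (Nat.card N)) (H : Subgroup (G ⧸ N)) (hH : PiNum π (Nat.card H)) :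
    ∃ L : Subgroup G, L ≤ H.comap (QuotientGroup.mk' N) ∧ Nat.card L = Nat.card H ∧
      L.map (QuotientGroup.mk' N) = H ∧ L ⊔ N = H.comap (QuotientGroup.mk' N) := by
  set M := H.comap (QuotientGroup.mk' N) with hM
  have hNM : N ≤ M := fun n hn => by
    show QuotientGroup.mk' N n ∈ H
    rw [QuotientGroup.mk'_apply, (QuotientGroup.eq_one_iff n).2 hn]
    exact H.one_mem
  have hi : (N.subgroupOf M).index = Nat.card H := by
    have h1 := (N.subgroupOf M).card_mul_index
    rw [Nat.card_congr (subgroupOfEquivOfLe hNM).toEquiv, card_preimage, mul_comm (Nat.card H)] at h1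
    exact Nat.eq_of_mul_eq_mul_left Nat.card_pos h1
  obtain ⟨L, hL⟩ := exists_right_complement'_of_coprime (N := N.subgroupOf M)
    (by rw [hi, Nat.card_congr (subgroupOfEquivOfLe hNM).toEquiv]; exact (coprime_of hH hN).symm)
  have hc : Nat.card (L.map M.subtype) = Nat.card H := by
    rw [card_map_of_injective M.subtype_injective]
    have h1 := hL.card_mul
    rw [Nat.card_congr (subgroupOfEquivOfLe hNM).toEquiv, card_preimage, mul_comm (Nat.card H)] at h1
    exact Nat.eq_of_mul_eq_mul_left Nat.card_pos h1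
  have hsup : L.map M.subtype ⊔ N = M := by
    refine le_antisymm (sup_le (map_subtype_le _) hNM) fun m hm => ?_
    obtain ⟨⟨⟨n, hn⟩, ⟨l, hl⟩⟩, e⟩ := hL.2 ⟨m, hm⟩
    have e' : (n : G) * (l : G) = m := congrArg Subtype.val e
    exact e' ▸ mul_mem (mem_sup_right hn) (mem_sup_left ⟨l, hl, rfl⟩)
  refine ⟨L.map M.subtype, map_subtype_le _, hc, ?_, hsup⟩
  refine le_antisymm ((map_mono (map_subtype_le _)).trans (map_comap_le _ _)) fun q hq => ?_
  obtain ⟨g, rfl⟩ := QuotientGroup.mk'_surjective N q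
  have hg : g ∈ L.map M.subtype ⊔ N := hsup.symm ▸ hq
  obtain ⟨l, hl, n, hn, rfl⟩ := Subgroup.mem_sup_of_normal_right.1 hg
  refine ⟨l, hl, ?_⟩
  rw [map_mul, QuotientGroup.mk'_apply N n, (QuotientGroup.eq_one_iff n).2 hn, mul_one]

theorem TwoCl.quotient_coNum (h : TwoCl π G) (hN : CoNum π (Nat.card N)) : TwoCl π (G ⧸ N) := by
  intro H hH
  obtain ⟨L, -, hc, hm, -⟩ := exists_lift hN H hH
  subst hm
  exact h.map (hc.symm ▸ hH) _

theorem coNum_of_lift (hN : CoNum π (Nat.card N)) {x : G} (hx : CoNum π (orderOf (QuotientGroup.mk' N x))) :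
    CoNum π (orderOf x) := by
  refine (hx.mul hN).of_dvd (orderOf_dvd_of_pow_eq_one ?_)
  rw [pow_mul]
  have hmem : x ^ orderOf (QuotientGroup.mk' N x) ∈ N := by
    rw [← QuotientGroup.eq_one_iff, QuotientGroup.mk_pow]
    exact pow_orderOf_eq_one _
  exact congrArg Subtype.val (pow_card_eq_one' (x := (⟨_, hmem⟩ : N)))

theorem Hom.quotient_coNum (h2 : 2 ∈ π) (h : Hom π G) (hN : CoNum π (Nat.card N)) : Hom π (G ⧸ N) := by
  intro H hH q hq hqo
  obtain ⟨g, rfl⟩ := QuotientGroup.mk'_surjective N q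
  obtain ⟨L, hLM, hc, hm, hsup⟩ := exists_lift hN H hH
  have hconj : CfsgLib.Coprime.conjBy g L ≤ L ⊔ N := by
    rw [hsup]
    intro y hy
    rw [CfsgLib.Coprime.mem_conjBy] at hy
    have := (mem_normalizer_iff.1 hq _).1 (hLM hy)
    show QuotientGroup.mk' N y ∈ H
    simpa [mul_assoc] using this
  obtain ⟨k, hk, e⟩ := CfsgLib.Coprime.sz_conj_in (A := L) (B := CfsgLib.Coprime.conjBy g L) (N := N)
    (le_top.trans (normalizer_eq_top N).ge) (coprime_of (hc.symm ▸ hH) hN).symm hconj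
    (CfsgLib.Coprime.card_conjBy g L) (Or.inr (isSolvable_of_coNum h2 hN))
  rw [CfsgLib.Coprime.conjBy_conjBy] at e
  have hkg : QuotientGroup.mk' N (k * g) = QuotientGroup.mk' N g := by
    rw [map_mul, QuotientGroup.mk'_apply N k, (QuotientGroup.eq_one_iff k).2 hk, one_mul]
  have hC := h L (hc.symm ▸ hH) (k * g) (mem_normalizer_iff_conj_image_eq.2 (congrArg SetLike.coe e))
    (coNum_of_lift hN (hkg.symm ▸ hqo))
  rw [← hkg]
  refine mem_centralizer_iff.2 fun y hy => ?_
  obtain ⟨l, hl, rfl⟩ := hm.symm ▸ hy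
  rw [← map_mul, ← map_mul, mem_centralizer_iff.1 hC l hl]

theorem closed_of_quotient_coNum (hN : CoNum π (Nat.card N)) (h : Closed π (G ⧸ N)) : Closed π G := by
  obtain ⟨K, hK⟩ := h
  refine ⟨K.comap (QuotientGroup.mk' N), fun x => ?_⟩
  rw [mem_comap, hK]
  exact ⟨coNum_of_lift hN, fun hx => hx.of_dvd (orderOf_map_dvd _ x)⟩

/-- A `π'`-element lifting a `π'`-element modulo a `π`-group. -/
theorem exists_coNum_lift (hN : PiNum π (Nat.card N)) {q : G ⧸ N} (hq : CoNum π (orderOf q)) :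
    ∃ x : G, CoNum π (orderOf x) ∧ QuotientGroup.mk' N x = q := by
  obtain ⟨g, rfl⟩ := QuotientGroup.mk'_surjective N q
  set a := orderOf (QuotientGroup.mk' N g) with ha
  have hcop := coprime_of hN hq
  obtain ⟨b, hb⟩ : ∃ b, Nat.card N * b % a = 1 % a := by
    rcases Nat.lt_or_ge 1 a with h1 | h1
    · obtain ⟨b, -, hb⟩ := Nat.exists_mul_mod_eq_one_of_coprime hcop h1
      exact ⟨b, by rw [hb, Nat.mod_eq_of_lt h1]⟩
    · have ha0 : 0 < a := orderOf_pos _
      have ha1 : a = 1 := le_antisymm h1 ha0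
      exact ⟨1, by rw [ha1, Nat.mod_one, Nat.mod_one]⟩
  refine ⟨g ^ (Nat.card N * b), hq.of_dvd (orderOf_dvd_of_pow_eq_one ?_), ?_⟩
  · rw [← pow_mul, show Nat.card N * b * a = a * Nat.card N * b by ring, pow_mul, pow_mul]
    have hmem : g ^ a ∈ N := by
      rw [← QuotientGroup.eq_one_iff, QuotientGroup.mk_pow]
      exact pow_orderOf_eq_one _
    rw [show (g ^ a) ^ Nat.card N = 1 from congrArg Subtype.val (pow_card_eq_one' (x := (⟨_, hmem⟩ : N))),
      one_pow]
  · rw [map_pow]
    conv_rhs => rw [← pow_one (QuotientGroup.mk' N g)]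
    exact pow_eq_pow_iff_modEq.2 hb

theorem TwoCl.quotient_piNum (h : TwoCl π G) (hN : PiNum π (Nat.card N)) : TwoCl π (G ⧸ N) := by
  intro H hH
  have hc := card_preimage (N := N) H
  have hm : (H.comap (QuotientGroup.mk' N)).map (QuotientGroup.mk' N) = H :=
    map_comap_eq_self_of_surjective (QuotientGroup.mk'_surjective N) H
  rw [← hm]
  exact h.map (hc ▸ hH.mul hN) _

theorem Hom.quotient_piNum (h : Hom π G) (hN : PiNum π (Nat.card N)) : Hom π (G ⧸ N) := by
  intro H hH q hq hqo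
  obtain ⟨x, hxo, rfl⟩ := exists_coNum_lift hN hqo
  have hC := h _ (card_preimage (N := N) H ▸ hH.mul hN) x
    (mem_normalizer_iff.2 fun y => by
      show QuotientGroup.mk' N y ∈ H ↔ QuotientGroup.mk' N (x * y * x⁻¹) ∈ H
      rw [map_mul, map_mul, map_inv]
      exact mem_normalizer_iff.1 hq _) hxo
  refine mem_centralizer_iff.2 fun y hy => ?_
  obtain ⟨l, rfl⟩ := QuotientGroup.mk'_surjective N y
  rw [← map_mul, ← map_mul, mem_centralizer_iff.1 hC l hy]

theorem closed_of_quotient_piNum (hN : PiNum π (Nat.card N)) (hcen : ∀ n ∈ N, ∀ g : G, g * n = n * g)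
    (h : Closed π (G ⧸ N)) : Closed π G := by
  obtain ⟨K, hK⟩ := h
  have hKc : CoNum π (Nat.card K) := coNum_card_iff.2 fun x hx => (hK x).1 hx
  set M := K.comap (QuotientGroup.mk' N)
  have hNM : N ≤ M := fun n hn => by
    show QuotientGroup.mk' N n ∈ K
    rw [QuotientGroup.mk'_apply, (QuotientGroup.eq_one_iff n).2 hn]
    exact K.one_mem
  have hi : (N.subgroupOf M).index = Nat.card K := by
    have h1 := (N.subgroupOf M).card_mul_index
    rw [Nat.card_congr (subgroupOfEquivOfLe hNM).toEquiv, card_preimage, mul_comm (Nat.card K)] at h1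
    exact Nat.eq_of_mul_eq_mul_left Nat.card_pos h1
  obtain ⟨L, hL⟩ := exists_right_complement'_of_coprime (N := N.subgroupOf M)
    (by rw [hi, Nat.card_congr (subgroupOfEquivOfLe hNM).toEquiv]; exact coprime_of hN hKc)
  have hLc : CoNum π (Nat.card L) := by
    rw [← hL.symm.index_eq_card, hi]; exact hKc
  refine ⟨L.map M.subtype, fun x => ⟨?_, fun hx => ?_⟩⟩
  · rintro ⟨l, hl, rfl⟩
    exact hLc.of_dvd (by rw [coe_subtype, orderOf_coe, ← orderOf_mk l hl]; exact orderOf_dvd_natCard _)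
  · have hxM : x ∈ M := (hK _).2 (hx.of_dvd (orderOf_map_dvd _ x))
    obtain ⟨⟨⟨n, hn⟩, ⟨l, hl⟩⟩, e⟩ := hL.2 ⟨x, hxM⟩
    have e' : (n : G) * (l : G) = x := congrArg Subtype.val e
    have hcomm : Commute (n : G) (l : G) := (hcen _ hn _).symm
    have hlo : CoNum π (orderOf (l : G)) :=
      hLc.of_dvd (by rw [orderOf_coe, ← orderOf_mk l hl]; exact orderOf_dvd_natCard _)
    have hno : orderOf (n : G) = 1 := by
      refine Nat.eq_one_of_dvd_coprimes (coprime_of (hN.of_dvd
        (show orderOf (n : G) ∣ Nat.card N by rw [← orderOf_mk (n : G) (mem_subgroupOf.1 hn)]; exact orderOf_dvd_natCard _))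
        (hx.mul hlo)) dvd_rfl ?_
      have : (n : G) = x * (l : G)⁻¹ := by rw [← e', mul_inv_cancel_right]
      rw [this]
      refine ((Commute.orderOf_mul_dvd_lcm ?_).trans (Nat.lcm_dvd_mul _ _)).trans (by rw [orderOf_inv])
      rw [← e']
      exact (hcomm.mul_left (Commute.refl _)).inv_right
    rw [orderOf_eq_one_iff] at hno
    exact ⟨l, hl, by rw [← e', hno, one_mul]; rfl⟩

/-! ### Reduction to simple groups -/

/-- Induction: it suffices to rule out simple groups all of whose proper subgroups are closed. -/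
theorem closed_of (h2 : 2 ∈ π)
    (step : ∀ (G : Type u) [Group G] [Finite G] [IsSimpleGroup G], ¬ IsMulCommutative G → TwoCl π G →
      Hom π G → (∀ U : Subgroup G, U ≠ ⊤ → Closed π U) → False) :
    ∀ (G : Type u) [Group G] [Finite G], TwoCl π G → Hom π G → Closed π G := by
  intro G _ _
  induction hn : Nat.card G using Nat.strong_induction_on generalizing G with
  | _ k ih =>
  subst hn
  intro hT hH
  classical
  have hU : ∀ U : Subgroup G, U ≠ ⊤ → Closed π U := fun U hU => by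
    refine ih _ (lt_of_le_of_ne (Nat.le_of_dvd Nat.card_pos (card_subgroup_dvd_card U)) fun e => hU ?_) U rfl
      (hT.subgroup U) (hH.subgroup U)
    exact eq_top_of_card_eq U e
  have hquot : ∀ N : Subgroup G, [N.Normal] → N ≠ ⊥ → Nat.card (G ⧸ N) < Nat.card G := fun N _ hb => by
    rw [← Subgroup.index_eq_card, ← N.card_mul_index]
    exact lt_mul_of_one_lt_left (Nat.pos_of_ne_zero N.index_ne_zero_of_finite)
      ((one_lt_card_iff_ne_bot N).2 hb)
  by_cases hex : ∃ N : Subgroup G, N.Normal ∧ N ≠ ⊥ ∧ N ≠ ⊤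
  · obtain ⟨N, hN, hb, ht⟩ := hex
    haveI := hN
    obtain ⟨K, hK⟩ := hU N ht
    by_cases hK1 : K = ⊥
    · have hNp : PiNum π (Nat.card N) := by
        intro p hp hd
        by_contra hπ
        haveI := Fact.mk hp
        obtain ⟨x, hx⟩ := exists_prime_orderOf_dvd_card' p hd
        have : x ∈ K := (hK x).2 (hx ▸ (pow_one p ▸ coNum_pow hp hπ 1))
        rw [hK1, mem_bot] at this
        rw [this, orderOf_one] at hx
        exact hp.ne_one hx.symm
      have hcent : ∀ x : G, CoNum π (orderOf x) → x ∈ centralizer (N : Set G) := fun x hx =>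
        hH N hNp x (normalizer_eq_top N ▸ mem_top x) hx
      by_cases hC : centralizer (N : Set G) = ⊤
      · refine closed_of_quotient_piNum hNp (fun n hn g => (mem_centralizer_iff.1 (hC ▸ mem_top g) n hn).symm) ?_
        exact ih _ (hquot N hb) _ rfl (hT.quotient_piNum hNp) (hH.quotient_piNum hNp)
      · obtain ⟨L, hL⟩ := hU _ hC
        refine ⟨L.map (centralizer (N : Set G)).subtype, fun x => ⟨?_, fun hx => ?_⟩⟩
        · rintro ⟨y, hy, rfl⟩
          rw [coe_subtype, orderOf_coe]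
          exact (hL y).1 hy
        · exact ⟨⟨x, hcent x hx⟩, (hL _).2 (by rwa [orderOf_mk]), rfl⟩
    · set K' := K.map N.subtype
      haveI hKn : K'.Normal := ⟨by
        rintro _ ⟨y, hy, rfl⟩ g
        refine ⟨⟨g * (y : G) * g⁻¹, hN.conj_mem _ y.2 g⟩, (hK _).2 ?_, rfl⟩
        rw [orderOf_mk, show g * (y : G) * g⁻¹ = MulAut.conj g (y : G) from rfl, MulEquiv.orderOf_eq,
          orderOf_coe]
        exact (hK y).1 hy⟩
      have hKc : CoNum π (Nat.card K') := by
        rw [card_map_of_injective N.subtype_injective]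
        exact coNum_card_iff.2 fun x hx => (hK x).1 hx
      have hKb : K' ≠ ⊥ := fun e => hK1 ((map_eq_bot_iff_of_injective _ N.subtype_injective).1 e)
      exact closed_of_quotient_coNum hKc
        (ih _ (hquot K' hKb) _ rfl (hT.quotient_coNum hKc) (hH.quotient_coNum h2 hKc))
  push Not at hex
  by_cases hcomm : IsMulCommutative G
  · refine ⟨{ carrier := {x | CoNum π (orderOf x)}
              one_mem' := by simpa using coNum_one
              mul_mem' := fun {a b} ha hb => ((ha.mul hb).of_dvd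
                ((Commute.orderOf_mul_dvd_lcm (hcomm.is_comm.comm a b)).trans (Nat.lcm_dvd_mul _ _)))
              inv_mem' := fun {a} ha => by simpa using ha }, fun x => Iff.rfl⟩
  · haveI : Nontrivial G := by
      by_contra hne
      rw [not_nontrivial_iff_subsingleton] at hne
      exact hcomm ⟨⟨fun a b => Subsingleton.elim _ _⟩⟩
    haveI : IsSimpleGroup G := ⟨fun N hN => or_iff_not_imp_left.2 (hex N hN)⟩
    exact (step G hcomm hT hH hU).elim

end CfsgLib.PiHom
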