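import Cfsg.Agent.Lib.Block.Subsection
import Cfsg.Agent.Lib.Block.Principal
import Cfsg.Agent.Lib.Block.CoprimeKernel
import Cfsg.Agent.Lib.Block.StarFun
import Cfsg.Agent.Lib.Char.Brauer
import Cfsg.Agent.Lib.Char.ClassMul
import Cfsg.Agent.Lib.Char.SectionIndicator

/-!
# Class functions constant on 2-sections, and columns of the principal 2-block

A class function constant on sections is supported on the principal block.  If the centralizer of a
2-element `u` has a normal subgroup of odd order and index `m`, the column of `u` in the principal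
block has norm at most `m`.  A function of the 2-part whose values on a Sylow 2-subgroup form a
generalized character is a generalized character.
-/

set_option autoImplicit false
set_option linter.unusedSectionVars false
set_option linter.style.haveILetI false

open Finset
open scoped ComplexConjugate

namespace CfsgLib.PiHom

open Cfsg CfsgLib.Block

universe u

variable {M : Ideal AlgInt} [M.IsMaximal] {G : Type u} [Group G] [Fintype G] [DecidableEq G]

theorem pPt_conj (hM : IsPModular 2 M) (g c : G) : pPt hM (c * g * c⁻¹) = c * pPt hM g * c⁻¹ :=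
  isPPart_unique hM.1 (isPPart_pPt hM _) (CfsgLib.Block.isPPart_conj (isPPart_pPt hM g) c)

theorem pPt_of_twoPow (hM : IsPModular 2 M) {s : G} (hs : ∃ k, orderOf s = 2 ^ k) : pPt hM s = s :=
  isPPart_unique hM.1 (isPPart_pPt hM s) ⟨1, mul_one _, Commute.one_right _, hs, by simp⟩

theorem isClassFunction_comp_pPt (hM : IsPModular 2 M) {f : G → ℂ} (hf : IsClassFunction G f) :
    IsClassFunction G (fun g => f (pPt hM g)) := fun g c => by
  show f (pPt hM (c * g * c⁻¹)) = f (pPt hM g)
  rw [pPt_conj, hf]

variable [Fintype (IrrCharacter G)]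

/-- A class function constant on the sections is orthogonal to the other blocks. -/
theorem classInner_eq_zero_of_section (hM : IsPModular 2 M) {f : G → ℂ} (hf : IsClassFunction G f)
    {χ : IrrCharacter G} (hχ : χ ∉ principalBlock M G) :
    classInner (fun g => f (pPt hM g)) (χ : G → ℂ) = 0 := by
  classical
  set F : G → ℂ := fun g => f (pPt hM g) with hF
  set s : Finset (IrrCharacter G) := Finset.univ.filter (· ∈ principalBlock M G) with hs
  have hone : ∀ ψ : IrrCharacter G, (Nat.card G : ℂ)⁻¹ * ∑ g : G, conj ((ψ : G → ℂ) g) =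
      if oneChar G = ψ then 1 else 0 := fun ψ => by
    rw [← Char.classInner_irr (oneChar G) ψ, classInner]
    simp [oneChar]
  have hK : ∀ g, F g = ∑ ψ ∈ s, classInner F (ψ : G → ℂ) * (ψ : G → ℂ) g := by
    intro g
    have hterm : ∀ x : G, ∑ ψ ∈ s, F x * conj ((ψ : G → ℂ) x) * (ψ : G → ℂ) g =
        F g * ∑ ψ ∈ s, conj ((ψ : G → ℂ) x) * (ψ : G → ℂ) g := fun x => by
      by_cases hx : IsConj (pPt hM g) (pPt hM x)
      · rw [Finset.mul_sum, show F x = F g from (Char.classFun_isConj hf hx).symm]
        exact Finset.sum_congr rfl fun ψ _ => by ring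
      · have h0 := blockUnion_orthogonal_conj hM (.of_isPBlock (isPBlock_principalBlock (M := M) (G := G)))
          (isPPart_pPt hM g) (isPPart_pPt hM x) hx
        rw [finsum_mem_eq_toFinset_sum] at h0
        have h1 : ∑ ψ ∈ s, conj ((ψ : G → ℂ) x) * (ψ : G → ℂ) g = 0 := by
          rw [← h0]
          exact Finset.sum_congr (by ext; simp [hs]) fun ψ _ => mul_comm _ _
        rw [h1, mul_zero]
        simp only [mul_assoc, ← Finset.mul_sum, h1, mul_zero]
    simp only [classInner, mul_assoc, Finset.sum_mul]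
    rw [← Finset.mul_sum, Finset.sum_comm]
    simp only [← mul_assoc]
    rw [Finset.sum_congr rfl fun x _ => hterm x, ← Finset.mul_sum, Finset.sum_comm, mul_left_comm, Finset.mul_sum]
    simp only [← Finset.sum_mul, ← mul_assoc, hone]
    rw [Finset.sum_eq_single (oneChar G)]
    · simp [oneChar]
    · intro ψ _ hne
      rw [if_neg (Ne.symm hne), zero_mul]
    · intro hn
      exact absurd (Finset.mem_filter.2 ⟨Finset.mem_univ _, one_mem_principalBlock⟩) hn
  have hFs : F = ∑ ψ ∈ s, classInner F (ψ : G → ℂ) • (ψ : G → ℂ) := funext fun g => by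
    rw [hK g, Finset.sum_apply]
    exact Finset.sum_congr rfl fun ψ _ => rfl
  rw [hFs, Char.classInner_sum_left]
  refine Finset.sum_eq_zero fun ψ hψ => ?_
  rw [Char.classInner_smul_left, Char.classInner_irr_ne (show ψ ≠ χ from fun e => hχ (e ▸ (Finset.mem_filter.1 hψ).2)), mul_zero]

/-- The norm of a column of the principal block. -/
theorem sum_principal_le (hM : IsPModular 2 M) {u : G} (hu : ∃ k, orderOf u = 2 ^ k) {O : Subgroup G}
    (hodd : Odd (Nat.card O)) (hOC : O ≤ Subgroup.centralizer ({u} : Set G))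
    (hn : ∀ x ∈ Subgroup.centralizer ({u} : Set G), ∀ o ∈ O, x * o * x⁻¹ ∈ O)
    (s : Finset (IrrCharacter G)) (hs : ∀ χ ∈ s, χ ∈ principalBlock M G) :
    ∑ χ ∈ s, Complex.normSq ((χ : G → ℂ) u) ≤ (O.subgroupOf (Subgroup.centralizer ({u} : Set G))).index := by
  classical
  set C := Subgroup.centralizer ({u} : Set G) with hCdef
  set N := O.subgroupOf C with hN
  haveI : N.Normal := ⟨fun o ho g => Subgroup.mem_subgroupOf.2 (hn g g.2 o (Subgroup.mem_subgroupOf.1 ho))⟩
  have hNodd : ¬ 2 ∣ Nat.card N := by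
    rw [Nat.card_congr (Subgroup.subgroupOfEquivOfLe hOC).toEquiv, ← even_iff_two_dvd, Nat.not_even_iff_odd]
    exact hodd
  have hC : ∀ t : G, t ∈ C ↔ Commute t u := fun t => Subgroup.mem_centralizer_singleton_iff
  letI := Fintype.ofFinite (IrrCharacter C)
  have hT : ∀ b, b ∈ ({principalBlock M C} : Finset (Set (IrrCharacter C))) ↔
      IsInducedBlock M C b (principalBlock M G) := by
    intro b
    rw [Finset.mem_singleton]
    constructor
    · rintro rfl
      obtain ⟨B, hB⟩ := exists_induced_centralizer hM hu hC (isPBlock_principalBlock (M := M) (G := C))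
      rwa [(isInducedBlock_principal_iff hM hB).mpr rfl] at hB
    · intro hb
      exact (isInducedBlock_principal_iff hM hb).mp rfl
  have h11 : ¬ 2 ∣ orderOf (1 : C) := by simp
  have h := sum_mem_block_secFun hM hu hC (isPBlock_principalBlock (M := M) (G := G)) {principalBlock M C} hT h11 h11
  simp only [Subgroup.coe_one, mul_one, Finset.sum_singleton, finsum_mem_eq_toFinset_sum] at h
  choose d hd using fun η : IrrCharacter C => Char.isCharacter_degree (Char.isCharacter_irr η)
  choose m hm using fun η : IrrCharacter C => Char.classInner_isCharacter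
    (Char.isCharacter_comp (Char.isCharacter_irr η) N.subtype)
    (Char.isCharacter_irr (oneChar N))
  have hsum : ((∑ η : IrrCharacter C, d η * m η : ℕ) : ℂ) = (N.index : ℂ) := by
    push_cast
    have e1 : ∀ η : IrrCharacter C, (d η : ℂ) * (m η : ℂ) =
        (Nat.card N : ℂ)⁻¹ * ∑ x : N, (η : C → ℂ) x * conj ((η : C → ℂ) 1) := fun η => by
      rw [← hm η, classInner, hd η, map_natCast, ← Finset.sum_mul, ← mul_assoc]
      simp only [oneChar, map_one, mul_one, Subgroup.coe_subtype]
      ring
    rw [Finset.sum_congr rfl fun η _ => e1 η, ← Finset.mul_sum, Finset.sum_comm]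
    simp only [Char.sum_irr_mul_conj]
    rw [Finset.sum_eq_single (1 : N) (fun x _ hx => if_neg fun hc => hx ?_)
      (fun hh => absurd (Finset.mem_univ _) hh), if_pos (show IsConj ((1 : N) : C) 1 from IsConj.refl _), inv_mul_eq_iff_eq_mul₀ Char.card_ne_zero',
      ← Nat.cast_mul, N.card_mul_index]
    · rw [show Subgroup.centralizer ({((1 : N) : C)} : Set C) = ⊤ from eq_top_iff.2 fun z _ =>
        Subgroup.mem_centralizer_singleton_iff.2 (by simp), Subgroup.card_top]
    · exact Subtype.ext (isConj_one_left.1 hc)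
  have hle : ∀ η ∈ (principalBlock M C).toFinset, (η : C → ℂ) 1 * conj ((η : C → ℂ) 1) = ((d η * m η : ℕ) : ℂ) := by
    intro η hη
    rw [Set.mem_toFinset] at hη
    have htriv : ∀ x : N, (η : C → ℂ) x = (η : C → ℂ) 1 := fun x =>
      trivial_of_sameBlock hM hNodd (χ := oneChar C) (show SameBlock M _ _ from hη) (fun _ _ => rfl) x.2
    have hmd : (m η : ℂ) = (d η : ℂ) := by
      rw [← hm η, classInner]
      simp only [oneChar, map_one, mul_one, Subgroup.coe_subtype, htriv, hd η, Finset.sum_const, Finset.card_univ,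
        nsmul_eq_mul, ← Nat.card_eq_fintype_card]
      exact inv_mul_cancel_left₀ Char.card_ne_zero' _
    rw [hd η, map_natCast, Nat.cast_mul, hmd]
  rw [Finset.sum_congr rfl hle] at h
  have hre : ∑ χ ∈ Finset.univ.filter (· ∈ principalBlock M G), Complex.normSq ((χ : G → ℂ) u) =
      ((∑ η ∈ (principalBlock M C).toFinset, d η * m η : ℕ) : ℝ) := by
    have h1 := congrArg Complex.re h
    rw [Complex.re_sum, ← Nat.cast_sum, Complex.natCast_re] at h1
    rw [← h1]
    exact Finset.sum_congr rfl fun χ _ => by rw [Complex.mul_conj, Complex.ofReal_re]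
  refine le_trans (Finset.sum_le_sum_of_subset_of_nonneg (fun χ hχ => Finset.mem_filter.2 ⟨Finset.mem_univ _, hs χ hχ⟩)
    fun χ _ _ => Complex.normSq_nonneg _) ?_
  rw [hre, Nat.cast_le]
  have hN' : ∑ η : IrrCharacter C, d η * m η = N.index := by exact_mod_cast hsum
  rw [← hN']
  exact Finset.sum_le_univ_sum_of_nonneg fun η => Nat.zero_le _

/-- A function of the 2-part is a generalized character if its restriction to a Sylow 2-subgroup is. -/
theorem isGeneralizedCharacter_comp_pPt (hM : IsPModular 2 M) {f : G → ℂ} (hf : IsClassFunction G f)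
    (S : Sylow 2 G) (hS : IsGeneralizedCharacter (S : Subgroup G) (fun s => f s)) :
    IsGeneralizedCharacter G (fun g => f (pPt hM g)) := by
  classical
  haveI := Fact.mk Nat.prime_two
  refine Char.isGeneralizedCharacter_of_elementary (isClassFunction_comp_pPt hM hf) fun H p hp hH => ?_
  haveI := Char.isNilpotent_of_isElementary hp hH
  obtain ⟨k, r, hr, hcard⟩ := Nat.exists_eq_pow_mul_and_not_dvd (Nat.card_pos (α := H)).ne' 2 (by norm_num)
  have hcop : (2 ^ k).Coprime r := Nat.Coprime.pow_left k (Nat.prime_two.coprime_iff_not_dvd.2 hr)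
  obtain ⟨A, B, hA, hB, hAB, hcomm, hdis⟩ := Char.SectionIndicator.exists_split hcop (dvd_of_eq hcard)
  have hbij : Function.Bijective (fun q : A × B => (q.1 : H) * q.2) := by
    haveI := Fintype.ofFinite A
    haveI := Fintype.ofFinite B
    refine (Fintype.bijective_iff_injective_and_card _).2 ⟨fun q q' h => ?_, ?_⟩
    · have h' : (q'.1 : H)⁻¹ * q.1 = q'.2 * (q.2 : H)⁻¹ := by
        rw [eq_mul_inv_iff_mul_eq, mul_assoc, inv_mul_eq_iff_eq_mul]; exact h
      have h0 : (q'.1 : H)⁻¹ * q.1 ∈ A ⊓ B :=
        Subgroup.mem_inf.2 ⟨mul_mem (inv_mem q'.1.2) q.1.2, h' ▸ mul_mem q'.2.2 (inv_mem q.2.2)⟩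
      rw [hdis, Subgroup.mem_bot] at h0
      rw [h0, eq_comm, mul_inv_eq_one] at h'
      exact Prod.ext (Subtype.ext (inv_mul_eq_one.1 h0).symm) (Subtype.ext h'.symm)
    · rw [Fintype.card_prod]
      simpa [Nat.card_eq_fintype_card] using hAB
  -- the projection on the 2-part
  let e := Equiv.ofBijective _ hbij
  have hmul : ∀ x y : H, (e.symm (x * y)).1 = (e.symm x).1 * (e.symm y).1 := by
    intro x y
    obtain ⟨⟨a, b⟩, rfl⟩ := e.surjective x
    obtain ⟨⟨a', b'⟩, rfl⟩ := e.surjective y
    have h1 : e (a, b) * e (a', b') = e (a * a', b * b') := by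
      show (a : H) * b * ((a' : H) * b') = (a : H) * a' * ((b : H) * b')
      exact Commute.mul_mul_mul_comm (hcomm a' a'.2 b b.2).symm _ _
    rw [h1, e.symm_apply_apply, e.symm_apply_apply, e.symm_apply_apply]
  let θ : H →* G := MonoidHom.mk' (fun x => (((e.symm x).1 : H) : G)) fun x y => by
    simp only [hmul, Subgroup.coe_mul]
  have hθ : ∀ x : H, pPt hM (x : G) = θ x := by
    intro x
    obtain ⟨⟨a, b⟩, rfl⟩ := e.surjective x
    show pPt hM _ = (((e.symm (e (a, b))).1 : H) : G)
    rw [e.symm_apply_apply]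
    refine isPPart_unique hM.1 (isPPart_pPt hM _) ⟨((b : H) : G), rfl,
      congrArg Subtype.val (hcomm a a.2 b b.2).eq, ?_, ?_⟩
    · obtain ⟨j, -, hj⟩ := (Nat.dvd_prime_pow Nat.prime_two).1 ((orderOf_dvd_natCard a).trans hA)
      exact ⟨j, by rw [← hj, Subgroup.orderOf_coe, Subgroup.orderOf_coe]⟩
    · intro hd
      rw [Subgroup.orderOf_coe, Subgroup.orderOf_coe] at hd
      exact hr (hd.trans ((orderOf_dvd_natCard b).trans hB))
  have hp2 : IsPGroup 2 θ.range := by
    rintro ⟨_, x, rfl⟩
    obtain ⟨j, hj⟩ := pPow_pPt hM (x : G)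
    refine ⟨j, Subtype.ext ?_⟩
    show (θ x) ^ 2 ^ j = 1
    rw [← hθ x, ← hj]
    exact pow_orderOf_eq_one _
  obtain ⟨R, hR⟩ := hp2.exists_le_sylow
  obtain ⟨c, hc⟩ := MulAction.exists_smul_eq G R S
  let ψ : H →* (S : Subgroup G) := ((MulAut.conj c).toMonoidHom.comp θ).codRestrict (S : Subgroup G) fun x => by
    rw [← hc, Sylow.coe_subgroup_smul]
    exact ⟨θ x, hR ⟨x, rfl⟩, rfl⟩
  have := Char.isGeneralizedCharacter_comp hS ψ
  convert this using 2 with x
  show f (pPt hM (x : G)) = f (c * θ x * c⁻¹)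
  rw [hθ, hf]

end CfsgLib.PiHom
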