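import Cfsg.Agent.Lib.PiHom.Action

/-!
# The permutations of the cosets of `E` in `S`
-/

set_option autoImplicit false
set_option linter.unusedSectionVars false
set_option linter.style.haveILetI false

open Subgroup

namespace CfsgLib.PiHom

universe u

variable {π : Set ℕ} {G : Type u} [Group G] [Finite G]

namespace Frame

variable {S : Sylow 2 G} {E : Subgroup G}

/-- The cosets of `E` in `S`. -/
abbrev Cosets (S : Sylow 2 G) (E : Subgroup G) := (S : Subgroup G) ⧸ E.subgroupOf (S : Subgroup G)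

variable (hF : Frame S E)
include hF

theorem cosets_eq {a b : (S : Subgroup G)} :
    ((a : Cosets S E) = b) ↔ (a : G)⁻¹ * b ∈ E := by
  rw [QuotientGroup.eq, mem_subgroupOf]
  rfl

/-- Conjugation by an element of `N(S)` on the cosets of `E`. -/
def cosetMap (n : normalizer ((S : Subgroup G) : Set G)) : Cosets S E → Cosets S E :=
  Quotient.map' (fun s => (S : Subgroup G).normalizerMonoidHom n s) fun a b hab => by
    rw [QuotientGroup.leftRel_apply, mem_subgroupOf] at hab ⊢
    show ((n : G) * a * (n : G)⁻¹)⁻¹ * ((n : G) * b * (n : G)⁻¹) ∈ E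
    rw [show ((n : G) * a * (n : G)⁻¹)⁻¹ * ((n : G) * b * (n : G)⁻¹) = (n : G) * ((a : G)⁻¹ * b) * (n : G)⁻¹ by group]
    exact hF.conj_mem n.2 hab

/-- The action of `N(S)` on the cosets of `E`. -/
def cosetHom : normalizer ((S : Subgroup G) : Set G) →* Equiv.Perm (Cosets S E) :=
  MonoidHom.mk'
    (fun n =>
      { toFun := hF.cosetMap n
        invFun := hF.cosetMap n⁻¹
        left_inv := fun q => Quotient.inductionOn' q fun s => congrArg QuotientGroup.mk (Subtype.ext
          (show (n : G)⁻¹ * ((n : G) * s * (n : G)⁻¹) * ((n : G)⁻¹)⁻¹ = s by group))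
        right_inv := fun q => Quotient.inductionOn' q fun s => congrArg QuotientGroup.mk (Subtype.ext
          (show (n : G) * ((n : G)⁻¹ * s * ((n : G)⁻¹)⁻¹) * (n : G)⁻¹ = s by group)) })
    fun a b => Equiv.ext fun q => Quotient.inductionOn' q fun s => congrArg QuotientGroup.mk (Subtype.ext
      (show ((a : G) * b) * s * ((a : G) * b)⁻¹ = (a : G) * ((b : G) * s * (b : G)⁻¹) * (a : G)⁻¹ by group))

theorem cosetHom_apply (n : normalizer ((S : Subgroup G) : Set G)) (s : (S : Subgroup G)) :
    hF.cosetHom n (s : Cosets S E) =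
      ((⟨(n : G) * s * (n : G)⁻¹, (mem_normalizer_iff.1 n.2 _).1 s.2⟩ : (S : Subgroup G)) : Cosets S E) :=
  rfl

theorem cosetHom_eq_one_iff (n : normalizer ((S : Subgroup G) : Set G)) :
    hF.cosetHom n = 1 ↔ ∀ s ∈ (S : Subgroup G), s⁻¹ * ((n : G) * s * (n : G)⁻¹) ∈ E := by
  constructor
  · intro h s hs
    have h1 := Equiv.ext_iff.1 h ((⟨s, hs⟩ : (S : Subgroup G)) : Cosets S E)
    rw [hF.cosetHom_apply] at h1
    exact hF.cosets_eq.1 h1.symm
  · intro h
    refine Equiv.ext fun q => Quotient.inductionOn' q fun s => ?_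
    exact (hF.cosets_eq.2 (h s s.2)).symm

theorem cosetHom_sylow {n : normalizer ((S : Subgroup G) : Set G)} (hn : (n : G) ∈ (S : Subgroup G)) :
    hF.cosetHom n = 1 :=
  (hF.cosetHom_eq_one_iff n).2 fun s hs => by
    have := hF.comm s⁻¹ (inv_mem hs) (n : G) hn
    rwa [inv_inv, show s⁻¹ * (n : G) * s * (n : G)⁻¹ = s⁻¹ * ((n : G) * s * (n : G)⁻¹) by group] at this

theorem cosetHom_centralizing {n : normalizer ((S : Subgroup G) : Set G)}
    (hn : ∀ s ∈ (S : Subgroup G), Commute (n : G) s) : hF.cosetHom n = 1 :=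
  (hF.cosetHom_eq_one_iff n).2 fun s hs => by
    rw [(hn s hs).eq, mul_inv_cancel_right, inv_mul_cancel]
    exact E.one_mem

theorem exists_odd (n : normalizer ((S : Subgroup G) : Set G)) :
    ∃ m : normalizer ((S : Subgroup G) : Set G), m ∈ zpowers n ∧ Odd (orderOf (m : G)) ∧
      hF.cosetHom m = hF.cosetHom n := by
  obtain ⟨i, r, hr, hno⟩ := Nat.exists_eq_pow_mul_and_not_dvd (orderOf_pos n).ne' 2 (by norm_num)
  have hro : Odd r := Nat.odd_iff.2 (Nat.two_dvd_ne_zero.1 hr)
  have h1 : hF.cosetHom n ^ r = 1 := by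
    rw [← map_pow]
    refine hF.cosetHom_sylow (mem_sylow_of_normalizer S (n ^ r).2 (k := i) (orderOf_dvd_of_pow_eq_one ?_))
    rw [← SubmonoidClass.coe_pow, ← pow_mul, mul_comm, ← hno, pow_orderOf_eq_one, OneMemClass.coe_one]
  obtain ⟨z, hz⟩ := mem_zpowers_iff.1 (mem_zpowers_pow_of_coprime (m := 2 ^ i)
    (Nat.Coprime.coprime_dvd_left (orderOf_dvd_of_pow_eq_one h1)
      (Nat.Coprime.pow_right i (Nat.coprime_two_right.2 hro))))
  refine ⟨(n ^ 2 ^ i) ^ z, zpow_mem (pow_mem (mem_zpowers n) _) _, hro.of_dvd_nat ?_, ?_⟩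
  · rw [orderOf_coe]
    refine orderOf_dvd_of_pow_eq_one ?_
    rw [← zpow_natCast, ← zpow_mul, mul_comm, zpow_mul, zpow_natCast, ← pow_mul, ← hno, pow_orderOf_eq_one,
      one_zpow]
  · rw [map_zpow, map_pow, hz]

/-- The square of a coset. -/
def cosetSq : Cosets S E → G :=
  fun q => Quotient.liftOn' q (fun s => (s : G) * s) fun a b hab => by
    rw [QuotientGroup.leftRel_apply, mem_subgroupOf] at hab
    have h1 := hF.sq_mul a.2 hab
    rw [Subgroup.coe_mul, InvMemClass.coe_inv, mul_inv_cancel_left] at h1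
    exact h1.symm

theorem cosetSq_mk (s : (S : Subgroup G)) : hF.cosetSq (s : Cosets S E) = (s : G) * s := rfl

theorem cosetSq_mem (q : Cosets S E) : hF.cosetSq q ∈ E :=
  Quotient.inductionOn' q fun s => hF.sq s s.2

theorem cosetSq_eq_one {q : Cosets S E} : hF.cosetSq q = 1 ↔ q = ((1 : (S : Subgroup G)) : Cosets S E) :=
  Quotient.inductionOn' q fun s => by
    constructor
    · intro h
      exact hF.cosets_eq.2 (by simpa using inv_mem (hF.invol s s.2 h))
    · intro h
      have h1 := hF.cosets_eq.1 h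
      exact hF.mul_self (by simpa using h1)

theorem cosetSq_cosetHom (n : normalizer ((S : Subgroup G) : Set G)) (q : Cosets S E) :
    hF.cosetSq (hF.cosetHom n q) = (n : G) * hF.cosetSq q * (n : G)⁻¹ :=
  Quotient.inductionOn' q fun s => by
    show (n : G) * s * (n : G)⁻¹ * ((n : G) * s * (n : G)⁻¹) = (n : G) * ((s : G) * s) * (n : G)⁻¹
    group

/-- Five cosets have a given square. -/
theorem card_fibre {a : G} (ha : a ∈ E) (ha1 : a ≠ 1) : Nat.card {q : Cosets S E // hF.cosetSq q = a} = 5 := by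
  classical
  haveI := hF.klein
  haveI := Fintype.ofFinite (Cosets S E)
  obtain ⟨n, hn, -, hmove, -, -⟩ := hF.exists_cycle
  have h16 : Fintype.card (Cosets S E) = 16 := by
    rw [← Nat.card_eq_fintype_card, ← Subgroup.index_eq_card]
    have h1 := (E.subgroupOf (S : Subgroup G)).card_mul_index
    rw [hF.card, Nat.card_congr (subgroupOfEquivOfLe hF.le).toEquiv,
      (IsKleinFour.card_four : Nat.card E = 4)] at h1
    omega
  let fib : G → ℕ := fun c => (Finset.univ.filter fun q => hF.cosetSq q = c).card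
  have hcard : ∀ c : G, Nat.card {q : Cosets S E // hF.cosetSq q = c} = fib c := fun c => by
    rw [Nat.card_eq_fintype_card, Fintype.card_subtype]
  have heq : ∀ c : G, fib (n * c * n⁻¹) = fib c := fun c => by
    rw [← hcard, ← hcard]
    refine (Nat.card_congr ((hF.cosetHom ⟨n, hn⟩).subtypeEquiv fun q => ?_)).symm
    rw [hF.cosetSq_cosetHom]
    exact ⟨fun e => by rw [e], fun e => mul_left_cancel (mul_right_cancel e)⟩
  set b := n * a * n⁻¹ with hb
  have hbE : b ∈ E := hF.conj_mem hn ha
  have hb1 : b ≠ 1 := fun e => ha1 (conj_eq_one_iff.1 e)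
  have hab : a * b ∈ E := E.mul_mem ha hbE
  have hab1 : a * b ≠ 1 := fun e => hmove a ha ha1 (by
    rw [← hb, ← inv_eq_of_mul_eq_one_right e, inv_eq_of_mul_eq_one_right (hF.mul_self ha)])
  have hd1 : a ≠ a * b := fun e => hb1 (by rwa [eq_comm, mul_eq_left] at e)
  have hd2 : b ≠ a * b := fun e => ha1 (by rwa [eq_comm, mul_eq_right] at e)
  have hb' : fib (a * b) = fib b := by
    have hc := hF.conj_mem hn hbE
    have hc1 : n * b * n⁻¹ ≠ 1 := fun e => hb1 (conj_eq_one_iff.1 e)
    rcases hF.eq_or_eq_or_eq hn hmove ha ha1 hc hc1 with e | e | e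
    · -- the two step power of `n` would fix `a`
      have hc2 := hF.conj_mem hn hab
      have hc3 : n * (a * b) * n⁻¹ ≠ 1 := fun e => hab1 (conj_eq_one_iff.1 e)
      rcases hF.eq_or_eq_or_eq hn hmove ha ha1 hc2 hc3 with e' | e' | e'
      · exact absurd (mul_left_cancel (mul_right_cancel (e'.trans e.symm))) hd2.symm
      · exact absurd (mul_left_cancel (mul_right_cancel (e'.trans hb.symm))) hd1.symm
      · exact absurd e' (hmove _ hab hab1)
    · exact absurd e (hmove b hbE hb1)
    · rw [← e, heq]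
  have hsum : Fintype.card (Cosets S E) = fib 1 + (fib a + (fib b + fib (a * b))) := by
    rw [← Finset.card_univ, Finset.card_eq_sum_card_fiberwise (f := hF.cosetSq)
      (t := ({1, a, b, a * b} : Finset G)) fun q _ => ?_]
    · rw [Finset.sum_insert (by simp [Ne.symm ha1, Ne.symm hb1, Ne.symm hab1]),
        Finset.sum_insert (by simp [show a ≠ b from (hmove a ha ha1).symm, hb1]), Finset.sum_insert (by simp [hd2]),
        Finset.sum_singleton]
    · by_cases hq : hF.cosetSq q = 1
      · simp [hq]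
      · rcases hF.eq_or_eq_or_eq hn hmove ha ha1 (hF.cosetSq_mem q) hq with e | e | e <;> simp [e, hb]
  have hone : fib 1 = 1 := Finset.card_eq_one.2 ⟨((1 : (S : Subgroup G)) : Cosets S E), Finset.ext fun q => by
    simp [hF.cosetSq_eq_one]⟩
  rw [hcard]
  have := heq a
  rw [← hb] at this
  omega

/-- An element of `N(S)` centralizing `E` and fixing a coset of square `a` fixes all cosets. -/
theorem cosetHom_eq_one_of_fixed {n : normalizer ((S : Subgroup G) : Set G)} (hodd : Odd (orderOf (n : G)))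
    (hE : ∀ e ∈ E, Commute (n : G) e) {q : Cosets S E} (hq : q ≠ ((1 : (S : Subgroup G)) : Cosets S E))
    (hfix : hF.cosetHom n q = q) : ∀ s ∈ (S : Subgroup G), Commute (n : G) s := by
  induction q using Quotient.inductionOn' with
  | h s =>
    refine hF.centralizes_of_fixed n.2 hodd hE s.2 (fun hs => hq (hF.cosets_eq.2 (by simpa using hs))) ?_
    exact hF.cosets_eq.1 hfix.symm

end Frame

end CfsgLib.PiHom
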