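import Cfsg.Agent.Lib.PiHom.Arith
import Cfsg.Agent.Lib.Char.Virtual
import Cfsg.Agent.Lib.Block.Blocks

/-!
# Five generalized characters of norm four pairwise meeting in three
-/

set_option autoImplicit false
set_option linter.unusedSectionVars false

open scoped ComplexConjugate

namespace CfsgLib.PiHom

open Cfsg CfsgLib CfsgLib.Block

universe u

theorem card_agree {ι : Type*} [DecidableEq ι] (s t : Finset ι) (m n : ι → ℤ) (hs : s.card = 3)
    (hm : ∀ i, i ∈ s ↔ m i ≠ 0) (hn : ∀ i, i ∈ t ↔ n i ≠ 0) (hm1 : ∀ i, m i = -1 ∨ m i = 0 ∨ m i = 1)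
    (hn1 : ∀ i, n i = -1 ∨ n i = 0 ∨ n i = 1) (U : Finset ι) (hsU : s ⊆ U)
    (h : ∑ i ∈ U, m i * n i = 2) :
    (s ∩ t).card = 2 ∧ ∀ i ∈ s ∩ t, m i = n i := by
  have hsum : ∑ i ∈ s ∩ t, m i * n i = 2 := by
    rw [← h]
    refine Finset.sum_subset ((Finset.inter_subset_left).trans hsU) fun i _ hi => ?_
    rw [Finset.mem_inter, hm, hn] at hi
    by_contra hne
    exact hi ⟨left_ne_zero_of_mul hne, right_ne_zero_of_mul hne⟩
  have hval : ∀ i ∈ s ∩ t, m i * n i = if m i = n i then 1 else -1 := by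
    intro i hi
    rw [Finset.mem_inter, hm, hn] at hi
    rcases hm1 i with e | e | e <;> rcases hn1 i with e' | e' | e' <;> simp_all
  rw [Finset.sum_congr rfl hval, Finset.sum_ite, Finset.sum_const, Finset.sum_const] at hsum
  have htot := Finset.card_filter_add_card_filter_not (s := s ∩ t) (fun i => m i = n i)
  have hle : (s ∩ t).card ≤ 3 := hs ▸ Finset.card_le_card Finset.inter_subset_left
  simp only [nsmul_eq_mul, mul_one, mul_neg] at hsum
  have h2 : ((s ∩ t).filter fun i => m i = n i).card = 2 ∧ ((s ∩ t).filter fun i => ¬ m i = n i).card = 0 := by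
    omega
  refine ⟨by omega, fun i hi => ?_⟩
  by_contra hne
  have : i ∈ (s ∩ t).filter fun i => ¬ m i = n i := Finset.mem_filter.2 ⟨hi, hne⟩
  rw [Finset.card_eq_zero.1 h2.2] at this
  exact absurd this (Finset.notMem_empty i)

variable {G : Type u} [Group G] [Fintype G] [Fintype (IrrCharacter G)]

/-- The decomposition of five norm four generalized characters. -/
theorem exists_decomposition (F : Fin 5 → G → ℂ) (hgen : ∀ j, IsGeneralizedCharacter G (F j))
    (hone : ∀ j, classInner (F j) (oneChar G : G → ℂ) = 1) (hnorm : ∀ j, classInner (F j) (F j) = 4)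
    (hin : ∀ j k, j ≠ k → classInner (F j) (F k) = 3) :
    ∃ (a b : IrrCharacter G) (x : Fin 5 → IrrCharacter G) (ea eb : ℤ) (d : Fin 5 → ℤ),
      (ea = 1 ∨ ea = -1) ∧ (eb = 1 ∨ eb = -1) ∧ (∀ j, d j = 1 ∨ d j = -1) ∧
      a ≠ oneChar G ∧ b ≠ oneChar G ∧ (∀ j, x j ≠ oneChar G) ∧ a ≠ b ∧ (∀ j, x j ≠ a) ∧ (∀ j, x j ≠ b) ∧
      Function.Injective x ∧
      ∀ j g, F j g = 1 + (ea : ℂ) * (a : G → ℂ) g + (eb : ℂ) * (b : G → ℂ) g + (d j : ℂ) * (x j : G → ℂ) g := by
  classical
  choose m hm he hn using fun j => Char.generalized_expand (hgen j)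
  set U : Finset (IrrCharacter G) := Finset.univ.erase (oneChar G) with hU
  have hm1 : ∀ j, m j (oneChar G) = 1 := fun j => by
    have := hm j (oneChar G)
    rw [hone j] at this
    exact_mod_cast this.symm
  have hinner : ∀ j k, classInner (F j) (F k) = ((∑ χ, m j χ * m k χ : ℤ) : ℂ) := by
    intro j k
    rw [Char.classInner_expand (Char.isClassFunction_of_isGeneralized (hgen k))]
    simp [hm]
  have hsum : ∀ j k, ∑ χ ∈ U, m j χ * m k χ = (∑ χ, m j χ * m k χ) - 1 := fun j k => by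
    rw [← Finset.sum_erase_add Finset.univ _ (Finset.mem_univ (oneChar G)), hm1, hm1, hU]
    ring
  have h4 : ∀ j, ∑ χ ∈ U, m j χ ^ 2 = 3 := fun j => by
    have h1 : (∑ χ, m j χ * m j χ) = 4 := by exact_mod_cast (hinner j j).symm.trans (hnorm j)
    simp only [pow_two, hsum, h1]
    norm_num
  have h3 : ∀ j k, j ≠ k → ∑ χ ∈ U, m j χ * m k χ = 2 := fun j k hjk => by
    have h1 : (∑ χ, m j χ * m k χ) = 3 := by exact_mod_cast (hinner j k).symm.trans (hin j k hjk)
    rw [hsum, h1]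
    norm_num
  have hsmall : ∀ j χ, χ ∈ U → m j χ = -1 ∨ m j χ = 0 ∨ m j χ = 1 := fun j χ hχ => by
    have h1 : m j χ ^ 2 ≤ 3 := h4 j ▸ Finset.single_le_sum (fun i _ => sq_nonneg (m j i)) hχ
    have h2 : m j χ ≤ 1 := by nlinarith
    have h3 : -1 ≤ m j χ := by nlinarith
    omega
  set T : Fin 5 → Finset (IrrCharacter G) := fun j => U.filter fun χ => m j χ ≠ 0 with hT
  have hTcard : ∀ j, (T j).card = 3 := fun j => by
    have h1 : ∑ χ ∈ U, m j χ ^ 2 = ∑ χ ∈ U, if m j χ ≠ 0 then (1 : ℤ) else 0 :=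
      Finset.sum_congr rfl fun χ hχ => by rcases hsmall j χ hχ with e | e | e <;> simp [e]
    rw [h4 j, Finset.sum_boole] at h1
    exact_mod_cast h1.symm
  -- the functions cut down to `U`
  set m' : Fin 5 → IrrCharacter G → ℤ := fun j χ => if χ ∈ U then m j χ else 0 with hm'
  have hmem : ∀ j χ, χ ∈ T j ↔ m' j χ ≠ 0 := fun j χ => by
    simp only [hT, hm', Finset.mem_filter]
    by_cases hχ : χ ∈ U <;> simp [hχ]
  have hsmall' : ∀ j χ, m' j χ = -1 ∨ m' j χ = 0 ∨ m' j χ = 1 := fun j χ => by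
    simp only [hm']
    by_cases hχ : χ ∈ U
    · simpa [hχ] using hsmall j χ hχ
    · simp [hχ]
  have hmU : ∀ j χ, χ ∈ U → m' j χ = m j χ := fun j χ hχ => if_pos hχ
  have hag : ∀ j k, j ≠ k → (T j ∩ T k).card = 2 ∧ ∀ χ ∈ T j ∩ T k, m' j χ = m' k χ := fun j k hjk =>
    card_agree (T j) (T k) (m' j) (m' k) (hTcard j) (hmem j) (hmem k) (hsmall' j) (hsmall' k) U
      (Finset.filter_subset _ _)
      ((Finset.sum_congr rfl fun χ hχ => by rw [hmU j χ hχ, hmU k χ hχ]).trans (h3 j k hjk))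
  obtain ⟨a, b, hab, hin2⟩ := sunflower T hTcard fun j k hjk => (hag j k hjk).1
  have hpair : ∀ j, ({a, b} : Finset (IrrCharacter G)) ⊆ T j := fun j c hc => by
    simp at hc
    rcases hc with rfl | rfl
    exacts [(hin2 j).1, (hin2 j).2]
  have hx : ∀ j, ∃ x, T j \ {a, b} = {x} := fun j => Finset.card_eq_one.1 (by
    rw [Finset.card_sdiff_of_subset (hpair j), hTcard, Finset.card_pair hab])
  choose x hx using hx
  have hx' : ∀ j, x j ∈ T j ∧ x j ≠ a ∧ x j ≠ b := fun j => by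
    have : x j ∈ T j \ {a, b} := by rw [hx j]; exact Finset.mem_singleton_self _
    simpa using this
  have hTU : ∀ {j χ}, χ ∈ T j → χ ∈ U ∧ m j χ ≠ 0 := fun h => Finset.mem_filter.1 h
  have hconst : ∀ c, (∀ j, c ∈ T j) → ∀ j, m j c = m 0 c := fun c hc j => by
    by_cases hj : j = 0
    · rw [hj]
    · rw [← hmU j c (hTU (hc j)).1, ← hmU 0 c (hTU (hc 0)).1]
      exact (hag j 0 hj).2 c (Finset.mem_inter.2 ⟨hc j, hc 0⟩)
  have hsign : ∀ {j χ}, χ ∈ T j → m j χ = 1 ∨ m j χ = -1 := fun {j χ} h => by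
    rcases hsmall j χ (hTU h).1 with e | e | e
    exacts [Or.inr e, absurd e (hTU h).2, Or.inl e]
  have hne1 : ∀ {j χ}, χ ∈ T j → χ ≠ oneChar G := fun h => Finset.ne_of_mem_erase (hTU h).1
  refine ⟨a, b, x, m 0 a, m 0 b, fun j => m j (x j), hsign (hin2 0).1, hsign (hin2 0).2, fun j => hsign (hx' j).1,
    hne1 (hin2 0).1, hne1 (hin2 0).2, fun j => hne1 (hx' j).1, hab, fun j => (hx' j).2.1, fun j => (hx' j).2.2,
    fun j k hjk => ?_, fun j g => ?_⟩
  · by_contra hne
    have hsub : insert (x j) ({a, b} : Finset (IrrCharacter G)) ⊆ T j ∩ T k := by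
      intro c hc
      rcases Finset.mem_insert.1 hc with rfl | hc
      · exact Finset.mem_inter.2 ⟨(hx' j).1, hjk ▸ (hx' k).1⟩
      · exact Finset.mem_inter.2 ⟨hpair j hc, hpair k hc⟩
    have := Finset.card_le_card hsub
    rw [Finset.card_insert_of_notMem (by simp [(hx' j).2.1, (hx' j).2.2]), Finset.card_pair hab,
      (hag j k hne).1] at this
    omega
  · have hTeq : T j = insert a (insert b {x j}) := by
      have := Finset.sdiff_union_of_subset (hpair j)
      rw [hx j] at this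
      rw [← this]
      ext c
      simp only [Finset.mem_union, Finset.mem_singleton, Finset.mem_insert]
      tauto
    have hF : F j g = ∑ χ ∈ insert (oneChar G) (T j), (m j χ : ℂ) * (χ : G → ℂ) g := by
      conv_lhs => rw [he j]
      rw [Finset.sum_apply]
      refine (Finset.sum_subset (Finset.subset_univ _) fun χ _ hχ => ?_).symm
      rw [Finset.mem_insert, not_or] at hχ
      have : m j χ = 0 := by
        by_contra h0
        exact hχ.2 (Finset.mem_filter.2 ⟨Finset.mem_erase.2 ⟨hχ.1, Finset.mem_univ _⟩, h0⟩)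
      rw [Pi.smul_apply, this, Int.cast_zero, zero_smul]
    rw [hF, Finset.sum_insert (fun hc => hne1 hc rfl), hTeq,
      Finset.sum_insert (by simp [hab, (hx' j).2.1.symm]), Finset.sum_insert (by simp [(hx' j).2.2.symm]),
      Finset.sum_singleton, hm1, hconst a (fun k => (hin2 k).1) j, hconst b (fun k => (hin2 k).2) j]
    simp only [oneChar, Int.cast_one, one_mul, ← add_assoc]

end CfsgLib.PiHom
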