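import Cfsg.Agent.Lib.PiHom.Local
import Cfsg.Agent.S0204
import Cfsg.Agent.S1224
import Cfsg.Agent.S1225

/-!
# A minimal counterexample has no strongly embedded subgroup
-/

set_option autoImplicit false
set_option linter.unusedSectionVars false
set_option linter.style.haveILetI false

open Subgroup

namespace CfsgLib.PiHom

universe u

variable {π : Set ℕ} {G : Type u} [Group G] [Finite G]

theorem mem_of_centralizes {M : Subgroup G} (hM : Cfsg.IsStronglyEmbedded M) {t c : G}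
    (ht : orderOf t = 2) (htM : t ∈ M) (hc : Commute c t) : c ∈ M := by
  by_contra hn
  have h1 := hM.2.2 c hn
  refine Nat.not_even_iff_odd.2 h1 (even_iff_two_dvd.2 ?_)
  have hmem : t ∈ M ⊓ M.map (MulAut.conj c).toMonoidHom := by
    refine ⟨htM, ⟨t, htM, ?_⟩⟩
    show c * t * c⁻¹ = t
    rw [hc.eq, mul_inv_cancel_right]
  rw [← ht, ← orderOf_mk t hmem]
  exact orderOf_dvd_natCard _

namespace Min

variable (h : Min π G)
include h

/-- An involution centralizing `c` and one inverting it, only the first in a strongly embedded subgroup. -/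
theorem false_of_inverted {M : Subgroup G} (hM : Cfsg.IsStronglyEmbedded M) {c z v : G} (hc : c ≠ 1)
    (hodd : Odd (orderOf c)) (hz : orderOf z = 2) (hzM : z ∈ M) (hzc : Commute z c)
    (hv : orderOf v = 2) (hvM : v ∉ M) (hvc : v * c * v⁻¹ = c⁻¹) : False := by
  haveI := h.simple
  have hZt : zpowers c ≠ ⊤ := fun e => h.ncomm ⟨⟨fun a b => by
    obtain ⟨i, rfl⟩ := mem_zpowers_iff.1 (e ▸ mem_top a : a ∈ zpowers c)
    obtain ⟨j, rfl⟩ := mem_zpowers_iff.1 (e ▸ mem_top b : b ∈ zpowers c)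
    rw [← zpow_add, ← zpow_add, add_comm]⟩⟩
  set X := normalizer (zpowers c : Set G) with hX
  have hXt : X ≠ ⊤ := h.ne_top_of_normalizer (fun e => hc (zpowers_eq_bot.1 e)) hZt
  have hzX : z ∈ X := centralizer_le_normalizer _ (mem_centralizer_iff.2 fun y hy => by
    obtain ⟨i, rfl⟩ := mem_zpowers_iff.1 hy
    exact (hzc.zpow_right i).eq.symm)
  have hvX : v ∈ X := by
    refine mem_normalizer_iff_conj_image_eq.2 ?_
    have : (zpowers c).map (MulAut.conj v).toMonoidHom = zpowers c := by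
      rw [MonoidHom.map_zpowers]
      show zpowers (v * c * v⁻¹) = _
      rw [hvc, zpowers_inv]
    exact congrArg SetLike.coe this
  set M' := M.subgroupOf X
  have hM' : Cfsg.IsStronglyEmbedded M' := by
    refine ⟨fun e => hvM (mem_subgroupOf.1 (e ▸ mem_top (⟨v, hvX⟩ : X))), even_iff_two_dvd.2 ?_, fun g hg => ?_⟩
    · rw [← hz, ← orderOf_mk z hzX, ← orderOf_mk (⟨z, hzX⟩ : X) (mem_subgroupOf.2 hzM : (⟨z, hzX⟩ : X) ∈ M')]
      exact orderOf_dvd_natCard _
    · refine (hM.2.2 (g : G) hg).of_dvd_nat ?_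
      refine Subgroup.card_dvd_of_injective
        (((X.subtype.comp (M' ⊓ M'.map (MulAut.conj g).toMonoidHom).subtype)).codRestrict _ ?_) ?_
      · rintro ⟨y, hy1, a, ha, rfl⟩
        exact ⟨hy1, ⟨a, ha, rfl⟩⟩
      · intro a b e
        exact Subtype.ext (Subtype.ext (congrArg (fun t : (M ⊓ M.map (MulAut.conj (g : G)).toMonoidHom : Subgroup G) => (t : G)) e))
  have hvo : orderOf (⟨v, hvX⟩ : X) = 2 := by rw [orderOf_mk, hv]
  have hzo : orderOf (⟨z, hzX⟩ : X) = 2 := by rw [orderOf_mk, hz]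
  obtain ⟨g, hg⟩ := isConj_iff.1 ((Cfsg.Agent.S1225.result M' hM' ⟨v, hvX⟩ hvo hvM ⟨z, hzX⟩ ⟨z, hzX⟩ hzo hzM
    hzo hzM).2 ⟨z, hzX⟩ ⟨v, hvX⟩ hzo hvo)
  have hg' : (g : G) * z * (g : G)⁻¹ = v := congrArg Subtype.val hg
  obtain ⟨j, hj⟩ : ∃ j : ℤ, c ^ j = (g : G)⁻¹ * c * g := mem_zpowers_iff.1 (by
    have := (mem_normalizer_iff.1 (inv_mem g.2) c).1 (mem_zpowers c)
    rwa [inv_inv] at this)
  have e1 : v * c * v⁻¹ = c := by
    have : z * c ^ j * z⁻¹ = c ^ j := by rw [(hzc.zpow_right j).eq, mul_inv_cancel_right]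
    rw [hj] at this
    calc v * c * v⁻¹ = (g : G) * (z * ((g : G)⁻¹ * c * g) * z⁻¹) * (g : G)⁻¹ := by rw [← hg']; group
      _ = c := by rw [this]; group
  rw [hvc] at e1
  have h2 : c ^ 2 = 1 := by
    rw [pow_two]
    conv_lhs => arg 1; rw [← e1]
    exact inv_mul_cancel c
  have := Nat.eq_one_of_dvd_coprimes (Nat.coprime_two_right.2 hodd) dvd_rfl (orderOf_dvd_of_pow_eq_one h2)
  exact hc (orderOf_eq_one_iff.1 this)

/-- There is no strongly embedded subgroup. -/
theorem no_stronglyEmbedded (M : Subgroup G) : ¬ Cfsg.IsStronglyEmbedded M := by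
  intro hM
  classical
  haveI := h.simple
  haveI := Fact.mk Nat.prime_two
  obtain ⟨z₀, hz₀⟩ := exists_prime_orderOf_dvd_card' 2 (even_iff_two_dvd.1 hM.2.1)
  have hz₀' : orderOf (z₀ : G) = 2 := by rw [orderOf_coe, hz₀]
  obtain ⟨u, hu, huM⟩ : ∃ u, orderOf u = 2 ∧ u ∉ M := by
    by_contra! hall
    set N := closure {y : G | orderOf y = 2}
    haveI : N.Normal := ⟨fun y hy g => by
      have hle : N ≤ N.comap (MulAut.conj g).toMonoidHom := (closure_le _).2 fun y hy => subset_closure (by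
        show orderOf (MulAut.conj g y) = 2
        rw [MulEquiv.orderOf_eq]; exact hy)
      exact hle hy⟩
    rcases Normal.eq_bot_or_eq_top (H := N) inferInstance with e | e
    · have : (z₀ : G) ∈ N := subset_closure hz₀'
      rw [e, mem_bot] at this
      rw [this, orderOf_one] at hz₀'
      norm_num at hz₀'
    · exact hM.1 (eq_top_iff.2 (e.ge.trans ((closure_le _).2 fun y hy => hall y hy)))
  -- a Sylow subgroup of `M` and its two involutions
  obtain ⟨T⟩ : Nonempty (Sylow 2 M) := inferInstance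
  set T' := (T : Subgroup M).map M.subtype with hT'
  have hT'M : T' ≤ M := map_subtype_le _
  have hmax : ∀ Q : Subgroup G, IsPGroup 2 Q → T' ≤ Q → Q ≤ M → Q = T' := by
    intro Q hQ hTQ hQM
    have := T.3 (hQ.of_equiv (subgroupOfEquivOfLe hQM).symm) (fun y hy => mem_subgroupOf.2 (hTQ ⟨y, hy, rfl⟩))
    rw [hT', ← this, map_subgroupOf_eq_of_le hQM]
  obtain ⟨L, hLM, -, hTL, hLn, hML⟩ := h.struct hM.1 hT'M (T.2.map _) hmax
  set K := pk π M with hK
  have hKodd : Odd (Nat.card K) := h.odd_pk hM.1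
  have hinT : ∀ {t : G}, orderOf t = 2 → t ∈ M → ∃ m ∈ M, m * t * m⁻¹ ∈ T' := by
    intro t ht htM
    obtain ⟨R, hR⟩ := (IsPGroup.of_card (n := 1) (by
      rw [Nat.card_zpowers, orderOf_mk, ht, pow_one]) : IsPGroup 2 (zpowers (⟨t, htM⟩ : M))).exists_le_sylow
    obtain ⟨m, hm⟩ := MulAction.exists_smul_eq M R T
    refine ⟨m, m.2, ⟨m * ⟨t, htM⟩ * m⁻¹, ?_, rfl⟩⟩
    rw [← hm, Sylow.coe_subgroup_smul]
    exact ⟨⟨t, htM⟩, hR (mem_zpowers _), rfl⟩
  have hclass : ∀ a b : G, orderOf a = 2 → orderOf b = 2 → IsConj a b :=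
    (Cfsg.Agent.S1225.result M hM u hu huM z₀ z₀ hz₀' z₀.2 hz₀' z₀.2).2
  obtain ⟨z, z', hz, hz', hzT, hz'T, hne⟩ : ∃ z z' : G, orderOf z = 2 ∧ orderOf z' = 2 ∧ z ∈ T' ∧ z' ∈ T' ∧
      z ≠ z' := by
    obtain ⟨E, hE⟩ := Cfsg.Agent.S0204.result (G := G) fun hc => h.ncomm (by
      letI := IsCyclic.commGroup (α := G)
      exact ⟨⟨mul_comm⟩⟩)
    haveI := hE
    haveI : Nontrivial E := Finite.one_lt_card_iff_nontrivial.1 (by rw [IsKleinFour.card_four]; norm_num)
    obtain ⟨a, ha⟩ := exists_ne (1 : E)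
    have hord : ∀ b : E, b ≠ 1 → orderOf (b : G) = 2 := fun b hb => by
      rw [orderOf_coe]
      exact (Monoid.exponent_eq_prime_iff Nat.prime_two).1 IsKleinFour.exponent_two b hb
    obtain ⟨g, hg⟩ := isConj_iff.1 (hclass _ _ (hord a ha) hz₀')
    have hEM : ∀ b : E, g * b * g⁻¹ ∈ M := fun b => by
      refine mem_of_centralizes hM hz₀' z₀.2 ?_
      rw [← hg]
      exact ((show Commute (b : G) a from
        congrArg Subtype.val (mul_comm_of_exponent_two IsKleinFour.exponent_two b a))).map (MulAut.conj g)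
    obtain ⟨R, hR⟩ := ((IsPGroup.of_card (n := 2) (by rw [IsKleinFour.card_four]; norm_num) :
      IsPGroup 2 E).of_surjective ((((MulAut.conj g).toMonoidHom.comp E.subtype).codRestrict M hEM).rangeRestrict)
        (MonoidHom.rangeRestrict_surjective _)).exists_le_sylow
    obtain ⟨m, hm⟩ := MulAction.exists_smul_eq M R T
    obtain ⟨b, hb, hba⟩ : ∃ b : E, b ≠ 1 ∧ b ≠ a := by
      by_contra! hall
      have hle : (Set.univ : Set E) ⊆ {1, a} := fun x _ => (em (x = 1)).imp_right (hall x)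
      have := Set.ncard_le_ncard hle
      rw [Set.ncard_univ, IsKleinFour.card_four] at this
      have h2 : ({1, a} : Set E).ncard ≤ 2 := (Set.ncard_insert_le _ _).trans (by rw [Set.ncard_singleton])
      omega
    have hmem : ∀ c : E, (m : G) * (g * c * g⁻¹) * (m : G)⁻¹ ∈ T' := fun c => by
      refine ⟨m * ⟨_, hEM c⟩ * m⁻¹, ?_, rfl⟩
      rw [← hm, Sylow.coe_subgroup_smul]
      exact ⟨_, hR ⟨c, rfl⟩, rfl⟩
    refine ⟨_, _, ?_, ?_, hmem a, hmem b, fun e => hba ?_⟩
    · exact CfsgLib.Invol.invol_conj (CfsgLib.Invol.invol_conj (hord a ha) g) _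
    · exact CfsgLib.Invol.invol_conj (CfsgLib.Invol.invol_conj (hord b hb) g) _
    · exact Subtype.ext (mul_left_cancel (mul_right_cancel (mul_left_cancel (mul_right_cancel e)))).symm
  have hzM : z ∈ M := hT'M hzT
  -- the conjugates of `z` under `K`
  set Z := {t : G | ∃ k ∈ K, t = k * z * k⁻¹}
  set J := {t : G | orderOf t = 2 ∧ t ∈ M}
  have hKM : K ≤ M := pk_le π M
  have hZJ : Z ⊂ J := by
    refine ⟨?_, fun hle => ?_⟩
    · rintro t ⟨k, hk, rfl⟩
      exact ⟨CfsgLib.Invol.invol_conj hz k, M.mul_mem (M.mul_mem (hKM hk) hzM) (M.inv_mem (hKM hk))⟩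
    · obtain ⟨k, hk, e⟩ := hle (show z' ∈ J from ⟨hz', hT'M hz'T⟩)
      have hm : k * z * k⁻¹ * z⁻¹ ∈ K := by
        rw [show k * z * k⁻¹ * z⁻¹ = k * (z * k⁻¹ * z⁻¹) by group]
        exact K.mul_mem hk (conj_mem_pk (fun y hy => M.mul_mem (M.mul_mem hzM hy) (M.inv_mem hzM)) (K.inv_mem hk))
      have hT : k * z * k⁻¹ * z⁻¹ ∈ T' := T'.mul_mem (e ▸ hz'T) (T'.inv_mem hzT)
      have h1 : orderOf (k * z * k⁻¹ * z⁻¹) = 1 := by
        obtain ⟨n, hn⟩ := IsPGroup.iff_card.1 (T.2.map M.subtype : IsPGroup 2 T')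
        refine Nat.eq_one_of_dvd_coprimes
          (coprime_of (piNum_pow Nat.prime_two h.two n) (h.coNum_pk hM.1)) ?_ ?_
        · rw [← hn, ← orderOf_mk _ hT]; exact orderOf_dvd_natCard _
        · rw [← orderOf_mk _ hm]; exact orderOf_dvd_natCard _
      rw [orderOf_eq_one_iff, mul_inv_eq_one, ← e] at h1
      exact hne h1.symm
  -- involutions moving the point `M` to `u M`
  have hxy : ((1 : G) : G ⧸ M) ≠ (u : G ⧸ M) := fun e => huM (by
    have := QuotientGroup.eq.1 e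
    simpa using this)
  have hcount := Cfsg.Agent.S1224.result M hM ((1 : G) : G ⧸ M) (u : G ⧸ M) hxy
  have huu : u * u = 1 := CfsgLib.Invol.invol_mul_self hu
  have hI : ∀ i : {i : G // orderOf i = 2 ∧ i • ((1 : G) : G ⧸ M) = (u : G ⧸ M)}, u * (i : G) ∈ K := by
    rintro ⟨i, hi, hix⟩
    have hd : u * i ∈ M := by
      have h1 : ((i * 1 : G) : G ⧸ M) = (u : G ⧸ M) := hix
      rw [mul_one, eq_comm, QuotientGroup.eq, inv_eq_of_mul_eq_one_right huu] at h1
      exact h1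
    have hii : i * i = 1 := CfsgLib.Invol.invol_mul_self hi
    have hinv : u * (u * i) * u⁻¹ = (u * i)⁻¹ := by
      rw [inv_eq_of_mul_eq_one_right huu, _root_.mul_inv_rev, inv_eq_of_mul_eq_one_right hii,
        inv_eq_of_mul_eq_one_right huu, ← mul_assoc u u, huu, one_mul]
    have hodd : Odd (orderOf (u * i)) := by
      have hD : u * i ∈ M ⊓ M.map (MulAut.conj u).toMonoidHom := by
        refine ⟨hd, ⟨(u * i)⁻¹, M.inv_mem hd, ?_⟩⟩
        show u * (u * i)⁻¹ * u⁻¹ = u * i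
        rw [← conj_inv, hinv, inv_inv]
      refine (hM.2.2 u huM).of_dvd_nat ?_
      rw [← orderOf_mk _ hD]; exact orderOf_dvd_natCard _
    exact mem_pk_of M hd (h.coNum_of_inverted hodd hu hinv)
  let f : {i : G // orderOf i = 2 ∧ i • ((1 : G) : G ⧸ M) = (u : G ⧸ M)} → Z := fun i =>
    ⟨(u * (i : G)) * z * (u * (i : G))⁻¹, _, hI i, rfl⟩
  have hf : Function.Injective f := by
    intro i j e
    have e' : (u * (i : G)) * z * (u * (i : G))⁻¹ = (u * (j : G)) * z * (u * (j : G))⁻¹ := congrArg Subtype.val e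
    by_contra hij
    set c := (u * (i : G))⁻¹ * (u * (j : G)) with hc
    have hii : (i : G) * i = 1 := CfsgLib.Invol.invol_mul_self i.2.1
    have hjj : (j : G) * j = 1 := CfsgLib.Invol.invol_mul_self j.2.1
    have hc' : c = (i : G) * j := by
      rw [hc, _root_.mul_inv_rev, mul_assoc, inv_mul_cancel_left, inv_eq_of_mul_eq_one_right hii]
    have hcK : c ∈ K := K.mul_mem (K.inv_mem (hI i)) (hI j)
    have hiM : (i : G) ∉ M := fun hm => by
      have h1 : (((i : G) * 1 : G) : G ⧸ M) = (u : G ⧸ M) := i.2.2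
      exact hxy (by rw [← h1, mul_one, QuotientGroup.eq]; simpa using hm)
    refine h.false_of_inverted hM (c := c) ?_ (hKodd.of_dvd_nat (by rw [← orderOf_mk _ hcK]; exact orderOf_dvd_natCard _))
      hz hzM ?_ i.2.1 hiM ?_
    · intro e1
      refine hij (Subtype.ext ?_)
      rw [hc'] at e1
      rw [← inv_eq_of_mul_eq_one_right hii]
      exact inv_eq_of_mul_eq_one_right e1
    · show z * c = c * z
      rw [hc]
      calc z * ((u * (i : G))⁻¹ * (u * (j : G)))
          = (u * (i : G))⁻¹ * ((u * (i : G)) * z * (u * (i : G))⁻¹) * (u * (j : G)) := by group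
        _ = (u * (i : G))⁻¹ * (u * (j : G)) * z := by rw [e']; group
    · rw [hc', _root_.mul_inv_rev, inv_eq_of_mul_eq_one_right hii, inv_eq_of_mul_eq_one_right hjj,
        ← mul_assoc, hii, one_mul]
  have h1 : Nat.card {i : G // orderOf i = 2 ∧ i • ((1 : G) : G ⧸ M) = (u : G ⧸ M)} ≤ Nat.card Z :=
    Nat.card_le_card_of_injective f hf
  rw [hcount] at h1
  have h2 : Nat.card Z < Nat.card J := Set.Finite.card_lt_card (Set.toFinite J) hZJ
  exact absurd h2 (not_lt.2 h1)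

end Min

end CfsgLib.PiHom
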