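import Cfsg.Agent.Lib.PiHom.Local

/-!
# Products and maximal 2-subgroups in proper subgroups
-/

set_option autoImplicit false
set_option linter.unusedSectionVars false
set_option linter.style.haveILetI false

open Subgroup

namespace CfsgLib.PiHom

universe u

variable {π : Set ℕ} {G : Type u} [Group G] [Finite G]

theorem card_dvd_mul_card {X K Y : Subgroup G} (hKX : K ≤ X) (hK : ∀ x ∈ X, ∀ k ∈ K, x * k * x⁻¹ ∈ K)
    (hY : Y ≤ X) (hgen : ∀ x ∈ X, ∃ k ∈ K, ∃ y ∈ Y, k * y = x) : Nat.card X ∣ Nat.card K * Nat.card Y := by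
  haveI : (K.subgroupOf X).Normal := ⟨fun k hk g => mem_subgroupOf.2 (hK g g.2 k (mem_subgroupOf.1 hk))⟩
  rw [← (K.subgroupOf X).card_mul_index, Nat.card_congr (subgroupOfEquivOfLe hKX).toEquiv, Subgroup.index_eq_card]
  refine Nat.mul_dvd_mul_left _ (card_dvd_of_surjective
    ((QuotientGroup.mk' (K.subgroupOf X)).comp (Subgroup.inclusion hY)) fun q => ?_)
  obtain ⟨⟨x, hx⟩, rfl⟩ := QuotientGroup.mk'_surjective (K.subgroupOf X) q
  obtain ⟨k, hk, y, hy, rfl⟩ := hgen x hx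
  refine ⟨⟨y, hy⟩, ?_⟩
  rw [MonoidHom.comp_apply, QuotientGroup.mk'_apply, QuotientGroup.mk'_apply, QuotientGroup.eq, mem_subgroupOf]
  show y⁻¹ * (k * y) ∈ K
  have := hK y⁻¹ (X.inv_mem (hY hy)) k hk
  rwa [inv_inv, mul_assoc] at this

/-- A 2-subgroup is conjugate into a maximal one. -/
theorem exists_conj_le_of_max {C E : Subgroup G} (hEC : E ≤ C) (hE : IsPGroup 2 E)
    (hmax : ∀ Q : Subgroup G, IsPGroup 2 Q → E ≤ Q → Q ≤ C → Q = E) {R : Subgroup G} (hR : IsPGroup 2 R)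
    (hRC : R ≤ C) : ∃ c ∈ C, ∀ r ∈ R, c * r * c⁻¹ ∈ E := by
  haveI := Fact.mk Nat.prime_two
  obtain ⟨E', hE'⟩ := (hE.of_equiv (subgroupOfEquivOfLe hEC).symm).exists_le_sylow
  obtain ⟨R', hR'⟩ := (hR.of_equiv (subgroupOfEquivOfLe hRC).symm).exists_le_sylow
  have hEmap : (E' : Subgroup C).map C.subtype = E :=
    hmax _ (E'.2.map _) (fun y hy => ⟨⟨y, hEC hy⟩, hE' (mem_subgroupOf.2 hy), rfl⟩) (map_subtype_le _)
  obtain ⟨c, hc⟩ := MulAction.exists_smul_eq C R' E'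
  refine ⟨c, c.2, fun r hr => ?_⟩
  rw [← hEmap]
  refine ⟨c * ⟨r, hRC hr⟩ * c⁻¹, ?_, rfl⟩
  rw [← hc, Sylow.coe_subgroup_smul]
  exact ⟨⟨r, hRC hr⟩, hR' (mem_subgroupOf.2 hr), rfl⟩

theorem card_le_of_max {C E : Subgroup G} (hEC : E ≤ C) (hE : IsPGroup 2 E)
    (hmax : ∀ Q : Subgroup G, IsPGroup 2 Q → E ≤ Q → Q ≤ C → Q = E) {R : Subgroup G} (hR : IsPGroup 2 R)
    (hRC : R ≤ C) : Nat.card R ≤ Nat.card E := by
  obtain ⟨c, -, hc⟩ := exists_conj_le_of_max hEC hE hmax hR hRC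
  rw [← card_map_of_injective (K := R) (f := (MulAut.conj c).toMonoidHom) (show Function.Injective (MulAut.conj c).toMonoidHom from (MulAut.conj c).injective)]
  refine Nat.le_of_dvd Nat.card_pos (card_dvd_of_le ?_)
  rintro _ ⟨r, hr, rfl⟩
  exact hc r hr

theorem mem_pk_of_coNum {U : Subgroup G} {k l : G} (hk : k ∈ U) (hl : l ∈ U) (ho : CoNum π (orderOf k))
    : l * k * l⁻¹ ∈ pk π U :=
  mem_pk_of U (U.mul_mem (U.mul_mem hl hk) (U.inv_mem hl)) (coNum_conj ho)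

namespace Min

variable (h : Min π G)
include h

/-- A 2-element in the product of the `π'`-part and a `π`-element. -/
theorem pow_eq_one_of_mul {U : Subgroup G} (hU : U ≠ ⊤) {k l : G} (hk : k ∈ pk π U) (hl : l ∈ U)
    (hlπ : PiNum π (orderOf l)) {m : ℕ} (hm : (k * l) ^ 2 ^ m = 1) : l ^ 2 ^ m = 1 := by
  have key : ∀ i : ℕ, (k * l) ^ i * (l ^ i)⁻¹ ∈ pk π U := by
    intro i
    induction i with
    | zero => simp
    | succ i ih =>
      rw [pow_succ', pow_succ', show k * l * (k * l) ^ i * (l * l ^ i)⁻¹ = k * (l * ((k * l) ^ i * (l ^ i)⁻¹) * l⁻¹) by group]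
      exact mul_mem hk (conj_mem_pk (fun y hy => U.mul_mem (U.mul_mem hl hy) (U.inv_mem hl)) ih)
  have h1 := key (2 ^ m)
  rw [hm, one_mul, inv_mem_iff] at h1
  rw [← orderOf_eq_one_iff]
  exact Nat.eq_one_of_dvd_coprimes (coprime_of hlπ ((h.mem_pk hU).1 h1).2) (orderOf_pow_dvd _) dvd_rfl

theorem eq_one_of_twoPow {U : Subgroup G} (hU : U ≠ ⊤) {k : G} (hk : k ∈ pk π U) {m : ℕ} (hm : k ^ 2 ^ m = 1) :
    k = 1 := by
  rw [← orderOf_eq_one_iff]
  exact Nat.eq_one_of_dvd_coprimes (coprime_of (piNum_pow Nat.prime_two h.two m) ((h.mem_pk hU).1 hk).2)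
    (orderOf_dvd_of_pow_eq_one hm) dvd_rfl

theorem commutator_eq_top : commutator G = ⊤ := by
  haveI := h.simple
  refine (Normal.eq_bot_or_eq_top inferInstance).resolve_left fun e => h.ncomm ⟨⟨fun a b => ?_⟩⟩
  have : a * b * a⁻¹ * b⁻¹ ∈ commutator G := by
    rw [_root_.commutator_def, ← commutatorElement_def]
    exact commutator_mem_commutator (mem_top a) (mem_top b)
  rw [e, mem_bot, mul_inv_eq_one, mul_inv_eq_iff_eq_mul] at this
  exact this

end Min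

end CfsgLib.PiHom
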