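import Cfsg.Agent.Lib.PiHom.Cosets
import Cfsg.Agent.Lib.PiHom.Product
import Cfsg.Agent.Lib.Fusion.Transfer

/-!
# Elements of odd order centralizing `E` centralize `S`

Otherwise such elements induce a group of order five on `S / E`, whose character is invariant under fusion on a
Sylow 5-subgroup of `G`.
-/

set_option autoImplicit false
set_option linter.unusedSectionVars false
set_option linter.style.haveILetI false

open Subgroup
open scoped commutatorElement

namespace CfsgLib.PiHom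

universe u

variable {π : Set ℕ} {G : Type u} [Group G] [Finite G] {S : Sylow 2 G} {E : Subgroup G}

namespace Frame

variable (hF : Frame S E)
include hF

theorem isPGroup_four : IsPGroup 2 E := S.2.to_le hF.le

theorem four_ne_bot : E ≠ ⊥ := fun e => by
  obtain ⟨a, ha, ha1⟩ := hF.exists_ne_one
  rw [e, mem_bot] at ha
  exact ha1 ha

theorem normalizer_sylow_le : normalizer ((S : Subgroup G) : Set G) ≤ normalizer (E : Set G) := fun n hn => by
  rw [mem_normalizer_iff]
  refine fun x => ⟨hF.conj_mem hn, fun hx => ?_⟩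
  have := hF.conj_mem (inv_mem hn) hx
  simpa [mul_assoc] using this

theorem sylow_le_normalizer_four : (S : Subgroup G) ≤ normalizer (E : Set G) :=
  le_normalizer.trans hF.normalizer_sylow_le

theorem conj_mem_centralizer_four {n : G} (hn : n ∈ normalizer (E : Set G)) {x : G}
    (hx : x ∈ centralizer (E : Set G)) : n * x * n⁻¹ ∈ centralizer (E : Set G) :=
  mem_centralizer_iff.2 fun e he => by
    have h1 : n⁻¹ * e * n ∈ E := by
      have := (mem_normalizer_iff.1 hn (n⁻¹ * e * n)).2 (by simpa [mul_assoc] using he)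
      exact this
    have h2 : n * (n⁻¹ * e * n * x) * n⁻¹ = n * (x * (n⁻¹ * e * n)) * n⁻¹ := by
      rw [mem_centralizer_iff.1 hx _ h1]
    calc e * (n * x * n⁻¹) = n * (n⁻¹ * e * n * x) * n⁻¹ := by group
      _ = n * (x * (n⁻¹ * e * n)) * n⁻¹ := h2
      _ = n * x * n⁻¹ * e := by group

/-- The elements of `N(S)` centralizing `E` have index dividing 6. -/
theorem card_normalizer_dvd :
    Nat.card (normalizer ((S : Subgroup G) : Set G)) ∣
      6 * Nat.card (normalizer ((S : Subgroup G) : Set G) ⊓ centralizer (E : Set G) : Subgroup G) := by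
  classical
  haveI := hF.klein
  set N := normalizer ((S : Subgroup G) : Set G) with hN
  let f : N →* Equiv.Perm {e : E // e ≠ 1} := MonoidHom.mk'
    (fun n =>
      { toFun := fun e => ⟨⟨(n : G) * (e.1 : G) * (n : G)⁻¹, hF.conj_mem n.2 e.1.2⟩,
          fun h1 => e.2 (Subtype.ext (conj_eq_one_iff.1 (congrArg Subtype.val h1)))⟩
        invFun := fun e => ⟨⟨(n : G)⁻¹ * (e.1 : G) * ((n : G)⁻¹)⁻¹, hF.conj_mem (inv_mem n.2) e.1.2⟩,
          fun h1 => e.2 (Subtype.ext (conj_eq_one_iff.1 (congrArg Subtype.val h1)))⟩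
        left_inv := fun e => Subtype.ext (Subtype.ext
          (show (n : G)⁻¹ * ((n : G) * (e.1 : G) * (n : G)⁻¹) * ((n : G)⁻¹)⁻¹ = e.1 by group))
        right_inv := fun e => Subtype.ext (Subtype.ext
          (show (n : G) * ((n : G)⁻¹ * (e.1 : G) * ((n : G)⁻¹)⁻¹) * (n : G)⁻¹ = e.1 by group)) })
    fun a b => Equiv.ext fun e => Subtype.ext (Subtype.ext
      (show ((a : G) * b) * (e.1 : G) * ((a : G) * b)⁻¹ = (a : G) * ((b : G) * (e.1 : G) * (b : G)⁻¹) * (a : G)⁻¹ by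
        group))
  have h6 : Nat.card (Equiv.Perm {e : E // e ≠ 1}) = 6 := by
    haveI := Fintype.ofFinite E
    have h3 : Nat.card {e : E // e ≠ 1} = 3 := by
      rw [Nat.card_eq_fintype_card, Fintype.card_subtype_compl, Fintype.card_subtype_eq,
        ← Nat.card_eq_fintype_card, (IsKleinFour.card_four : Nat.card E = 4)]
    rw [Nat.card_perm, h3]
    rfl
  have hker : f.ker.map N.subtype ≤ N ⊓ centralizer (E : Set G) := by
    rintro _ ⟨n, hn, rfl⟩
    refine ⟨n.2, mem_centralizer_iff.2 fun e he => ?_⟩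
    by_cases he1 : e = 1
    · rw [he1, one_mul, mul_one]
    have h1 := congrArg (fun x : {e : E // e ≠ 1} => ((x : E) : G))
      (Equiv.ext_iff.1 (MonoidHom.mem_ker.1 hn) ⟨⟨e, he⟩, fun h1 => he1 (congrArg Subtype.val h1)⟩)
    have h2 : (n : G) * e * (n : G)⁻¹ = e := h1
    exact (mul_inv_eq_iff_eq_mul.1 h2).symm
  rw [← f.ker.card_mul_index, index_ker, mul_comm]
  refine Nat.mul_dvd_mul (h6 ▸ card_subgroup_dvd_card _) ?_
  rw [← card_map_of_injective (K := f.ker) N.subtype_injective]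
  exact card_dvd_of_le hker

end Frame

namespace Min

variable (h : Min π G) (hF : Frame S E)
include h hF

theorem four_normalizer_ne_top : normalizer (E : Set G) ≠ ⊤ := h.normalizer_ne_top hF.isPGroup_four hF.four_ne_bot

theorem four_normalizer_struct : ∃ L : Subgroup G, L ≤ normalizer (E : Set G) ∧ PiNum π (Nat.card L) ∧
    L ≤ normalizer ((S : Subgroup G) : Set G) ∧
    ∀ x ∈ normalizer (E : Set G), ∃ k ∈ pk π (normalizer (E : Set G)), ∃ l ∈ L, k * l = x := by
  obtain ⟨L, hL, hLπ, -, hLS, hgen⟩ := h.struct (h.four_normalizer_ne_top hF) hF.sylow_le_normalizer_four S.2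
    fun Q hQ hSQ _ => S.3 hQ hSQ
  exact ⟨L, hL, hLπ, hLS, hgen⟩

/-- The Sylow 2-subgroup of the centralizer of an element acting nontrivially on `S / E`. -/
theorem four_max_centralizer {x : G} (hx : x ∈ normalizer ((S : Subgroup G) : Set G))
    (hodd : Odd (orderOf x)) (hxE : ∀ e ∈ E, Commute x e) (hxS : ∃ s ∈ (S : Subgroup G), ¬ Commute x s)
    (Q : Subgroup G) (hQ : IsPGroup 2 Q) (hEQ : E ≤ Q) (hQx : Q ≤ centralizer ({x} : Set G)) : Q = E := by
  haveI := Fact.mk Nat.prime_two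
  by_contra hne
  have hlt : E.subgroupOf Q < ⊤ :=
    lt_top_iff_ne_top.2 fun e => hne (le_antisymm (subgroupOf_eq_top.1 e) hEQ)
  haveI : Group.IsNilpotent Q := hQ.isNilpotent
  obtain ⟨⟨d, hdQ⟩, hdn, hd⟩ := SetLike.exists_of_lt (Group.normalizerCondition_of_isNilpotent _ hlt)
  have hdN : d ∈ normalizer (E : Set G) := by
    rw [mem_normalizer_iff]
    intro y
    constructor
    · intro hy
      exact mem_subgroupOf.1 ((mem_normalizer_iff.1 hdn ⟨y, hEQ hy⟩).1 (mem_subgroupOf.2 hy))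
    · intro hy
      have h1 : y ∈ Q := by
        have := mul_mem (mul_mem (inv_mem hdQ) (hEQ hy)) hdQ
        simpa [mul_assoc] using this
      exact mem_subgroupOf.1 ((mem_normalizer_iff.1 hdn ⟨y, h1⟩).2 (mem_subgroupOf.2 hy))
  have hU := h.four_normalizer_ne_top hF
  obtain ⟨L, hLU, hLπ, hLS, hgen⟩ := h.four_normalizer_struct hF
  obtain ⟨k, hk, l, hl, e⟩ := hgen d hdN
  subst e
  obtain ⟨m, hm⟩ := hQ ⟨k * l, hdQ⟩
  have hm' : (k * l) ^ 2 ^ m = 1 := congrArg Subtype.val hm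
  have hl2 : l ^ 2 ^ m = 1 := h.pow_eq_one_of_mul hU hk (hLU hl)
    (hLπ.of_dvd (orderOf_mk l hl ▸ orderOf_dvd_natCard _)) hm'
  have hlS : l ∈ (S : Subgroup G) := mem_sylow_of_normalizer S (hLS hl) (orderOf_dvd_of_pow_eq_one hl2)
  have hxU : x ∈ normalizer (E : Set G) := hF.normalizer_sylow_le hx
  have hcomm : Commute x (k * l) := (mem_centralizer_singleton_iff.1 (hQx hdQ)).symm
  have hkx : x * k * x⁻¹ ∈ pk π (normalizer (E : Set G)) :=
    conj_mem_pk (fun y hy => mul_mem (mul_mem hxU hy) (inv_mem hxU)) hk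
  have hxl : x * l * x⁻¹ * l⁻¹ = (x * k * x⁻¹)⁻¹ * k := by
    have e : x * k * x⁻¹ * (x * l * x⁻¹) = k * l := by
      rw [show x * k * x⁻¹ * (x * l * x⁻¹) = x * (k * l) * x⁻¹ by group, hcomm.eq, mul_inv_cancel_right]
    rw [eq_inv_mul_iff_mul_eq, ← mul_assoc, e, mul_inv_cancel_right]
  have hxl1 : x * l * x⁻¹ * l⁻¹ = 1 := by
    obtain ⟨j, hj⟩ := S.2 ⟨x * l * x⁻¹ * l⁻¹, mul_mem ((mem_normalizer_iff.1 hx l).1 hlS) (inv_mem hlS)⟩
    refine h.eq_one_of_twoPow hU ?_ (congrArg Subtype.val hj)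
    show x * l * x⁻¹ * l⁻¹ ∈ pk π (normalizer (E : Set G))
    rw [hxl]
    exact mul_mem (inv_mem hkx) hk
  have hlE : l ∈ E := by
    by_contra hlE
    obtain ⟨s, hs, hns⟩ := hxS
    refine hns (hF.centralizes_of_fixed hx hodd hxE hlS hlE ?_ s hs)
    rw [mul_inv_eq_one] at hxl1
    rw [hxl1, inv_mul_cancel]
    exact E.one_mem
  have hk1 : k = 1 := by
    have hc : Commute k l := (mem_centralizer_iff.1 (h.pk_normalizer_le hF.isPGroup_four hk) l hlE).symm
    rw [hc.mul_pow, hl2, mul_one] at hm'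
    exact h.eq_one_of_twoPow hU hk hm'
  subst hk1
  exact hd (mem_subgroupOf.2 (by simpa using hlE))

/-- Elements of odd order of `N(S)` centralizing `E` centralize `S`. -/
theorem centralizes_sylow : ∀ l ∈ normalizer ((S : Subgroup G) : Set G), Odd (orderOf l) →
    (∀ e ∈ E, Commute l e) → ∀ s ∈ (S : Subgroup G), Commute l s := by
  classical
  by_contra! hex
  obtain ⟨l₀, hl₀, hl₀o, hl₀E, s₀, hs₀, hns₀⟩ := hex
  haveI := h.simple
  haveI : Fact (Nat.Prime 5) := ⟨by norm_num⟩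
  set N := normalizer ((S : Subgroup G) : Set G) with hN
  set H : Subgroup G := N ⊓ centralizer (E : Set G) with hH
  let σ := hF.cosetHom
  let ρ : H →* Equiv.Perm (Frame.Cosets S E) := σ.comp (Subgroup.inclusion (inf_le_left : H ≤ N))
  have hσfix : ∀ x : N, Odd (orderOf (x : G)) → (∀ e ∈ E, Commute (x : G) e) →
      ∀ q : Frame.Cosets S E, q ≠ ((1 : (S : Subgroup G)) : Frame.Cosets S E) → σ x q = q → σ x = 1 :=
    fun x ho hE q hq hfix => hF.cosetHom_centralizing (hF.cosetHom_eq_one_of_fixed ho hE hq hfix)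
  have hEcomm : ∀ {x : G}, x ∈ H → ∀ e ∈ E, Commute x e := fun hx e he =>
    ((mem_centralizer_iff.1 hx.2) e he).symm
  -- the image has order five
  set Φ := ρ.range with hΦ
  have hoddrep : ∀ x : H, ∃ y : H, Odd (orderOf (y : G)) ∧ ρ y = ρ x := fun x => by
    obtain ⟨m, hm, hmo, hmσ⟩ := hF.exists_odd (Subgroup.inclusion (inf_le_left : H ≤ N) x)
    have hmE : (m : G) ∈ centralizer (E : Set G) := by
      obtain ⟨z, rfl⟩ := mem_zpowers_iff.1 hm
      exact Subgroup.zpow_mem (centralizer (E : Set G)) x.2.2 z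
    exact ⟨⟨m, m.2, hmE⟩, hmo, hmσ⟩
  have hΦ5 : Nat.card Φ = 5 := by
    obtain ⟨a, ha, ha1⟩ := hF.exists_ne_one
    set Ω := {q : Frame.Cosets S E // hF.cosetSq q = a}
    letI act : MulAction Φ Ω :=
      { smul := fun φ q => ⟨(φ : Equiv.Perm _) q.1, by
          obtain ⟨_, x, rfl⟩ := φ
          show hF.cosetSq (σ _ q.1) = a
          rw [hF.cosetSq_cosetHom, q.2]
          show (x : G) * a * (x : G)⁻¹ = a
          rw [(hEcomm x.2 a ha).eq, mul_inv_cancel_right]⟩
        one_smul := fun q => Subtype.ext rfl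
        mul_smul := fun φ ψ q => Subtype.ext rfl }
    have hfree : ∀ q : Ω, MulAction.stabilizer Φ q = ⊥ := by
      rintro ⟨q, hq⟩
      rw [Subgroup.eq_bot_iff_forall]
      rintro ⟨φ, x, rfl⟩ hfix
      obtain ⟨y, hyo, hy⟩ := hoddrep x
      refine Subtype.ext ?_
      show ρ x = 1
      rw [← hy]
      refine hσfix _ hyo (hEcomm y.2) q (fun e => ha1 ?_) ?_
      · rw [← hq, e, hF.cosetSq_eq_one.2 rfl]
      · show ρ y q = q
        rw [hy]
        exact congrArg Subtype.val (MulAction.mem_stabilizer_iff.1 hfix)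
    have hdvd : Nat.card Φ ∣ 5 := by
      rw [← hF.card_fibre ha ha1, Nat.card_congr (MulAction.selfEquivOrbitsQuotientProd hfree), Nat.card_prod]
      exact dvd_mul_left _ _
    refine ((Nat.dvd_prime (Fact.out : Nat.Prime 5)).1 hdvd).resolve_left fun h1 => hns₀ ?_
    have hl₀H : l₀ ∈ H := ⟨hl₀, mem_centralizer_iff.2 fun e he => (hl₀E e he).eq.symm⟩
    have h0 : ρ ⟨l₀, hl₀H⟩ = 1 := by
      have hbot := Subgroup.eq_bot_of_card_eq Φ h1
      exact (Subgroup.eq_bot_iff_forall Φ).1 hbot _ ⟨_, rfl⟩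
    by_cases hsE : s₀ ∈ E
    · exact hl₀E s₀ hsE
    · exact hF.centralizes_of_fixed hl₀ hl₀o hl₀E hs₀ hsE ((hF.cosetHom_eq_one_iff _).1 h0 s₀ hs₀) s₀ hs₀
  haveI hΦc : IsCyclic Φ := isCyclic_of_prime_card hΦ5
  -- `N(S)` centralizes the image
  have hcentral : ∀ (n : N) (x : H), σ n * ρ x * (σ n)⁻¹ = ρ x := by
    intro n x
    obtain ⟨m, -, hmo, hmσ⟩ := hF.exists_odd n
    rw [← hmσ]
    have hnorm : ∀ k : N, σ k ∈ normalizer (Φ : Set (Equiv.Perm (Frame.Cosets S E))) := by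
      intro k
      have key : ∀ k : N, ∀ φ ∈ Φ, σ k * φ * (σ k)⁻¹ ∈ Φ := by
        rintro k _ ⟨y, rfl⟩
        have hy : (k : G) * y * (k : G)⁻¹ ∈ H := by
          refine ⟨N.mul_mem (N.mul_mem k.2 y.2.1) (N.inv_mem k.2), ?_⟩
          exact hF.conj_mem_centralizer_four (hF.normalizer_sylow_le k.2) y.2.2
        refine ⟨⟨_, hy⟩, ?_⟩
        show σ _ = σ k * σ _ * (σ k)⁻¹
        rw [← map_inv, ← map_mul, ← map_mul]
        rfl
      rw [mem_normalizer_iff]
      refine fun φ => ⟨key k φ, fun hφ => ?_⟩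
      have := key k⁻¹ _ hφ
      rw [map_inv, inv_inv] at this
      simpa [mul_assoc] using this
    have h1 : Φ.normalizerMonoidHom ⟨σ m, hnorm m⟩ = 1 := by
      rw [← orderOf_eq_one_iff]
      refine Nat.eq_one_of_dvd_coprimes (a := orderOf (m : G)) (b := 4) ?_ ?_ ?_
      · exact (Nat.Coprime.pow_right 2 (Nat.coprime_two_right.2 hmo))
      · refine (orderOf_map_dvd _ _).trans ?_
        rw [orderOf_mk, orderOf_coe]
        exact orderOf_map_dvd σ m
      · refine (_root_.orderOf_dvd_natCard _).trans (dvd_of_eq ?_)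
        rw [IsCyclic.card_mulAut, hΦ5]
        rfl
    exact congrArg Subtype.val (DFunLike.congr_fun h1 ⟨ρ x, x, rfl⟩)
  -- a Sylow 5-subgroup
  obtain ⟨P⟩ : Nonempty (Sylow 5 H) := inferInstance
  have hPsur : ∃ x : H, x ∈ (P : Subgroup H) ∧ ρ x ≠ 1 := by
    by_contra! hall
    refine P.not_dvd_index ?_
    have hle : (P : Subgroup H) ≤ ρ.ker := fun x hx => MonoidHom.mem_ker.2 (hall x hx)
    refine (dvd_of_eq ?_).trans (index_dvd_of_le hle)
    rw [index_ker, ← hΦ, hΦ5]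
  set P' := (P : Subgroup H).map H.subtype with hP'
  have hP'p : IsPGroup 5 P' := P.2.map _
  have hP'H : P' ≤ H := map_subtype_le _
  have h5odd : ∀ {x : G}, x ∈ P' → Odd (orderOf x) := fun {x} hx => by
    obtain ⟨k, hk⟩ := hP'p ⟨x, hx⟩
    exact (Odd.pow (show Odd 5 by decide)).of_dvd_nat (orderOf_dvd_of_pow_eq_one (congrArg Subtype.val hk))
  let φ : P' →* Equiv.Perm (Frame.Cosets S E) := ρ.comp (Subgroup.inclusion hP'H)
  have hφS : ∀ x : P', φ x = 1 → ∀ s ∈ (S : Subgroup G), Commute (x : G) s := fun x hx s hs => by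
    by_cases hsE : s ∈ E
    · exact hEcomm (hP'H x.2) s hsE
    · exact hF.centralizes_of_fixed (hP'H x.2).1 (h5odd x.2) (hEcomm (hP'H x.2)) hs hsE
        ((hF.cosetHom_eq_one_iff _).1 hx s hs) s hs
  have hmove : ∀ x : P', φ x ≠ 1 → ∃ s ∈ (S : Subgroup G), ¬ Commute (x : G) s := fun x hx => by
    by_contra! hall
    exact hx (hF.cosetHom_centralizing hall)
  obtain ⟨x₀, hx₀⟩ : ∃ x₀ : P', φ x₀ ≠ 1 := by
    obtain ⟨x, hx, hx1⟩ := hPsur
    exact ⟨⟨x, ⟨x, hx, rfl⟩⟩, hx1⟩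
  have hπ5 : (5 : ℕ) ∈ π := by
    by_contra h5
    obtain ⟨s, hs, hns⟩ := hmove x₀ hx₀
    refine hns ?_
    obtain ⟨k, hk⟩ := hP'p x₀
    have hc := h.hom (S : Subgroup G) (h.piNum_of_twoGroup S.2) x₀ (hP'H x₀.2).1
      ((coNum_pow (Fact.out : Nat.Prime 5) h5 k).of_dvd (orderOf_dvd_of_pow_eq_one (congrArg Subtype.val hk)))
    exact (mem_centralizer_iff.1 hc s hs).symm
  have hEle : ∀ x : P', E ≤ centralizer ({(x : G)} : Set G) := fun x e he =>
    mem_centralizer_singleton_iff.2 (hEcomm (hP'H x.2) e he).eq.symm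
  have hmax : ∀ x : P', φ x ≠ 1 → ∀ Q : Subgroup G, IsPGroup 2 Q → E ≤ Q →
      Q ≤ centralizer ({(x : G)} : Set G) → Q = E := fun x hx =>
    h.four_max_centralizer hF (hP'H x.2).1 (h5odd x.2) (hEcomm (hP'H x.2)) (hmove x hx)
  have hU := h.four_normalizer_ne_top hF
  obtain ⟨L, hLU, -, hLS, hgen⟩ := h.four_normalizer_struct hF
  have hconjE : ∀ {n : G}, (∀ e ∈ E, n * e * n⁻¹ ∈ E) → n ∈ normalizer (E : Set G) := fun {n} hn => by
    refine mem_normalizer_iff_conj_image_eq.2 (congrArg SetLike.coe (eq_of_le_of_card_ge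
      (H := E.map (MulAut.conj n).toMonoidHom) ?_ ?_))
    · rintro _ ⟨e, he, rfl⟩
      exact hn e he
    · rw [card_map_of_injective (show Function.Injective (MulAut.conj n).toMonoidHom from (MulAut.conj n).injective)]
  -- fusion respects `φ`
  have hhalf : ∀ (x y : P') (g : G), g * x * g⁻¹ = y → φ x ≠ 1 → φ y = φ x := by
    intro x y g hg hx
    have hy : φ y ≠ 1 := by
      intro hy
      set R := (S : Subgroup G).map (MulAut.conj g⁻¹).toMonoidHom with hR
      have hRC : R ≤ centralizer ({(x : G)} : Set G) := by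
        rintro _ ⟨s, hs, rfl⟩
        refine mem_centralizer_singleton_iff.2 ?_
        show g⁻¹ * s * g⁻¹⁻¹ * x = x * (g⁻¹ * s * g⁻¹⁻¹)
        have e1 : g⁻¹ * s * g⁻¹⁻¹ * (x : G) = g⁻¹ * (s * (g * x * g⁻¹)) * g := by group
        have e2 : (x : G) * (g⁻¹ * s * g⁻¹⁻¹) = g⁻¹ * ((g * x * g⁻¹) * s) * g := by group
        rw [e1, e2, hg, (hφS y hy s hs).eq]
      have h1 := card_le_of_max (hEle x) hF.isPGroup_four (hmax x hx) (S.2.map _) hRC
      rw [card_map_of_injective (show Function.Injective (MulAut.conj g⁻¹).toMonoidHom from (MulAut.conj g⁻¹).injective), hF.card,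
        (@IsKleinFour.card_four E _ hF.klein)] at h1
      omega
    obtain ⟨c, hc, hcE⟩ := exists_conj_le_of_max (hEle y) hF.isPGroup_four (hmax y hy)
      (hF.isPGroup_four.map (MulAut.conj g).toMonoidHom) (by
        rintro _ ⟨e, he, rfl⟩
        refine mem_centralizer_singleton_iff.2 ?_
        show g * e * g⁻¹ * y = y * (g * e * g⁻¹)
        rw [← hg, show g * e * g⁻¹ * (g * x * g⁻¹) = g * (e * x) * g⁻¹ by group,
          ← (hEcomm (hP'H x.2) e he).eq]
        group)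
    have hn : c * g ∈ normalizer (E : Set G) := hconjE fun e he => by
      have := hcE _ ⟨e, he, rfl⟩
      rwa [show c * g * e * (c * g)⁻¹ = c * (g * e * g⁻¹) * c⁻¹ by group]
    have hcg : c * g * x * (c * g)⁻¹ = y := by
      rw [show c * g * x * (c * g)⁻¹ = c * (g * x * g⁻¹) * c⁻¹ by group, hg,
        mem_centralizer_singleton_iff.1 hc, mul_inv_cancel_right]
    obtain ⟨k, hk, l, hl, hkl⟩ := hgen _ hn
    rw [← hkl] at hcg
    have hlN : l ∈ N := hLS hl
    have hl' : l * x * l⁻¹ ∈ H := ⟨N.mul_mem (N.mul_mem hlN (hP'H x.2).1) (N.inv_mem hlN),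
      hF.conj_mem_centralizer_four (hLU hl) (hP'H x.2).2⟩
    set d := (y : G) * (l * x * l⁻¹)⁻¹ with hd
    have hdK : d ∈ pk π (normalizer (E : Set G)) := by
      have e : d = k * (l * x * l⁻¹ * k⁻¹ * (l * x * l⁻¹)⁻¹) := by rw [hd, ← hcg]; group
      rw [e]
      exact mul_mem hk (conj_mem_pk (fun z hz => mul_mem (mul_mem (hF.normalizer_sylow_le hl'.1) hz)
        (inv_mem (hF.normalizer_sylow_le hl'.1))) (inv_mem hk))
    have hdH : d ∈ H := H.mul_mem (hP'H y.2) (H.inv_mem hl')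
    have hρd : ρ ⟨d, hdH⟩ = 1 := hF.cosetHom_centralizing fun s hs =>
      (mem_centralizer_iff.1 (h.hom (S : Subgroup G) (h.piNum_of_twoGroup S.2) d hdH.1
        ((h.mem_pk hU).1 hdK).2) s hs).symm
    have hρy : (⟨y, hP'H y.2⟩ : H) = ⟨d, hdH⟩ * ⟨l * x * l⁻¹, hl'⟩ := Subtype.ext (by
      show (y : G) = d * (l * x * l⁻¹)
      rw [hd, inv_mul_cancel_right])
    show ρ ⟨y, hP'H y.2⟩ = ρ ⟨x, hP'H x.2⟩
    rw [hρy, map_mul, hρd, one_mul, ← hcentral ⟨l, hlN⟩ ⟨x, hP'H x.2⟩]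
    show σ _ = σ _ * σ _ * (σ _)⁻¹
    rw [← map_inv, ← map_mul, ← map_mul]
    rfl
  have hfus : ∀ (x y : P') (g : G), g * x * g⁻¹ = y → φ y = φ x := by
    intro x y g hg
    by_cases hx : φ x = 1
    · by_cases hy : φ y = 1
      · rw [hx, hy]
      · exact (hhalf y x g⁻¹ (by rw [← hg]; group) hy).symm
    · exact hhalf x y g hg hx
  -- a Sylow 5-subgroup of `G`
  have hC : centralizer (P' : Set G) ≠ ⊤ := fun e => h.centralizer_ne_top (t := (x₀ : G))
    (fun e0 => hx₀ (by rw [show x₀ = 1 from Subtype.ext e0, map_one]))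
    (eq_top_iff.2 fun z _ => mem_centralizer_singleton_iff.2
      (mem_centralizer_iff.1 (e ▸ mem_top z : z ∈ centralizer (P' : Set G)) x₀ x₀.2).symm)
  have hEC : E ≤ centralizer (P' : Set G) := fun e he =>
    mem_centralizer_iff.2 fun p hp => (hEcomm (hP'H hp) e he).eq
  have hCle : centralizer (P' : Set G) ≤ centralizer ({(x₀ : G)} : Set G) := fun z hz =>
    mem_centralizer_singleton_iff.2 (mem_centralizer_iff.1 hz x₀ x₀.2).symm
  have hmaxC : ∀ Q : Subgroup G, IsPGroup 2 Q → E ≤ Q → Q ≤ centralizer (P' : Set G) → Q = E :=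
    fun Q hQ hEQ hQC => hmax x₀ hx₀ Q hQ hEQ (hQC.trans hCle)
  obtain ⟨L', hL'C, -, -, hL'E, hgen'⟩ := h.struct hC hEC hF.isPGroup_four hmaxC
  have hNP : Nat.card (normalizer (P' : Set G)) ∣
      Nat.card (pk π (centralizer (P' : Set G))) * Nat.card (normalizer (E : Set G)) := by
    refine (card_dvd_mul_card (K := pk π (centralizer (P' : Set G)))
      (Y := normalizer (E : Set G) ⊓ normalizer (P' : Set G))
      ((pk_le π _).trans (centralizer_le_normalizer _)) ?_ inf_le_right ?_).trans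
      (Nat.mul_dvd_mul_left _ (card_dvd_of_le inf_le_left))
    · intro g hg k hk
      refine conj_mem_pk (fun z hz => mem_centralizer_iff.2 fun p hp => ?_) hk
      have h1 : g⁻¹ * p * g ∈ P' := by
        have := (mem_normalizer_iff.1 hg (g⁻¹ * p * g)).2 (by simpa [mul_assoc] using hp)
        exact this
      calc p * (g * z * g⁻¹) = g * (g⁻¹ * p * g * z) * g⁻¹ := by group
        _ = g * (z * (g⁻¹ * p * g)) * g⁻¹ := by rw [mem_centralizer_iff.1 hz _ h1]
        _ = g * z * g⁻¹ * p := by group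
    · intro g hg
      obtain ⟨c, hc, hcE⟩ := exists_conj_le_of_max hEC hF.isPGroup_four hmaxC
        (hF.isPGroup_four.map (MulAut.conj g).toMonoidHom) (by
          rintro _ ⟨e, he, rfl⟩
          refine mem_centralizer_iff.2 fun p hp => ?_
          have h1 : g⁻¹ * p * g ∈ P' := by
            have := (mem_normalizer_iff.1 hg (g⁻¹ * p * g)).2 (by simpa [mul_assoc] using hp)
            exact this
          show p * (g * e * g⁻¹) = g * e * g⁻¹ * p
          calc p * (g * e * g⁻¹) = g * (g⁻¹ * p * g * e) * g⁻¹ := by group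
            _ = g * (e * (g⁻¹ * p * g)) * g⁻¹ := by rw [(hEcomm (hP'H h1) e he).eq]
            _ = g * e * g⁻¹ * p := by group)
      obtain ⟨k, hk, l, hl, hkl⟩ := hgen' c⁻¹ (inv_mem hc)
      have hn : c * g ∈ normalizer (E : Set G) := hconjE fun e he => by
        have := hcE _ ⟨e, he, rfl⟩
        rwa [show c * g * e * (c * g)⁻¹ = c * (g * e * g⁻¹) * c⁻¹ by group]
      refine ⟨k, hk, l * (c * g), ⟨mul_mem (hL'E hl) hn, mul_mem (centralizer_le_normalizer _ (hL'C hl))
        (mul_mem (centralizer_le_normalizer _ hc) hg)⟩, ?_⟩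
      rw [← mul_assoc, hkl, inv_mul_cancel_left]
  have hnot : ∀ K : Subgroup G, K ≠ ⊤ → ¬ 5 ∣ Nat.card (pk π K) := fun K hK hd =>
    h.coNum_pk hK 5 Fact.out hd hπ5
  obtain ⟨Q, hPQ⟩ := hP'p.exists_le_sylow
  have hQP : (Q : Subgroup G) = P' := by
    by_contra hne
    have hlt : P'.subgroupOf (Q : Subgroup G) < ⊤ :=
      lt_top_iff_ne_top.2 fun e => hne (le_antisymm (subgroupOf_eq_top.1 e) hPQ)
    haveI : Group.IsNilpotent (Q : Subgroup G) := Q.2.isNilpotent
    obtain ⟨⟨d, hdQ⟩, hdn, hd⟩ := SetLike.exists_of_lt (Group.normalizerCondition_of_isNilpotent _ hlt)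
    have hdN : d ∈ normalizer (P' : Set G) := by
      rw [mem_normalizer_iff]
      intro y
      constructor
      · intro hy
        exact mem_subgroupOf.1 ((mem_normalizer_iff.1 hdn ⟨y, hPQ hy⟩).1 (mem_subgroupOf.2 hy))
      · intro hy
        have h1 : y ∈ (Q : Subgroup G) := by
          have := mul_mem (mul_mem (inv_mem hdQ) (hPQ hy)) hdQ
          simpa [mul_assoc] using this
        exact mem_subgroupOf.1 ((mem_normalizer_iff.1 hdn ⟨y, h1⟩).2 (mem_subgroupOf.2 hy))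
    obtain ⟨a, hQa⟩ := IsPGroup.iff_card.1 (Q.2.to_le (inf_le_left : (Q : Subgroup G) ⊓ normalizer (P' : Set G) ≤ Q))
    obtain ⟨b, hPb⟩ := IsPGroup.iff_card.1 hP'p
    have hlt' : Nat.card P' < Nat.card ((Q : Subgroup G) ⊓ normalizer (P' : Set G) : Subgroup G) := by
      refine lt_of_le_of_ne (Nat.le_of_dvd Nat.card_pos (card_dvd_of_le (le_inf hPQ le_normalizer))) fun e => ?_
      exact hd (mem_subgroupOf.2 (eq_of_le_of_card_ge (le_inf hPQ le_normalizer) e.ge ▸ (⟨hdQ, hdN⟩ :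
        d ∈ (Q : Subgroup G) ⊓ normalizer (P' : Set G))))
    rw [hQa, hPb] at hlt'
    have hba : b < a := (Nat.pow_lt_pow_iff_right (by norm_num)).1 hlt'
    have h1 : 5 ^ (b + 1) ∣ Nat.card (pk π (centralizer (P' : Set G))) *
        (Nat.card (pk π (normalizer (E : Set G))) * (6 * Nat.card H)) := by
      refine (pow_dvd_pow 5 hba).trans (hQa ▸ ((card_dvd_of_le inf_le_right).trans (hNP.trans ?_)))
      refine Nat.mul_dvd_mul_left _ ((card_dvd_mul_card (pk_le π _) (fun g hg k hk => conj_mem_pk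
        (fun z hz => mul_mem (mul_mem hg hz) (inv_mem hg)) hk) hLU hgen).trans (Nat.mul_dvd_mul_left _ ?_))
      exact (card_dvd_of_le hLS).trans hF.card_normalizer_dvd
    have hcop : Nat.Coprime (5 ^ (b + 1)) (Nat.card (pk π (centralizer (P' : Set G)))) :=
      Nat.Coprime.pow_left _ ((Fact.out : Nat.Prime 5).coprime_iff_not_dvd.2 (hnot _ hC))
    have hcop2 : Nat.Coprime (5 ^ (b + 1)) (Nat.card (pk π (normalizer (E : Set G)))) :=
      Nat.Coprime.pow_left _ ((Fact.out : Nat.Prime 5).coprime_iff_not_dvd.2 (hnot _ hU))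
    have h2 : 5 ^ (b + 1) ∣ Nat.card H :=
      (Nat.Coprime.pow_left _ (by norm_num : Nat.Coprime 5 6)).dvd_of_dvd_mul_left
        (hcop2.dvd_of_dvd_mul_left (hcop.dvd_of_dvd_mul_left h1))
    rw [← (P : Subgroup H).card_mul_index, ← card_map_of_injective (K := (P : Subgroup H)) H.subtype_injective,
      ← hP', hPb, pow_succ] at h2
    exact P.not_dvd_index (Nat.dvd_of_mul_dvd_mul_left (by positivity) h2)
  -- transfer
  have hfoc : P'.focalSubgroup.subgroupOf P' ≤ φ.ker := by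
    have hle : P'.focalSubgroup ≤ φ.ker.map P'.subtype := by
      rw [Subgroup.focalSubgroup_def, Subgroup.closure_le]
      rintro _ ⟨hxu, x, hx, u, rfl⟩
      refine ⟨⟨_, hxu⟩, MonoidHom.mem_ker.2 ?_, rfl⟩
      have h4 : u * x⁻¹ * u⁻¹ ∈ P' := by
        have h5 := P'.mul_mem (P'.inv_mem hx) hxu
        rwa [commutatorElement_def, show x⁻¹ * (x * u * x⁻¹ * u⁻¹) = u * x⁻¹ * u⁻¹ by group] at h5
      have e : (⟨⁅x, u⁆, hxu⟩ : P') = ⟨x, hx⟩ * ⟨u * x⁻¹ * u⁻¹, h4⟩ := Subtype.ext (by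
        show ⁅x, u⁆ = x * (u * x⁻¹ * u⁻¹)
        rw [commutatorElement_def]
        group)
      rw [e, map_mul, hfus (⟨x, hx⟩⁻¹) ⟨u * x⁻¹ * u⁻¹, h4⟩ u rfl, map_inv, mul_inv_cancel]
    intro y hy
    obtain ⟨z, hz, hzy⟩ := hle (mem_subgroupOf.1 hy)
    exact P'.subtype_injective hzy ▸ hz
  refine hx₀ (MonoidHom.mem_ker.1 (hfoc (mem_subgroupOf.2 ?_)))
  have hx₀Q : (x₀ : G) ∈ (Q : Subgroup G).focalSubgroup := by
    rw [← CfsgLib.Fusion.commutator_inf_eq_focal (CfsgLib.Fusion.coprime_card_focalQuotient Q)]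
    exact ⟨h.commutator_eq_top ▸ mem_top _, hQP.symm.le x₀.2⟩
  rw [hQP] at hx₀Q
  exact hx₀Q

end Min

end CfsgLib.PiHom
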