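import Cfsg.Agent.Lib.PiHom.Klein
import Cfsg.Agent.Lib.PGroup.TransInvol.RankTwo

/-!
# The structure of the Sylow 2-subgroups of a minimal counterexample
-/

set_option autoImplicit false
set_option linter.unusedSectionVars false
set_option linter.style.haveILetI false

open Subgroup
open scoped commutatorElement

namespace CfsgLib.PiHom

universe u

variable {π : Set ℕ} {G : Type u} [Group G] [Finite G]

/-- The Suzuki type: `S/E` elementary of order 16, centralizers of its elements abelian of order 16. -/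
structure Frame (S : Sylow 2 G) (E : Subgroup G) : Prop extends Four S E where
  card : Nat.card (S : Subgroup G) = 64
  sq : ∀ s ∈ (S : Subgroup G), s * s ∈ E
  comm : ∀ s ∈ (S : Subgroup G), ∀ t ∈ (S : Subgroup G), s * t * s⁻¹ * t⁻¹ ∈ E
  line : ∀ y ∈ (S : Subgroup G), y ∉ E →
    Nat.card ((S : Subgroup G) ⊓ centralizer ({y} : Set G) : Subgroup G) = 16
  abel : ∀ y ∈ (S : Subgroup G), y ∉ E → ∀ a ∈ (S : Subgroup G), ∀ b ∈ (S : Subgroup G),
    Commute a y → Commute b y → Commute a b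

theorem line_mul {F : Type*} [Field F] [CharP F 2] {a c a' c' : F} (hne : a ≠ 0 ∨ c ≠ 0) :
    a * c' + a' * c = 0 ↔ ∃ t : F, a' = t * a ∧ c' = t * c := by
  have h2 : (2 : F) = 0 := CharTwo.two_eq_zero
  constructor
  · intro h
    rcases hne with h' | h'
    · refine ⟨a' / a, by field_simp, ?_⟩
      field_simp
      linear_combination h - a' * c * h2
    · refine ⟨c' / c, ?_, by field_simp⟩
      field_simp
      linear_combination h - a * c' * h2
  · rintro ⟨t, rfl, rfl⟩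
    linear_combination t * a * c * h2

namespace Min

variable (h : Min π G)
include h

theorem exists_cycle (S : Sylow 2 G) {E : Subgroup G} (hF : Four S E) :
    ∃ n ∈ normalizer ((S : Subgroup G) : Set G), ∀ a ∈ E, ∀ b ∈ E, a ≠ 1 → b ≠ 1 →
      ∃ i : ℕ, n ^ i * a * (n ^ i)⁻¹ = b := by
  classical
  haveI := Fact.mk Nat.prime_two
  haveI := hF.klein
  have hEE : ∀ e ∈ E, e * e = 1 := fun e he => by
    have := Monoid.pow_exponent_eq_one (⟨e, he⟩ : E)
    rw [IsKleinFour.exponent_two, pow_two] at this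
    exact congrArg Subtype.val this
  haveI : Nontrivial E := Finite.one_lt_card_iff_nontrivial.1 (by rw [IsKleinFour.card_four]; norm_num)
  obtain ⟨⟨a, ha⟩, ha1⟩ := exists_ne (1 : E)
  have ha1' : a ≠ 1 := fun e => ha1 (Subtype.ext e)
  obtain ⟨b, hb, hb1, hba⟩ : ∃ b ∈ E, b ≠ 1 ∧ b ≠ a := by
    by_contra! hall
    have hle : (E : Set G) ⊆ {1, a} := fun x hx => (em (x = 1)).imp_right fun h1 => hall x hx h1
    have := Set.ncard_le_ncard hle
    rw [← Nat.card_coe_set_eq, show Nat.card (E : Set G) = 4 from IsKleinFour.card_four] at this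
    have h2 : ({1, a} : Set G).ncard ≤ 2 := (Set.ncard_insert_le _ _).trans (by rw [Set.ncard_singleton])
    omega
  have hlist : ∀ x ∈ E, x ≠ 1 → x = a ∨ x = b ∨ x = a * b := by
    intro x hx hx1
    by_contra! hne
    have hab1 : a * b ≠ 1 := fun e => hba (by
      rw [← inv_eq_of_mul_eq_one_right e, inv_eq_of_mul_eq_one_right (hEE a ha)])
    have hle : ({1, a, b, a * b, x} : Set G) ⊆ (E : Set G) := by
      rintro y (rfl | rfl | rfl | rfl | rfl)
      exacts [E.one_mem, ha, hb, E.mul_mem ha hb, hx]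
    have := Set.ncard_le_ncard hle (Set.toFinite _)
    rw [← Nat.card_coe_set_eq (E : Set G), show Nat.card (E : Set G) = 4 from IsKleinFour.card_four,
      Set.ncard_insert_of_notMem (by simp [Ne.symm ha1', Ne.symm hb1, Ne.symm hab1, Ne.symm hx1]),
      Set.ncard_insert_of_notMem (by simp [Ne.symm hba, Ne.symm hne.1, hb1]),
      Set.ncard_insert_of_notMem (by simp [Ne.symm hne.2.1, ha1']),
      Set.ncard_pair (Ne.symm hne.2.2)] at this
    omega
  obtain ⟨n, hn, hab⟩ := hF.trans a ha b hb ha1' hb1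
  have hnb : n * b * n⁻¹ ≠ a := by
    intro e
    set m := orderOf n
    obtain ⟨i, r, hr, hm⟩ := Nat.exists_eq_pow_mul_and_not_dvd (orderOf_pos n).ne' 2 (by norm_num)
    have key : ∀ j : ℕ, (Odd j → n ^ j * a * (n ^ j)⁻¹ = b) ∧ (Even j → n ^ j * a * (n ^ j)⁻¹ = a) := by
      intro j
      induction j with
      | zero => exact ⟨fun h0 => absurd h0 (by decide), fun _ => by group⟩
      | succ j ih =>
        have e' : n ^ (j + 1) * a * (n ^ (j + 1))⁻¹ = n * (n ^ j * a * (n ^ j)⁻¹) * n⁻¹ := by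
          rw [pow_succ']; group
        refine ⟨fun hj => ?_, fun hj => ?_⟩
        · rw [e', ih.2 (by rw [Nat.odd_add_one, Nat.not_odd_iff_even] at hj; exact hj), hab]
        · rw [e', ih.1 (by rw [Nat.even_add_one, Nat.not_even_iff_odd] at hj; exact hj), e]
    have hs : n ^ r ∈ (S : Subgroup G) := by
      set N := normalizer ((S : Subgroup G) : Set G)
      have hp : IsPGroup 2 (zpowers (⟨n ^ r, pow_mem hn r⟩ : N)) := by
        have hr0 : r ≠ 0 := fun e => hr (by rw [e]; exact dvd_zero 2)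
        refine IsPGroup.of_card (n := i) ?_
        rw [Nat.card_zpowers, orderOf_mk, orderOf_pow' _ hr0, hm, mul_comm,
          Nat.gcd_eq_right (dvd_mul_right r _), Nat.mul_div_cancel_left _ (Nat.pos_of_ne_zero hr0)]
      obtain ⟨R, hR⟩ := hp.exists_le_sylow
      haveI : ((S.subtype le_normalizer : Sylow 2 N) : Subgroup N).Normal := by
        rw [Sylow.coe_subtype]; infer_instance
      haveI := Sylow.unique_of_normal (S.subtype (le_normalizer : (S : Subgroup G) ≤ N)) inferInstance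
      have h1 : (⟨n ^ r, pow_mem hn r⟩ : N) ∈ ((S.subtype le_normalizer : Sylow 2 N) : Subgroup N) :=
        Subsingleton.elim R (S.subtype le_normalizer) ▸ hR (mem_zpowers _)
      rw [Sylow.coe_subtype, mem_subgroupOf] at h1
      exact h1
    have h2 := (key r).1 (Nat.odd_iff.2 (Nat.two_dvd_ne_zero.1 hr))
    rw [← (hF.central a ha _ hs).eq, mul_inv_cancel_right] at h2
    exact hba h2.symm
  have hnE : ∀ x ∈ E, n * x * n⁻¹ ∈ E := fun x hx =>
    hF.invol _ ((mem_normalizer_iff.1 hn x).1 (hF.le hx)) (by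
      rw [show n * x * n⁻¹ * (n * x * n⁻¹) = n * (x * x) * n⁻¹ by group, hEE x hx]; group)
  have hbc : n * b * n⁻¹ = a * b := by
    rcases hlist _ (hnE b hb) (fun e => hb1 (conj_eq_one_iff.1 e)) with e | e | e
    · exact absurd e hnb
    · exact absurd (mul_left_cancel (mul_right_cancel (hab.trans e.symm))) (Ne.symm hba)
    · exact e
  have hca : n * (a * b) * n⁻¹ = a := by
    rw [show n * (a * b) * n⁻¹ = n * a * n⁻¹ * (n * b * n⁻¹) by group, hab, hbc, ← mul_assoc,
      show b * a = a * b from (hF.central b hb a (hF.le ha)).eq, mul_assoc, hEE b hb, mul_one]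
  have e1 : n ^ 1 * a * (n ^ 1)⁻¹ = b := by rw [pow_one, hab]
  have e2 : n ^ 2 * a * (n ^ 2)⁻¹ = a * b := by
    rw [show n ^ 2 * a * (n ^ 2)⁻¹ = n * (n * a * n⁻¹) * n⁻¹ by rw [pow_two]; group, hab, hbc]
  have f1 : n ^ 1 * b * (n ^ 1)⁻¹ = a * b := by rw [pow_one, hbc]
  have f2 : n ^ 2 * b * (n ^ 2)⁻¹ = a := by
    rw [show n ^ 2 * b * (n ^ 2)⁻¹ = n * (n * b * n⁻¹) * n⁻¹ by rw [pow_two]; group, hbc, hca]
  have g1 : n ^ 1 * (a * b) * (n ^ 1)⁻¹ = a := by rw [pow_one, hca]
  have g2 : n ^ 2 * (a * b) * (n ^ 2)⁻¹ = b := by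
    rw [show n ^ 2 * (a * b) * (n ^ 2)⁻¹ = n * (n * (a * b) * n⁻¹) * n⁻¹ by rw [pow_two]; group, hca, hab]
  have h0 : ∀ x : G, n ^ 0 * x * (n ^ 0)⁻¹ = x := fun x => by group
  refine ⟨n, hn, fun x hx y hy hx1 hy1 => ?_⟩
  rcases hlist x hx hx1 with rfl | rfl | rfl <;> rcases hlist y hy hy1 with rfl | rfl | rfl
  exacts [⟨0, h0 _⟩, ⟨1, e1⟩, ⟨2, e2⟩, ⟨2, f2⟩, ⟨0, h0 _⟩, ⟨1, f1⟩, ⟨1, g1⟩, ⟨2, g2⟩, ⟨0, h0 _⟩]

theorem exists_frame : ∃ (S : Sylow 2 G) (E : Subgroup G), Frame S E := by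
  classical
  haveI := Fact.mk Nat.prime_two
  obtain ⟨S, E, hF⟩ := h.exists_four
  haveI := hF.klein
  obtain ⟨n, hn, hcyc⟩ := h.exists_cycle S hF
  obtain ⟨a₀, ha₀, b₀, hb₀, hne₀⟩ := h.not_commutative_sylow S hF
  set T := (S : Subgroup G) with hT
  let φ : MulAut T := T.normalizerMonoidHom ⟨n, hn⟩
  have hφ : ∀ (i : ℕ) (x : T), ((φ ^ i) x : G) = n ^ i * x * (n ^ i)⁻¹ := fun i x => by
    show ((T.normalizerMonoidHom ⟨n, hn⟩ ^ i) x : G) = _
    rw [← map_pow]
    rfl
  have hEE : ∀ e ∈ E, e * e = 1 := fun e he => by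
    have := Monoid.pow_exponent_eq_one (⟨e, he⟩ : E)
    rw [IsKleinFour.exponent_two, pow_two] at this
    exact congrArg Subtype.val this
  have hE2 : ∀ x : T, x ^ 2 = 1 ↔ (x : G) ∈ E := fun x => by
    rw [Subtype.ext_iff, SubmonoidClass.coe_pow, OneMemClass.coe_one, pow_two]
    exact ⟨hF.invol x x.2, hEE x⟩
  have hfour : Nat.card {x : T // x ^ 2 = 1} = 4 := by
    rw [← (IsKleinFour.card_four : Nat.card E = 4)]
    exact Nat.card_congr
      { toFun := fun x => ⟨((x.1 : T) : G), (hE2 x.1).1 x.2⟩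
        invFun := fun e => ⟨⟨e, hF.le e.2⟩, (hE2 _).2 e.2⟩
        left_inv := fun x => rfl
        right_inv := fun e => rfl }
  have htwo : ∃ x y : T, x ≠ y ∧ x ≠ 1 ∧ x ^ 2 = 1 ∧ y ≠ 1 ∧ y ^ 2 = 1 := by
    haveI := Fintype.ofFinite E
    have h1 : 2 < Fintype.card E := by rw [← Nat.card_eq_fintype_card, IsKleinFour.card_four]; norm_num
    obtain ⟨x, y, z, hxy, hxz, hyz⟩ := Fintype.two_lt_card_iff.1 h1
    let f : E → T := fun e => ⟨e, hF.le e.2⟩
    have hf : Function.Injective f := fun e e' he =>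
      Subtype.ext (congrArg (fun t : T => (t : G)) he)
    have hf2 : ∀ e, f e ^ 2 = 1 := fun e => (hE2 _).2 e.2
    by_cases hx : x = 1
    · exact ⟨f y, f z, hf.ne hyz, hf.ne (a₂ := 1) (hx ▸ hxy.symm), hf2 y, hf.ne (a₂ := 1) (hx ▸ hxz.symm), hf2 z⟩
    by_cases hy : y = 1
    · exact ⟨f x, f z, hf.ne hxz, hf.ne (a₂ := 1) hx, hf2 x, hf.ne (a₂ := 1) (hy ▸ hyz.symm), hf2 z⟩
    exact ⟨f x, f y, hf.ne hxy, hf.ne (a₂ := 1) hx, hf2 x, hf.ne (a₂ := 1) hy, hf2 y⟩
  have hna : ¬ IsMulCommutative T := fun hc =>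
    hne₀ (congrArg Subtype.val (hc.is_comm.comm (⟨a₀, ha₀⟩ : T) ⟨b₀, hb₀⟩))
  obtain ⟨F, iF, iFin, iC, k, Sz, hn2⟩ := CfsgLib.TransInvol.exists_suz_of_transitive S.2 hna htwo φ
    (fun x y hx hx2 hy hy2 => by
      obtain ⟨i, hi⟩ := hcyc x ((hE2 x).1 hx2) y ((hE2 y).1 hy2) (fun e => hx (Subtype.ext e))
        fun e => hy (Subtype.ext e)
      exact ⟨i, Subtype.ext (by rw [hφ, hi])⟩) hfour
  obtain ⟨ψ, hψs, hψk, hψq⟩ := Sz.exists_normal_form hn2
  have hcen : ∀ x : T, x ∈ center T ↔ (x : G) ∈ E := fun x => by rw [Sz.center_iff, hE2]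
  set a : T → F := fun x => (Multiplicative.toAdd (ψ x)).1 with ha
  set c : T → F := fun x => (Multiplicative.toAdd (ψ x)).2 with hc
  have haa : ∀ x y, a (x * y) = a x + a y := fun x y => by simp [ha]
  have hcc : ∀ x y, c (x * y) = c x + c y := fun x y => by simp [hc]
  have hb : ∀ x y, Sz.brMap x y = a x * c y + a y * c x := fun x y => by
    have h1 := Sz.sqMap_mul x y
    rw [hψq, hψq, hψq] at h1
    change (a (x * y)) ^ 2 + a (x * y) * c (x * y) + (Sz.g : F) * (c (x * y)) ^ 2 =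
      (a x ^ 2 + a x * c x + (Sz.g : F) * c x ^ 2) + (a y ^ 2 + a y * c y + (Sz.g : F) * c y ^ 2) + Sz.brMap x y at h1
    rw [haa, hcc] at h1
    have h2 : (2 : F) = 0 := CharTwo.two_eq_zero
    linear_combination -h1 + (a x * a y + (Sz.g : F) * c x * c y) * h2
  have hcomm : ∀ x y : T, Commute (x : G) (y : G) ↔ a x * c y + a y * c x = 0 := fun x y => by
    rw [← hb]
    constructor
    · intro hxy
      show Sz.coord ⁅x, y⁆ = 0
      rw [commutatorElement_eq_one_iff_mul_comm.2 (Subtype.ext hxy.eq), Sz.coord_one]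
    · intro h0
      exact congrArg Subtype.val (commutatorElement_eq_one_iff_mul_comm.1 (Sz.coord_eq_zero (Sz.comm_mem x y) h0))
  have hne : ∀ y : T, (y : G) ∉ E → a y ≠ 0 ∨ c y ≠ 0 := fun y hy => by
    by_contra! h0
    refine hy ((hcen y).1 ?_)
    rw [← hψk, MonoidHom.mem_ker]
    exact Multiplicative.toAdd.injective (Prod.ext h0.1 h0.2)
  have hcardF : Nat.card F = 4 := by rw [Sz.card, hn2]; norm_num
  have hker : Nat.card ψ.ker = 4 := by
    rw [hψk, ← hfour]
    exact Nat.card_congr (Equiv.subtypeEquivRight fun x => Sz.center_iff x)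
  refine ⟨S, E, hF, ?_, ?_, ?_, ?_, ?_⟩
  · rw [← ψ.ker.card_mul_index, index_ker, MonoidHom.range_eq_top.2 hψs, card_top,
      Nat.card_congr Multiplicative.toAdd, Nat.card_prod, hcardF, hker]
  · intro s hs
    exact (hcen (⟨s, hs⟩ * ⟨s, hs⟩)).1 (pow_two (⟨s, hs⟩ : T) ▸ Sz.sq_mem _)
  · intro s hs t ht
    exact (hcen ⁅(⟨s, hs⟩ : T), ⟨t, ht⟩⁆).1 (Sz.comm_mem _ _)
  · intro y hy hyE
    set v : T := ⟨y, hy⟩
    let ℓ : F →+ F × F := AddMonoidHom.mk' (fun t => (t * a v, t * c v)) fun s t => by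
      simp [add_mul]
    let L : Subgroup (Multiplicative (F × F)) := ℓ.toMultiplicative.range
    have hL : Nat.card L = 4 := by
      refine (Nat.card_congr (Equiv.ofInjective _ ?_)).symm.trans
        ((Nat.card_congr Multiplicative.toAdd).trans hcardF)
      intro s t e
      have e' := congrArg Multiplicative.toAdd e
      rcases hne v hyE with h0 | h0
      · exact Multiplicative.toAdd.injective (mul_right_cancel₀ h0 (congrArg Prod.fst e'))
      · exact Multiplicative.toAdd.injective (mul_right_cancel₀ h0 (congrArg Prod.snd e'))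
    have hmem : ∀ x : T, x ∈ L.comap ψ ↔ Commute (x : G) (v : G) := fun x => by
      rw [hcomm x v, mem_comap]
      rw [show a x * c v + a v * c x = a v * c x + a x * c v by ring, line_mul (hne v hyE)]
      constructor
      · rintro ⟨t, ht⟩
        exact ⟨Multiplicative.toAdd t, (congrArg (fun w => (Multiplicative.toAdd w).1) ht).symm,
          (congrArg (fun w => (Multiplicative.toAdd w).2) ht).symm⟩
      · rintro ⟨t, h1, h2⟩
        exact ⟨Multiplicative.ofAdd t, Multiplicative.toAdd.injective (Prod.ext h1.symm h2.symm)⟩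
    have hcard : Nat.card (L.comap ψ) = 16 := by
      have h1 := (L.comap ψ).card_mul_index
      have h2 := ψ.ker.card_mul_index
      have h3 := L.card_mul_index
      rw [index_comap_of_surjective _ hψs] at h1
      rw [index_ker, MonoidHom.range_eq_top.2 hψs, card_top, hker] at h2
      rw [hL] at h3
      rw [← h2, ← h3, ← mul_assoc] at h1
      exact Nat.eq_of_mul_eq_mul_right (Nat.pos_of_ne_zero index_ne_zero_of_finite) h1
    rw [← hcard]
    exact Nat.card_congr
      { toFun := fun x => ⟨⟨x, x.2.1⟩, (hmem _).2 (mem_centralizer_singleton_iff.1 x.2.2)⟩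
        invFun := fun x => ⟨((x : T) : G), (x : T).2, mem_centralizer_singleton_iff.2 ((hmem _).1 x.2).eq⟩
        left_inv := fun x => rfl
        right_inv := fun x => rfl }
  · intro y hy hyE p hp r hr hpy hry
    have hv := hne ⟨y, hy⟩ hyE
    rw [hcomm ⟨p, hp⟩ ⟨y, hy⟩] at hpy
    rw [hcomm ⟨r, hr⟩ ⟨y, hy⟩] at hry
    obtain ⟨s, hs1, hs2⟩ := (line_mul hv).1 (by rw [add_comm]; exact hpy)
    obtain ⟨t, ht1, ht2⟩ := (line_mul hv).1 (by rw [add_comm]; exact hry)
    rw [hcomm ⟨p, hp⟩ ⟨r, hr⟩, hs1, hs2, ht1, ht2]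
    have h2 : (2 : F) = 0 := CharTwo.two_eq_zero
    linear_combination s * t * a ⟨y, hy⟩ * c ⟨y, hy⟩ * h2

end Min

end CfsgLib.PiHom
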