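import Cfsg.Agent.Lib.PiHom.Rank
import Cfsg.Agent.Lib.Block.HomocyclicTwo
import Cfsg.Agent.Lib.GW.Final
import Cfsg.Agent.Lib.Classical.SL2Sylow
import Cfsg.Agent.Lib.Recog.SubThree.MaxClass

/-!
# The Sylow 2-subgroups of a minimal counterexample are not abelian
-/

set_option autoImplicit false
set_option linter.unusedSectionVars false
set_option linter.style.haveILetI false

open Subgroup Matrix

namespace CfsgLib.PiHom

universe u

variable {π : Set ℕ} {G : Type u} [Group G] [Finite G]

section PSL

variable {F : Type} [Field F] [Fintype F]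

local notation "SL" => Matrix.SpecialLinearGroup (Fin 2) F
local notation "PS" => Matrix.ProjectiveSpecialLinearGroup (Fin 2) F

theorem offdiag_of_central {A : SL} (hA : (A : PS) = 1) : A.1 0 1 = 0 ∧ A.1 1 0 = 0 := by
  rw [QuotientGroup.eq_one_iff, Matrix.SpecialLinearGroup.mem_center_iff] at hA
  obtain ⟨r, -, hr⟩ := hA
  rw [← hr]
  simp

theorem eq_one_of_neg_one (h : (-1 : SL) ∈ center SL) : ((-1 : SL) : PS) = 1 :=
  (QuotientGroup.eq_one_iff _).2 h

theorem neg_one_central : (-1 : SL) ∈ center SL := by
  rw [mem_center_iff]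
  intro g
  apply Subtype.ext
  simp

/-- An element of order three inverted by an involution. -/
theorem exists_real_three {u v : F} (huv : u ^ 2 + 3 * v ^ 2 = -4) (h2 : (2 : F) ≠ 0) :
    ∃ x t : PS, orderOf x = 3 ∧ orderOf t = 2 ∧ t * x * t⁻¹ = x⁻¹ := by
  set x0 := (u - v) / 2 with hx0
  have hq : x0 ^ 2 + x0 * v + v ^ 2 = -1 := by
    rw [hx0]; field_simp; linear_combination huv
  let A : SL := ⟨!![0, -1; 1, -1], by rw [Matrix.det_fin_two_of]; ring⟩
  let W : SL := ⟨!![x0, v; x0 + v, -x0], by rw [Matrix.det_fin_two_of]; linear_combination -hq⟩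
  have hA3 : A ^ 3 = 1 := by
    apply Subtype.ext
    rw [pow_succ, pow_two, Matrix.SpecialLinearGroup.coe_mul, Matrix.SpecialLinearGroup.coe_mul]
    simp [A, Matrix.mul_fin_two, Matrix.one_fin_two]
  have hW2 : W * W = -1 := by
    apply Subtype.ext
    rw [Matrix.SpecialLinearGroup.coe_mul, Matrix.SpecialLinearGroup.coe_neg, Matrix.SpecialLinearGroup.coe_one]
    simp only [W, Matrix.mul_fin_two]
    ext i j
    fin_cases i <;> fin_cases j <;> simp <;> first | ring1 | linear_combination hq
  have hWA : W * A = A⁻¹ * W := by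
    apply Subtype.ext
    rw [Matrix.SpecialLinearGroup.coe_mul, Matrix.SpecialLinearGroup.coe_mul, Matrix.SpecialLinearGroup.coe_inv]
    simp only [A, W, Matrix.adjugate_fin_two_of, Matrix.mul_fin_two]
    ext i j
    fin_cases i <;> fin_cases j <;> simp <;> ring
  refine ⟨(A : PS), (W : PS), ?_, ?_, ?_⟩
  · haveI := Fact.mk Nat.prime_three
    refine orderOf_eq_prime (by rw [← QuotientGroup.mk_pow, hA3]; rfl) fun e => ?_
    have := (offdiag_of_central e).2
    simp [A] at this
  · refine orderOf_eq_prime (by rw [← QuotientGroup.mk_pow, pow_two, hW2]; exact eq_one_of_neg_one neg_one_central)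
      fun e => ?_
    obtain ⟨h01, h10⟩ := offdiag_of_central e
    simp [W] at h01 h10
    rw [h01, add_zero] at h10
    rw [h01, h10] at hq
    exact one_ne_zero (α := F) (by linear_combination hq)
  · rw [← QuotientGroup.mk_mul, hWA, QuotientGroup.mk_mul, mul_inv_cancel_right, QuotientGroup.mk_inv]

end PSL

namespace Min

variable (h : Min π G)
include h

theorem oddCore_trivial : ∀ N : Subgroup G, N.Normal → Odd (Nat.card N) → N = ⊥ := fun N hN hodd => by
  haveI := h.simple
  refine (Normal.eq_bot_or_eq_top hN).resolve_right fun e => h.not_solvable ?_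
  rw [e, card_top] at hodd
  exact CfsgLib.FT.isSolvable_of_odd G hodd

theorem false_of_psl {F : Type} [Field F] [Fintype F] (hodd : Odd (Fintype.card F)) (h3 : 3 < Fintype.card F)
    (h8 : ¬ 8 ∣ Nat.card G) (h3π : 3 ∈ π) (f : G ≃* Matrix.ProjectiveSpecialLinearGroup (Fin 2) F) : False := by
  classical
  have h2 : (2 : F) ≠ 0 :=
    CfsgLib.Perm.Dickson.two_ne_zero_of_odd (by rwa [Nat.card_eq_fintype_card])
  have hreal : ∀ {u v : F}, u ^ 2 + 3 * v ^ 2 = -4 → False := by
    intro u v huv
    obtain ⟨x, t, hx, ht, hinv⟩ := exists_real_three huv h2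
    refine h.coNum_of_inverted (x := f.symm x) (t := f.symm t) ?_ ?_ ?_ 3 Nat.prime_three ?_ h3π
    · rw [MulEquiv.orderOf_eq, hx]; decide
    · rw [MulEquiv.orderOf_eq, ht]
    · rw [← map_inv, ← map_mul, ← map_mul, hinv, map_inv]
    · rw [MulEquiv.orderOf_eq, hx]
  by_cases hchar : (3 : F) = 0
  · haveI : Fact (Nat.Prime 3) := ⟨Nat.prime_three⟩
    haveI : CharP F 3 := (CharP.charP_iff_prime_eq_zero Nat.prime_three).2 (by exact_mod_cast hchar)
    by_cases h4 : Fintype.card F % 4 = 3
    · set q := Fintype.card F with hq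
      set r := (q - 1) / 2 with hr
      obtain ⟨g, hg⟩ := IsCyclic.exists_generator (α := Fˣ)
      have hgo : orderOf g = q - 1 := by
        rw [orderOf_eq_card_of_forall_mem_zpowers hg, Nat.card_eq_fintype_card, Fintype.card_units]
      set ζ := g ^ 2 with hζ
      have hζo : orderOf ζ = r := by
        rw [hζ, orderOf_pow' _ two_ne_zero, hgo, Nat.gcd_eq_right ⟨r, by omega⟩, hr]
      let D : Matrix.SpecialLinearGroup (Fin 2) F :=
        ⟨!![(ζ : F), 0; 0, ((ζ⁻¹ : Fˣ) : F)], by rw [Matrix.det_fin_two_of]; simp⟩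
      let W : Matrix.SpecialLinearGroup (Fin 2) F := ⟨!![0, 1; -1, 0], by rw [Matrix.det_fin_two_of]; ring⟩
      let U : F → Matrix.SpecialLinearGroup (Fin 2) F := fun a => ⟨!![1, a; 0, 1], by rw [Matrix.det_fin_two_of]; ring⟩
      have hUm : ∀ a b, U a * U b = U (a + b) := fun a b => Subtype.ext (by
        rw [Matrix.SpecialLinearGroup.coe_mul]
        simp [U, Matrix.mul_fin_two, add_comm])
      have hDU : ∀ a, D * U a = U ((ζ : F) * ζ * a) * D := fun a => Subtype.ext (by
        rw [Matrix.SpecialLinearGroup.coe_mul, Matrix.SpecialLinearGroup.coe_mul]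
        simp [U, D, Matrix.mul_fin_two]
        field_simp)
      let φ : Multiplicative F →* G := MonoidHom.mk'
        (fun a => f.symm (U (Multiplicative.toAdd a) : Matrix.ProjectiveSpecialLinearGroup (Fin 2) F))
        fun a b => by rw [← map_mul, ← QuotientGroup.mk_mul, hUm]; rfl
      have hW2 : W * W = -1 := by
        apply Subtype.ext
        rw [Matrix.SpecialLinearGroup.coe_mul, Matrix.SpecialLinearGroup.coe_neg, Matrix.SpecialLinearGroup.coe_one]
        simp [W, Matrix.mul_fin_two, Matrix.one_fin_two]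
      have hWD : W * D = D⁻¹ * W := by
        apply Subtype.ext
        rw [Matrix.SpecialLinearGroup.coe_mul, Matrix.SpecialLinearGroup.coe_mul, Matrix.SpecialLinearGroup.coe_inv]
        simp [W, D, Matrix.mul_fin_two, Matrix.adjugate_fin_two_of]
      have hWo : orderOf (W : Matrix.ProjectiveSpecialLinearGroup (Fin 2) F) = 2 := by
        refine orderOf_eq_prime (by
          rw [← QuotientGroup.mk_pow, pow_two, hW2]; exact eq_one_of_neg_one neg_one_central) fun e => ?_
        have := (offdiag_of_central e).1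
        simp [W] at this
      have hDr : D ^ r = 1 := by
        have hD : ∀ n : ℕ, (D ^ n).1 = !![((ζ ^ n : Fˣ) : F), 0; 0, (((ζ ^ n)⁻¹ : Fˣ) : F)] := by
          intro n
          induction n with
          | zero => simp [Matrix.one_fin_two]
          | succ n ih =>
            rw [pow_succ, Matrix.SpecialLinearGroup.coe_mul, ih]
            simp [D, Matrix.mul_fin_two, pow_succ, mul_comm]
        apply Subtype.ext
        rw [hD, ← hζo, pow_orderOf_eq_one]
        simp [Matrix.one_fin_two]
      set d := f.symm (D : Matrix.ProjectiveSpecialLinearGroup (Fin 2) F) with hd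
      have hdo : orderOf d ∣ r := orderOf_dvd_of_pow_eq_one (by
        rw [hd, ← map_pow, ← QuotientGroup.mk_pow, hDr, QuotientGroup.mk_one, map_one])
      have hro : Odd r := Nat.odd_iff.2 (by omega)
      have hdc : CoNum π (orderOf d) :=
        h.coNum_of_inverted (t := f.symm (W : Matrix.ProjectiveSpecialLinearGroup (Fin 2) F))
          (hro.of_dvd_nat hdo) (by rw [MulEquiv.orderOf_eq, hWo]) (by
            rw [hd, ← map_inv, ← map_mul, ← map_mul, ← QuotientGroup.mk_mul, hWD, QuotientGroup.mk_mul,
              mul_inv_cancel_right, QuotientGroup.mk_inv, map_inv])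
      have hUπ : PiNum π (Nat.card φ.range) := by
        obtain ⟨n, -, hn⟩ := FiniteField.card F 3
        refine (piNum_pow Nat.prime_three h3π n).of_dvd ?_
        rw [← hn, ← Nat.card_eq_fintype_card]
        exact (card_range_dvd φ).trans (by rw [Nat.card_congr Multiplicative.toAdd])
      have hconj : ∀ a : Multiplicative F, d * φ a * d⁻¹ =
          φ (Multiplicative.ofAdd ((ζ : F) * ζ * Multiplicative.toAdd a)) := fun a => by
        show f.symm _ * f.symm _ * (f.symm _)⁻¹ = f.symm _
        rw [← map_inv, ← map_mul, ← map_mul, ← QuotientGroup.mk_mul, hDU, QuotientGroup.mk_mul,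
          mul_inv_cancel_right]
        rfl
      have hdn : d ∈ normalizer (φ.range : Set G) := by
        refine mem_normalizer_iff_conj_image_eq.2 ?_
        have hle : φ.range.map (MulAut.conj d).toMonoidHom ≤ φ.range := by
          rintro _ ⟨_, ⟨a, rfl⟩, rfl⟩
          exact ⟨_, (hconj a).symm⟩
        exact congrArg SetLike.coe (eq_of_le_of_card_ge hle
          (le_of_eq (Nat.card_congr (φ.range.equivMapOfInjective _ (MulAut.conj d).injective).toEquiv)))
      have hc := mem_centralizer_iff.1 (h.hom _ hUπ d hdn hdc) _ ⟨Multiplicative.ofAdd 1, rfl⟩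
      have h1 := hconj (Multiplicative.ofAdd 1)
      rw [← hc, mul_inv_cancel_right] at h1
      have h1' : ((U 1 : Matrix.SpecialLinearGroup (Fin 2) F) : Matrix.ProjectiveSpecialLinearGroup (Fin 2) F) =
          U ((ζ : F) * ζ * 1) := f.symm.injective h1
      have h5 : ((U (-1 + (ζ : F) * ζ * 1) : Matrix.SpecialLinearGroup (Fin 2) F) :
          Matrix.ProjectiveSpecialLinearGroup (Fin 2) F) = 1 := by
        rw [← hUm, QuotientGroup.mk_mul, ← h1', ← QuotientGroup.mk_mul, hUm, neg_add_cancel]
        show ((U 0 : Matrix.SpecialLinearGroup (Fin 2) F) : Matrix.ProjectiveSpecialLinearGroup (Fin 2) F) = 1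
        have : U 0 = 1 := Subtype.ext (by simp [U, Matrix.one_fin_two])
        rw [this, QuotientGroup.mk_one]
      have h6 := (offdiag_of_central h5).1
      simp [U] at h6
      have hr1 : r ∣ 2 := by
        rw [← hζo]
        refine orderOf_dvd_of_pow_eq_one (Units.ext ?_)
        rw [Units.val_pow_eq_pow_val, Units.val_one, pow_two]
        linear_combination h6
      have := Nat.le_of_dvd two_pos hr1
      omega
    · have hsq : IsSquare (-1 : F) := FiniteField.isSquare_neg_one_iff.2 h4
      obtain ⟨i, hi⟩ := hsq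
      exact hreal (u := 2 * i) (v := 0) (by linear_combination -4 * hi)
  · obtain ⟨a, b, hab⟩ := FiniteField.exists_root_sum_quadratic
      (f := Polynomial.X ^ 2) (g := Polynomial.C 3 * Polynomial.X ^ 2 + Polynomial.C 4)
      (by rw [Polynomial.degree_X_pow]; rfl) (by
        rw [Polynomial.degree_add_C (by rw [Polynomial.degree_C_mul_X_pow 2 hchar]; decide),
          Polynomial.degree_C_mul_X_pow 2 hchar]; rfl)
      (Nat.odd_iff.1 hodd)
    simp at hab
    exact hreal (u := a) (v := b) (by linear_combination hab)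

theorem not_commutative_sylow (S : Sylow 2 G) {E : Subgroup G} (hF : Four S E) :
    ∃ a ∈ (S : Subgroup G), ∃ b ∈ (S : Subgroup G), a * b ≠ b * a := by
  by_contra! hab
  classical
  haveI := Fact.mk Nat.prime_two
  haveI := hF.klein
  haveI := h.simple
  have hexp : ∀ e ∈ E, e * e = 1 := fun e he => by
    have := Monoid.pow_exponent_eq_one (⟨e, he⟩ : E)
    rw [IsKleinFour.exponent_two, pow_two] at this
    exact congrArg Subtype.val this
  have h4 : Nat.card {x : (S : Subgroup G) // x ^ 2 = 1} = 4 := by
    rw [← (IsKleinFour.card_four : Nat.card E = 4)]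
    exact Nat.card_congr
      { toFun := fun x => ⟨((x.1 : (S : Subgroup G)) : G), hF.invol _ x.1.2 (by
          have := congrArg Subtype.val x.2
          simpa [pow_two] using this)⟩
        invFun := fun e => ⟨⟨e, hF.le e.2⟩, Subtype.ext (by simpa [pow_two] using hexp e e.2)⟩
        left_inv := fun x => rfl
        right_inv := fun e => rfl }
  have hES : Nat.card E ≤ Nat.card (S : Subgroup G) := Nat.le_of_dvd Nat.card_pos (card_dvd_of_le hF.le)
  rw [(IsKleinFour.card_four : Nat.card E = 4)] at hES
  by_cases hbig : 4 < Nat.card (S : Subgroup G)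
  · obtain ⟨hn, -, -⟩ := CfsgLib.Block.HomocyclicTwo.normal_of_fourTorsion G S hab h4 hbig h.oddCore_trivial
    rcases Normal.eq_bot_or_eq_top hn with e | e
    · rw [e, card_bot] at hbig; omega
    · exact h.ne_top_of_twoGroup S.2 e
  have hS4 : Nat.card (S : Subgroup G) = 4 := by omega
  have hSE : E = (S : Subgroup G) :=
    eq_of_le_of_card_ge hF.le (by rw [hS4, (IsKleinFour.card_four : Nat.card E = 4)])
  haveI hSK : IsKleinFour (S : Subgroup G) := hSE ▸ hF.klein
  have h8 : ¬ 8 ∣ Nat.card G := by
    intro hd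
    have h1 := S.not_dvd_index
    rw [← (S : Subgroup G).card_mul_index, hS4] at hd
    omega
  have h3π : 3 ∈ π := by
    by_contra h3
    haveI : Fact (Nat.Prime 3) := ⟨Nat.prime_three⟩
    set N := normalizer ((S : Subgroup G) : Set G) with hN
    set C := (centralizer ((S : Subgroup G) : Set G)).subgroupOf N with hC
    have hSC : ((S : Subgroup G)).subgroupOf N ≤ C := fun s hs => mem_subgroupOf.2
      (mem_centralizer_iff.2 fun t ht => hab t ht _ (mem_subgroupOf.1 hs))
    have h3d : ¬ 3 ∣ C.index := by
      obtain ⟨R⟩ : Nonempty (Sylow 3 N) := inferInstance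
      refine fun hd => R.not_dvd_index (hd.trans (index_dvd_of_le fun x hx => mem_subgroupOf.2 ?_))
      obtain ⟨k, hk⟩ := R.2 ⟨x, hx⟩
      exact h.hom (S : Subgroup G) (h.piNum_of_twoGroup S.2) x x.2
        ((coNum_pow Nat.prime_three h3 k).of_dvd (orderOf_dvd_of_pow_eq_one
          (congrArg Subtype.val (congrArg Subtype.val hk))))
    have h2d : ¬ 2 ∣ C.index := fun hd => by
      have hSN : (S : Subgroup G) ≤ N := le_normalizer
      exact (S.subtype hSN).not_dvd_index (by
        rw [Sylow.coe_subtype]; exact hd.trans (index_dvd_of_le hSC))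
    have hC6 : C.index ∣ 6 := by
      have h1 : C = (S : Subgroup G).normalizerMonoidHom.ker := (normalizerMonoidHom_ker _).symm
      rw [h1, index_ker]
      refine (card_subgroup_dvd_card _).trans ?_
      let res : MulAut (S : Subgroup G) →* Equiv.Perm {x : (S : Subgroup G) // x ≠ 1} :=
        { toFun := fun φ => φ.toEquiv.subtypeEquiv fun x => φ.map_ne_one_iff.symm
          map_one' := Equiv.ext fun x => rfl
          map_mul' := fun φ ψ => Equiv.ext fun x => rfl }
      have hres : Function.Injective res := fun φ ψ e => MulEquiv.ext fun x => by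
        by_cases hx : x = 1
        · rw [hx, map_one, map_one]
        · exact congrArg Subtype.val (Equiv.ext_iff.1 e ⟨x, hx⟩)
      refine (card_dvd_of_injective res hres).trans (dvd_of_eq ?_)
      have h3 : Nat.card {x : (S : Subgroup G) // x ≠ 1} = 3 := by
        haveI := Fintype.ofFinite (S : Subgroup G)
        rw [Nat.card_eq_fintype_card, Fintype.card_subtype_compl, Fintype.card_subtype_eq,
          ← Nat.card_eq_fintype_card, hS4]
      rw [Nat.card_perm, h3]
      rfl
    have hC1 : C = ⊤ := by
      rw [← index_eq_one]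
      have : C.index ≤ 6 := Nat.le_of_dvd (by norm_num) hC6
      interval_cases hh : C.index <;> simp_all
    obtain ⟨a, ha, ha1⟩ : ∃ a ∈ E, a ≠ 1 := by
      by_contra! hall
      have := (IsKleinFour.card_four : Nat.card E = 4)
      rw [Subgroup.eq_bot_iff_forall _ |>.2 hall, card_bot] at this
      omega
    obtain ⟨b, hb, hb1, hba⟩ : ∃ b ∈ E, b ≠ 1 ∧ b ≠ a := by
      by_contra! hall
      have hle : (E : Set G) ⊆ {1, a} := fun x hx => (em (x = 1)).imp_right fun h1 => hall x hx h1
      have := Set.ncard_le_ncard hle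
      rw [← Nat.card_coe_set_eq, show Nat.card (E : Set G) = 4 from IsKleinFour.card_four] at this
      have h2 : ({1, a} : Set G).ncard ≤ 2 := (Set.ncard_insert_le _ _).trans (by rw [Set.ncard_singleton])
      omega
    obtain ⟨n, hn, hab'⟩ := hF.trans a ha b hb ha1 hb1
    have : (⟨n, hn⟩ : N) ∈ C := hC1 ▸ mem_top _
    have hc := mem_centralizer_iff.1 (mem_subgroupOf.1 this) a (hF.le ha)
    exact hba (by rw [← hab', ← hc, mul_inv_cancel_right])
  have hd : CfsgLib.GW.DihTwo G := CfsgLib.GW.dihTwo_of_sylow S le_rfl (IsKleinFour.nonempty_mulEquiv).some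
  haveI : Group.IsPerfect G := by
    rw [Group.isPerfect_def]
    refine (Normal.eq_bot_or_eq_top inferInstance).resolve_left fun e => h.ncomm ⟨⟨fun a b => ?_⟩⟩
    have : a * b * a⁻¹ * b⁻¹ ∈ commutator G := by
      rw [_root_.commutator_def, ← commutatorElement_def]
      exact commutator_mem_commutator (mem_top a) (mem_top b)
    rw [e, mem_bot, mul_inv_eq_one, mul_inv_eq_iff_eq_mul] at this
    exact this
  have hO : Cfsg.oddCore G = ⊥ := h.oddCore_trivial _ inferInstance (CfsgLib.GW.odd_oddCore G)
  have e0 : G ≃* G ⧸ Cfsg.oddCore G :=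
    QuotientGroup.quotientBot.symm.trans (QuotientGroup.quotientMulEquivOfEq hO.symm)
  rcases CfsgLib.GW.gw_perfect G hd with ⟨F, i, j, hodd, h3, ⟨f⟩⟩ | ⟨⟨f⟩⟩
  · exact h.false_of_psl hodd h3 h8 h3π (e0.trans f)
  · refine h8 ?_
    rw [Nat.card_congr (e0.trans f).toEquiv, nat_card_alternatingGroup, Nat.card_fin]
    norm_num [Nat.factorial]

end Min

end CfsgLib.PiHom
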