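import Cfsg.Agent.Lib.PiHom.Section

/-!
# Fusion of the elements of order four: each class meets `S` in the twelve elements of one line
-/

set_option autoImplicit false
set_option linter.unusedSectionVars false
set_option linter.style.haveILetI false

open Subgroup

namespace CfsgLib.PiHom

universe u

variable {π : Set ℕ} {G : Type u} [Group G] [Finite G] {S : Sylow 2 G} {E : Subgroup G}

theorem sq_conj (n y : G) : n * y * n⁻¹ * (n * y * n⁻¹) = n * (y * y) * n⁻¹ := by group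

namespace Frame

variable (hF : Frame S E)
include hF

theorem commute_mul_four {x y e : G} (hy : y ∈ (S : Subgroup G)) (hx : x ∈ (S : Subgroup G)) (he : e ∈ E)
    (hxy : Commute x y) : Commute x (y * e) :=
  hxy.mul_right (hF.central e he x hx).symm

theorem not_mem_four_of_conj {y g : G} (hy : y ∈ (S : Subgroup G)) (hyE : y ∉ E) : g * y * g⁻¹ ∉ E := fun e =>
  hF.sq_ne_one hy hyE (conj_eq_one_iff.1 (by rw [← sq_conj]; exact hF.mul_self e))

/-- The twelve elements commuting with an element outside `E`, outside `E`. -/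
theorem card_line {y : G} (hy : y ∈ (S : Subgroup G)) (hyE : y ∉ E) :
    Nat.card {z : G // z ∈ (S : Subgroup G) ∧ z ∉ E ∧ Commute z y} = 12 := by
  classical
  haveI := hF.klein
  haveI := Fintype.ofFinite G
  set A := (S : Subgroup G) ⊓ centralizer ({y} : Set G) with hA
  have h16 : Nat.card A = 16 := hF.line y hy hyE
  have hEA : E ≤ A := fun e he => ⟨hF.le he, mem_centralizer_singleton_iff.2 (hF.central e he y hy).eq⟩
  have hset : Finset.univ.filter (fun z : G => z ∈ (S : Subgroup G) ∧ z ∉ E ∧ Commute z y) =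
      Finset.univ.filter (· ∈ A) \ Finset.univ.filter (· ∈ E) := by
    ext z
    simp only [Finset.mem_filter, Finset.mem_sdiff, Finset.mem_univ, true_and, hA, Subgroup.mem_inf,
      mem_centralizer_singleton_iff]
    exact ⟨fun h => ⟨⟨h.1, h.2.2⟩, h.2.1⟩, fun h => ⟨h.1.1, h.2, h.1.2⟩⟩
  rw [Nat.card_eq_fintype_card, Fintype.card_subtype, hset, Finset.card_sdiff_of_subset (fun z hz => by
    simp only [Finset.mem_filter, Finset.mem_univ, true_and] at hz ⊢
    exact hEA hz), ← Fintype.card_subtype, ← Fintype.card_subtype, ← Nat.card_eq_fintype_card,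
    ← Nat.card_eq_fintype_card, h16, (IsKleinFour.card_four : Nat.card E = 4)]

/-- The conjugates in `S` of an element outside `E` fill its coset of `E`. -/
theorem exists_conj_mul {y e : G} (hy : y ∈ (S : Subgroup G)) (hyE : y ∉ E) (he : e ∈ E) :
    ∃ s ∈ (S : Subgroup G), s * y * s⁻¹ = y * e := by
  haveI := hF.klein
  let f : (S : Subgroup G) →* E := MonoidHom.mk'
    (fun s => ⟨(s : G) * y * (s : G)⁻¹ * y⁻¹, hF.comm s s.2 y hy⟩) fun a b => Subtype.ext (by
      show (a : G) * b * y * ((a : G) * b)⁻¹ * y⁻¹ =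
        (a : G) * y * (a : G)⁻¹ * y⁻¹ * ((b : G) * y * (b : G)⁻¹ * y⁻¹)
      have hc := hF.central _ (hF.comm b b.2 y hy)
      rw [← (hc _ (mul_mem (mul_mem (mul_mem a.2 hy) (inv_mem a.2)) (inv_mem hy))).eq]
      calc (a : G) * b * y * ((a : G) * b)⁻¹ * y⁻¹
          = (a : G) * ((b : G) * y * (b : G)⁻¹ * y⁻¹) * (y * (a : G)⁻¹ * y⁻¹) := by group
        _ = (b : G) * y * (b : G)⁻¹ * y⁻¹ * a * (y * (a : G)⁻¹ * y⁻¹) := by rw [(hc a a.2).eq]
        _ = _ := by group)
  have hker : f.ker.map (S : Subgroup G).subtype = (S : Subgroup G) ⊓ centralizer ({y} : Set G) := by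
    ext z
    simp only [Subgroup.mem_map, MonoidHom.mem_ker, Subgroup.mem_inf, mem_centralizer_singleton_iff]
    constructor
    · rintro ⟨s, hs, rfl⟩
      exact ⟨s.2, mul_inv_eq_iff_eq_mul.1 (mul_inv_eq_one.1 (congrArg Subtype.val hs))⟩
    · rintro ⟨hz, hzy⟩
      exact ⟨⟨z, hz⟩, Subtype.ext (show z * y * z⁻¹ * y⁻¹ = 1 by rw [hzy]; group), rfl⟩
  have h16 : Nat.card f.ker = 16 := by
    rw [← card_map_of_injective (K := f.ker) (S : Subgroup G).subtype_injective, hker]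
    exact hF.line y hy hyE
  have hsur : f.range = ⊤ := by
    refine eq_top_of_card_eq _ ?_
    have h1 := f.ker.card_mul_index
    rw [index_ker, h16, hF.card] at h1
    rw [(IsKleinFour.card_four : Nat.card E = 4)]
    omega
  obtain ⟨s, hs⟩ : (⟨e, he⟩ : E) ∈ f.range := hsur ▸ mem_top _
  refine ⟨s, s.2, ?_⟩
  have hs' : (s : G) * y * (s : G)⁻¹ * y⁻¹ = e := congrArg Subtype.val hs
  rw [mul_inv_eq_iff_eq_mul.1 hs', (hF.central e he y hy).eq]

end Frame

namespace Min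

variable (h : Min π G) (hF : Frame S E)
include h hF

/-- The cycle maps every element outside `E` into its line. -/
theorem cycle_commute {n : G} (hn : n ∈ normalizer ((S : Subgroup G) : Set G)) (hodd : Odd (orderOf n))
    (hmove : ∀ a ∈ E, a ≠ 1 → n * a * n⁻¹ ≠ a)
    (hsq : ∀ a ∈ E, n ^ 2 * a * (n ^ 2)⁻¹ = a * (n * a * n⁻¹)) (h3 : ∀ a ∈ E, Commute (n ^ 3) a)
    {v : G} (hv : v ∈ (S : Subgroup G)) : Commute v (n * v * n⁻¹) := by
  have hconj : ∀ {x : G}, x ∈ (S : Subgroup G) → n * x * n⁻¹ ∈ (S : Subgroup G) := fun hx =>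
    (mem_normalizer_iff.1 hn _).1 hx
  have h3S : Commute (n ^ 3) v :=
    h.centralizes_sylow hF _ (pow_mem hn 3) (hodd.of_dvd_nat (orderOf_pow_dvd 3)) h3 v hv
  set w := n * v * n⁻¹ with hw
  set x := n * w * n⁻¹ with hx
  have hwS : w ∈ (S : Subgroup G) := hconj hv
  have hxS : x ∈ (S : Subgroup G) := hconj hwS
  have hnx : n * x * n⁻¹ = v := by
    rw [hx, hw, show n * (n * (n * v * n⁻¹) * n⁻¹) * n⁻¹ = n ^ 3 * v * (n ^ 3)⁻¹ by rw [pow_succ', pow_two]; group,
      h3S.eq, mul_inv_cancel_right]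
  set z := v * w * x with hz
  have hzS : z ∈ (S : Subgroup G) := mul_mem (mul_mem hv hwS) hxS
  have hnz : n * z * n⁻¹ = w * x * v := by
    rw [hz, show n * (v * w * x) * n⁻¹ = n * v * n⁻¹ * (n * w * n⁻¹) * (n * x * n⁻¹) by group, hnx]
  have he : z⁻¹ * (n * z * n⁻¹) ∈ E := by
    rw [hnz, hz, show (v * w * x)⁻¹ * (w * x * v) = (w * x)⁻¹ * v⁻¹ * (w * x) * v by group]
    have := hF.comm (w * x)⁻¹ (inv_mem (mul_mem hwS hxS)) v⁻¹ (inv_mem hv)
    rwa [inv_inv, inv_inv] at this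
  have hzE : z ∈ E := by
    by_contra hzE
    refine hmove (z * z) (hF.sq z hzS) (hF.sq_ne_one hzS hzE) ?_
    rw [← sq_conj, show n * z * n⁻¹ = z * (z⁻¹ * (n * z * n⁻¹)) by group, hF.sq_mul hzS he]
  have hxsq : x * x = (v * w) * (v * w) := by
    have hx' : x = (v * w)⁻¹ * z := by rw [hz]; group
    rw [hx', hF.sq_mul (inv_mem (mul_mem hv hwS)) hzE, show (v * w)⁻¹ * (v * w)⁻¹ = ((v * w) * (v * w))⁻¹ by group,
      inv_eq_of_mul_eq_one_right (hF.mul_self (hF.sq _ (mul_mem hv hwS)))]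
  have hxsq' : x * x = v * v * (w * w) := by
    rw [hx, sq_conj, hw, sq_conj, show n * (n * (v * v) * n⁻¹) * n⁻¹ = n ^ 2 * (v * v) * (n ^ 2)⁻¹ by
      rw [pow_two]; group, hsq _ (hF.sq v hv)]
  have e : w * v = v * w := by
    have := hxsq.symm.trans hxsq'
    simp only [mul_assoc, mul_right_inj] at this
    rw [← mul_assoc w v w, ← mul_assoc v w w] at this
    exact mul_right_cancel this
  exact e.symm

/-- Two elements outside `E` are conjugate iff they commute. -/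
theorem isConj_iff_commute {y z : G} (hy : y ∈ (S : Subgroup G)) (hyE : y ∉ E) (hz : z ∈ (S : Subgroup G))
    (hzE : z ∉ E) : IsConj y z ↔ Commute z y := by
  obtain ⟨n, hn, hodd, hmove, hsq, h3⟩ := hF.exists_cycle
  have hcyc : ∀ {v : G}, v ∈ (S : Subgroup G) → Commute v (n * v * n⁻¹) := fun hv =>
    h.cycle_commute hF hn hodd hmove hsq h3 hv
  have hnS : ∀ {v : G}, v ∈ (S : Subgroup G) → n * v * n⁻¹ ∈ (S : Subgroup G) := fun hv =>
    (mem_normalizer_iff.1 hn _).1 hv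
  have hy1 : n * y * n⁻¹ ∈ (S : Subgroup G) := hnS hy
  have hy2 : n * (n * y * n⁻¹) * n⁻¹ ∈ (S : Subgroup G) := hnS hy1
  have hy2c : Commute y (n * (n * y * n⁻¹) * n⁻¹) :=
    hF.abel _ hy1 (hF.not_mem_four_of_conj hy hyE) y hy _ hy2 (hcyc hy) (hcyc hy1).symm
  set a := y * y with ha
  have haE : a ∈ E := hF.sq y hy
  have ha1 : a ≠ 1 := hF.sq_ne_one hy hyE
  -- a representative of the class with the same square as `z`
  obtain ⟨v, hv, hvy, hvc, hvsq⟩ : ∃ v ∈ (S : Subgroup G), IsConj y v ∧ Commute v y ∧ v * v = z * z := by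
    rcases hF.eq_or_eq_or_eq hn hmove haE ha1 (hF.sq z hz) (hF.sq_ne_one hz hzE) with e | e | e
    · exact ⟨y, hy, IsConj.refl y, Commute.refl y, e.symm⟩
    · exact ⟨_, hy1, isConj_iff.2 ⟨n, rfl⟩, (hcyc hy).symm, by rw [sq_conj, ← ha]; exact e.symm⟩
    · refine ⟨_, hy2, isConj_iff.2 ⟨n * n, by group⟩, hy2c.symm, ?_⟩
      rw [sq_conj, sq_conj, ← ha, e, ← hsq a haE, pow_two]
      group
  have hvE : v ∉ E := by
    obtain ⟨g, rfl⟩ := isConj_iff.1 hvy
    exact hF.not_mem_four_of_conj hy hyE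
  constructor
  · intro hyz
    obtain ⟨g, hg⟩ := isConj_iff.1 (hvy.symm.trans hyz)
    have hgv : Commute g (v * v) := mul_inv_eq_iff_eq_mul.1 (by rw [← sq_conj, hg, hvsq])
    obtain ⟨s, hs, rfl⟩ := h.conj_in_sylow hF (hF.sq v hv) (hF.sq_ne_one hv hvE) hgv hv hz hg
    have he := hF.comm s hs v hv
    have e : s * v * s⁻¹ = v * (s * v * s⁻¹ * v⁻¹) := by
      rw [← (hF.central _ he v hv).eq, inv_mul_cancel_right]
    rw [e]
    exact hvc.mul_left (hF.central _ he y hy)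
  · intro hzy
    have hvz : Commute v z := hF.abel y hy hyE v hv z hz hvc hzy
    obtain ⟨s, hs, hsv⟩ := hF.exists_conj_mul hv hvE (hF.mem_of_sq_eq hv hz hvz hvsq)
    rw [mul_inv_cancel_left] at hsv
    exact hvy.trans (isConj_iff.2 ⟨s, hsv⟩)

/-- Five elements representing the lines. -/
theorem exists_lines : ∃ y : Fin 5 → G, (∀ j, y j ∈ (S : Subgroup G) ∧ y j ∉ E) ∧
    (∀ j k, Commute (y j) (y k) → j = k) ∧
    ∀ z ∈ (S : Subgroup G), z ∉ E → ∃ k, Commute z (y k) := by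
  classical
  obtain ⟨n, hn, hodd, hmove, hsq, h3⟩ := hF.exists_cycle
  have hcyc : ∀ {v : G}, v ∈ (S : Subgroup G) → Commute v (n * v * n⁻¹) := fun hv =>
    h.cycle_commute hF hn hodd hmove hsq h3 hv
  obtain ⟨a, ha, ha1⟩ := hF.exists_ne_one
  haveI := Fintype.ofFinite {q : Frame.Cosets S E // hF.cosetSq q = a}
  let e := (Fintype.equivFinOfCardEq (α := {q : Frame.Cosets S E // hF.cosetSq q = a}) (n := 5)
    (by rw [← Nat.card_eq_fintype_card]; exact hF.card_fibre ha ha1)).symm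
  choose r hr using fun j => QuotientGroup.mk_surjective (e j).1
  have hrsq : ∀ j, (r j : G) * r j = a := fun j => by
    rw [← hF.cosetSq_mk, hr]; exact (e j).2
  have hrE : ∀ j, (r j : G) ∉ E := fun j hj => ha1 (by rw [← hrsq j]; exact hF.mul_self hj)
  refine ⟨fun j => r j, fun j => ⟨(r j).2, hrE j⟩, fun j k hjk => ?_, fun z hz hzE => ?_⟩
  · refine e.injective (Subtype.ext ?_)
    rw [← hr, ← hr]
    exact hF.cosets_eq.2 (hF.mem_of_sq_eq (r j).2 (r k).2 hjk ((hrsq j).trans (hrsq k).symm))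
  · obtain ⟨v, hv, hvz, hvsq⟩ : ∃ v ∈ (S : Subgroup G), Commute v z ∧ v * v = a := by
      have hz1 : n * z * n⁻¹ ∈ (S : Subgroup G) := (mem_normalizer_iff.1 hn _).1 hz
      rcases hF.eq_or_eq_or_eq hn hmove (hF.sq z hz) (hF.sq_ne_one hz hzE) ha ha1 with h0 | h0 | h0
      · exact ⟨z, hz, Commute.refl z, h0.symm⟩
      · exact ⟨_, hz1, (hcyc hz).symm, by rw [sq_conj, h0]⟩
      · exact ⟨z * (n * z * n⁻¹), mul_mem hz hz1, (Commute.refl z).mul_left (hcyc hz).symm, by
          rw [Commute.mul_mul_mul_comm (hcyc hz).symm, sq_conj, h0]⟩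
    obtain ⟨k, hk⟩ := e.surjective
      ⟨((⟨v, hv⟩ : (S : Subgroup G)) : Frame.Cosets S E), by rw [hF.cosetSq_mk]; exact hvsq⟩
    have hq : ((r k : Frame.Cosets S E)) = ((⟨v, hv⟩ : (S : Subgroup G)) : Frame.Cosets S E) := by rw [hr, hk]
    have he : (r k : G)⁻¹ * v ∈ E := hF.cosets_eq.1 hq
    refine ⟨k, ?_⟩
    show Commute z (r k : G)
    have hkv : (r k : G) = v * ((r k : G)⁻¹ * v)⁻¹ := by group
    rw [hkv]
    exact hF.commute_mul_four hv hz (inv_mem he) hvz.symm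

end Min

end CfsgLib.PiHom
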