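import Cfsg.Agent.Lib.PiHom.Basic
import Cfsg.Agent.Lib.Invol.Basic

/-!
# Proper subgroups of a minimal counterexample
-/

set_option autoImplicit false
set_option linter.unusedSectionVars false
set_option linter.style.haveILetI false

open Subgroup

namespace CfsgLib.PiHom

universe u

variable {π : Set ℕ} {G : Type u} [Group G] [Finite G]

/-- A minimal counterexample. -/
structure Min (π : Set ℕ) (G : Type u) [Group G] [Finite G] : Prop where
  two : 2 ∈ π
  simple : IsSimpleGroup G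
  ncomm : ¬ IsMulCommutative G
  cl : TwoCl π G
  hom : Hom π G
  proper : ∀ U : Subgroup G, U ≠ ⊤ → Closed π U

/-- The subgroup generated by the `π'`-elements of `U`. -/
def pk (π : Set ℕ) (U : Subgroup G) : Subgroup G :=
  closure {x | x ∈ U ∧ CoNum π (orderOf x)}

theorem pk_le (π : Set ℕ) (U : Subgroup G) : pk π U ≤ U := (closure_le _).2 fun _ hx => hx.1

theorem coNum_conj {g x : G} (hx : CoNum π (orderOf x)) : CoNum π (orderOf (g * x * g⁻¹)) := by
  rwa [show g * x * g⁻¹ = MulAut.conj g x from rfl, MulEquiv.orderOf_eq]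

theorem mem_pk_of (U : Subgroup G) {x : G} (hx : x ∈ U) (ho : CoNum π (orderOf x)) : x ∈ pk π U :=
  subset_closure ⟨hx, ho⟩

theorem conj_mem_pk {U : Subgroup G} {g : G} (hg : ∀ y ∈ U, g * y * g⁻¹ ∈ U) {x : G} (hx : x ∈ pk π U) :
    g * x * g⁻¹ ∈ pk π U := by
  have hle : pk π U ≤ (pk π U).comap (MulAut.conj g).toMonoidHom :=
    (closure_le _).2 fun y hy => mem_pk_of U (hg y hy.1) (coNum_conj hy.2)
  exact hle hx

theorem map_pk_le (g : G) (U : Subgroup G) :
    (pk π U).map (MulAut.conj g).toMonoidHom ≤ pk π (U.map (MulAut.conj g).toMonoidHom) := by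
  rw [map_le_iff_le_comap, pk, closure_le]
  exact fun y hy => mem_pk_of _ ⟨y, hy.1, rfl⟩ (coNum_conj hy.2)

namespace Min

variable (h : Min π G)
include h

theorem ne_top_of_normalizer {P : Subgroup G} (hP : P ≠ ⊥) (hP' : P ≠ ⊤) :
    normalizer (P : Set G) ≠ ⊤ := fun e => by
  haveI := normalizer_eq_top_iff.1 e
  haveI := h.simple
  exact (Normal.eq_bot_or_eq_top (H := P) inferInstance).elim hP hP'

theorem not_solvable : ¬ Group.IsSolvable G := fun hs =>
  haveI := h.simple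
  haveI := hs
  h.ncomm ⟨⟨fun a b => IsSimpleGroup.comm_iff_isSolvable.2 hs a b⟩⟩

theorem ne_top_of_twoGroup {P : Subgroup G} (hP : IsPGroup 2 P) : P ≠ ⊤ := fun e => by
  subst e
  haveI := Fact.mk Nat.prime_two
  haveI : Group.IsNilpotent (⊤ : Subgroup G) := hP.isNilpotent
  exact h.not_solvable (Group.isSolvable_of_surjective (f := (topEquiv (G := G)).toMonoidHom)
    (topEquiv (G := G)).surjective)

theorem normalizer_ne_top {P : Subgroup G} (hP : IsPGroup 2 P) (hne : P ≠ ⊥) :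
    normalizer (P : Set G) ≠ ⊤ :=
  h.ne_top_of_normalizer hne (h.ne_top_of_twoGroup hP)

theorem centralizer_ne_top {t : G} (ht : t ≠ 1) : centralizer ({t} : Set G) ≠ ⊤ := fun e => by
  haveI := h.simple
  have hmem : t ∈ center G := mem_center_iff.2 fun g => mem_centralizer_singleton_iff.1 (e ▸ mem_top g)
  rcases Normal.eq_bot_or_eq_top (H := center G) inferInstance with e' | e'
  · rw [e', mem_bot] at hmem; exact ht hmem
  · exact h.ncomm ⟨⟨fun a b => mem_center_iff.1 (e' ▸ mem_top b) a⟩⟩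

theorem mem_pk {U : Subgroup G} (hU : U ≠ ⊤) {x : G} :
    x ∈ pk π U ↔ x ∈ U ∧ CoNum π (orderOf x) := by
  refine ⟨fun hx => ?_, fun hx => mem_pk_of U hx.1 hx.2⟩
  obtain ⟨K, hK⟩ := h.proper U hU
  have hle : pk π U ≤ K.map U.subtype :=
    (closure_le _).2 fun y hy => ⟨⟨y, hy.1⟩, (hK _).2 (by rw [orderOf_mk]; exact hy.2), rfl⟩
  obtain ⟨y, hy, rfl⟩ := hle hx
  exact ⟨y.2, by rw [coe_subtype, orderOf_coe]; exact (hK y).1 hy⟩

theorem coNum_pk {U : Subgroup G} (hU : U ≠ ⊤) : CoNum π (Nat.card (pk π U)) :=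
  coNum_card_iff.2 fun _ hx => ((h.mem_pk hU).1 hx).2

theorem odd_pk {U : Subgroup G} (hU : U ≠ ⊤) : Odd (Nat.card (pk π U)) := odd_of_coNum h.two (h.coNum_pk hU)

theorem piNum_of_twoGroup {P : Subgroup G} (hP : IsPGroup 2 P) : PiNum π (Nat.card P) := by
  obtain ⟨n, hn⟩ := IsPGroup.iff_card.1 hP
  exact hn ▸ piNum_pow Nat.prime_two h.two n

/-- A `π'`-element normalizing a 2-group centralizes it. -/
theorem pk_normalizer_le {P : Subgroup G} (hP : IsPGroup 2 P) :
    pk π (normalizer (P : Set G)) ≤ centralizer (P : Set G) :=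
  (closure_le _).2 fun _ hx => h.hom P (h.piNum_of_twoGroup hP) _ hx.1 hx.2

/-- No involution inverts a nontrivial element of odd `π`-order. -/
theorem eq_one_of_inverted {x t : G} (hodd : Odd (orderOf x)) (hx : PiNum π (orderOf x))
    (ht : orderOf t = 2) (hinv : t * x * t⁻¹ = x⁻¹) : x = 1 := by
  haveI := Fact.mk Nat.prime_two
  set X := zpowers x
  have hn : zpowers t ≤ normalizer (X : Set G) := by
    rw [zpowers_le, mem_normalizer_iff_conj_image_eq]
    have : X.map (MulAut.conj t).toMonoidHom = X := by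
      rw [MonoidHom.map_zpowers]
      show zpowers (t * x * t⁻¹) = _
      rw [hinv, zpowers_inv]
    exact congrArg SetLike.coe this
  set H := X ⊔ zpowers t with hH
  have hπ : PiNum π (Nat.card H) := by
    intro p hp hd
    haveI : Fact p.Prime := ⟨hp⟩
    obtain ⟨⟨y, hy⟩, hy'⟩ := exists_prime_orderOf_dvd_card' p hd
    rw [orderOf_mk] at hy'
    rw [hH, ← SetLike.mem_coe, coe_mul_of_right_le_normalizer_left _ _ hn] at hy
    obtain ⟨a, ha, b, hb, rfl⟩ := Set.mem_mul.1 hy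
    by_contra hp'
    have hb2 : b * b = 1 := by
      obtain ⟨i, rfl⟩ := mem_zpowers_iff.1 hb
      rw [← (Commute.refl t).mul_zpow, CfsgLib.Invol.invol_mul_self ht, one_zpow]
    have hsq : a * b * (a * b) ∈ X := by
      rw [show a * b * (a * b) = a * (b * a * b⁻¹) * (b * b) by group, hb2, mul_one]
      exact mul_mem ha ((mem_normalizer_iff.1 (hn hb) a).1 ha)
    have h1 : orderOf (a * b * (a * b)) = 1 := by
      refine Nat.eq_one_of_dvd_coprimes (coprime_of hx (pow_one p ▸ coNum_pow hp hp' 1)) ?_ ?_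
      · rw [← orderOf_mk _ hsq, ← Nat.card_zpowers x]; exact orderOf_dvd_natCard _
      · rw [← hy', ← pow_two]; exact orderOf_pow_dvd 2
    rw [orderOf_eq_one_iff, ← pow_two] at h1
    have h2 := orderOf_dvd_of_pow_eq_one h1
    rw [hy', Nat.prime_dvd_prime_iff_eq hp Nat.prime_two] at h2
    exact hp' (h2 ▸ h.two)
  obtain ⟨P⟩ : Nonempty (Sylow 2 H) := inferInstance
  haveI := h.cl H hπ P
  have htH : t ∈ H := mem_sup_right (mem_zpowers t)
  have hxH : x ∈ H := mem_sup_left (mem_zpowers x)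
  have htP : (⟨t, htH⟩ : H) ∈ (P : Subgroup H) := by
    obtain ⟨Q, hQ⟩ := (IsPGroup.of_card (n := 1) (by
      rw [Nat.card_zpowers, orderOf_mk, ht, pow_one]) : IsPGroup 2 (zpowers (⟨t, htH⟩ : H))).exists_le_sylow
    haveI := Sylow.unique_of_normal P inferInstance
    exact Subsingleton.elim Q P ▸ hQ (mem_zpowers _)
  have hm : (⟨x, hxH⟩ : H) * ⟨t, htH⟩ * (⟨x, hxH⟩ : H)⁻¹ * (⟨t, htH⟩ : H)⁻¹ ∈ (P : Subgroup H) :=
    mul_mem ((inferInstance : (P : Subgroup H).Normal).conj_mem _ htP _) (inv_mem htP)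
  obtain ⟨k, hk⟩ := P.2 ⟨_, hm⟩
  have hk' : (x * x) ^ 2 ^ k = 1 := by
    have h1 := congrArg Subtype.val (congrArg Subtype.val hk)
    simp only [SubmonoidClass.coe_pow, Subgroup.coe_mul, InvMemClass.coe_inv, OneMemClass.coe_one] at h1
    rw [show x * t * x⁻¹ * t⁻¹ = x * (t * x * t⁻¹)⁻¹ by group, hinv, inv_inv] at h1
    exact h1
  rw [← pow_two, ← pow_mul] at hk'
  refine orderOf_eq_one_iff.1 (Nat.eq_one_of_dvd_coprimes ?_ dvd_rfl (orderOf_dvd_of_pow_eq_one hk'))
  exact Nat.Coprime.mul_right (Nat.coprime_two_right.2 hodd) (Nat.Coprime.pow_right _ (Nat.coprime_two_right.2 hodd))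

/-- An odd element inverted by an involution is a `π'`-element. -/
theorem coNum_of_inverted {x t : G} (hodd : Odd (orderOf x))
    (ht : orderOf t = 2) (hinv : t * x * t⁻¹ = x⁻¹) : CoNum π (orderOf x) := by
  intro p hp hd hπ
  have hpo : Odd p := hodd.of_dvd_nat hd
  have h0 : orderOf x ≠ 0 := (orderOf_pos x).ne'
  obtain ⟨m, hm⟩ := hd
  have hord : orderOf (x ^ m) = p := by
    have hm0 : m ≠ 0 := fun e => h0 (by rw [hm, e, mul_zero])
    rw [orderOf_pow' _ hm0, hm, Nat.gcd_mul_left_left, Nat.mul_div_cancel _ (Nat.pos_of_ne_zero hm0)]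
  have := h.eq_one_of_inverted (x := x ^ m) (hord ▸ hpo) (hord ▸ (pow_one p ▸ piNum_pow hp hπ 1)) ht (by
    rw [show t * x ^ m * t⁻¹ = (t * x * t⁻¹) ^ m from map_pow (MulAut.conj t).toMonoidHom x m, hinv, inv_pow])
  rw [this, orderOf_one] at hord
  exact hp.ne_one hord.symm

/-- A proper subgroup is its `π'`-part times a 2-closed `π`-subgroup. -/
theorem struct {X : Subgroup G} (hX : X ≠ ⊤) {T : Subgroup G} (hTX : T ≤ X) (hT : IsPGroup 2 T)
    (hmax : ∀ Q : Subgroup G, IsPGroup 2 Q → T ≤ Q → Q ≤ X → Q = T) :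
    ∃ L : Subgroup G, L ≤ X ∧ PiNum π (Nat.card L) ∧ T ≤ L ∧ L ≤ normalizer (T : Set G) ∧
      ∀ x ∈ X, ∃ k ∈ pk π X, ∃ l ∈ L, k * l = x := by
  haveI := Fact.mk Nat.prime_two
  set K := (pk π X).subgroupOf X with hK
  haveI : K.Normal := ⟨fun y hy g => by
    rw [hK, mem_subgroupOf] at hy ⊢
    exact conj_mem_pk (fun z hz => X.mul_mem (X.mul_mem g.2 hz) (X.inv_mem g.2)) hy⟩
  have hKc : CoNum π (Nat.card K) := by
    rw [Nat.card_congr (subgroupOfEquivOfLe (pk_le π X)).toEquiv]; exact h.coNum_pk hX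
  have hKi : PiNum π K.index := by
    intro p hp hd
    by_contra hp'
    haveI := Fact.mk hp
    obtain ⟨P⟩ : Nonempty (Sylow p X) := inferInstance
    refine P.not_dvd_index (hd.trans (index_dvd_of_le fun y hy => ?_))
    obtain ⟨k, hk⟩ := P.2 ⟨y, hy⟩
    refine mem_subgroupOf.2 (mem_pk_of X y.2 ((coNum_pow hp hp' k).of_dvd (orderOf_dvd_of_pow_eq_one ?_)))
    exact congrArg Subtype.val (congrArg Subtype.val hk)
  obtain ⟨L, hL⟩ := exists_right_complement'_of_coprime (N := K) (coprime_of hKi hKc).symm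
  have hLπ : PiNum π (Nat.card L) := by rw [← hL.symm.index_eq_card]; exact hKi
  have hLπ' : PiNum π (Nat.card (L.map X.subtype)) := by rwa [card_map_of_injective X.subtype_injective]
  obtain ⟨P⟩ : Nonempty (Sylow 2 L) := inferInstance
  have hPn : (P : Subgroup L).Normal := by
    have e := L.equivMapOfInjective X.subtype X.subtype_injective
    have hP := h.cl _ hLπ' (P.mapSurjective (f := e.toMonoidHom) e.surjective)
    have := Normal.comap hP e.toMonoidHom
    rwa [show ((P.mapSurjective (f := e.toMonoidHom) e.surjective : Sylow 2 _) : Subgroup _) =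
      (P : Subgroup L).map e.toMonoidHom from rfl, comap_map_eq_self_of_injective e.injective] at this
  set P' := ((P : Subgroup L).map L.subtype) with hP'
  have hodd : ¬ 2 ∣ P'.index := by
    rw [hP', index_map_subtype]
    refine fun hd => (Nat.prime_two.dvd_mul.1 hd).elim P.not_dvd_index fun h2 => ?_
    rw [hL.index_eq_card] at h2
    exact hKc 2 Nat.prime_two h2 h.two
  have hP'p : IsPGroup 2 P' := P.2.map _
  obtain ⟨S, hS⟩ : ∃ S : Sylow 2 X, (S : Subgroup X) = P' := ⟨hP'p.toSylow hodd, rfl⟩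
  obtain ⟨R, hR⟩ := (hT.of_equiv (subgroupOfEquivOfLe hTX).symm).exists_le_sylow
  have hRT : ((R : Subgroup X)).map X.subtype = T := by
    refine hmax _ (R.2.map _) ?_ (map_subtype_le _)
    intro y hy
    exact ⟨⟨y, hTX hy⟩, hR (mem_subgroupOf.2 hy), rfl⟩
  obtain ⟨x₀, hx₀⟩ := MulAction.exists_smul_eq X S R
  obtain ⟨⟨⟨k, hk⟩, ⟨l, hl⟩⟩, e0⟩ := hL.2 x₀
  have ek : (k : X) * l = x₀ := e0
  have hPl : ∀ y ∈ P', l * y * l⁻¹ ∈ P' := by
    rintro _ ⟨y, hy, rfl⟩
    exact ⟨_, hPn.conj_mem y hy ⟨l, hl⟩, rfl⟩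
  have hRmem : ∀ y : X, y ∈ (R : Subgroup X) ↔ k⁻¹ * y * k ∈ P' := by
    intro y
    rw [← hx₀, ← ek]
    rw [Sylow.coe_subgroup_smul, hS, Subgroup.mem_smul_pointwise_iff_exists]
    constructor
    · rintro ⟨s, hs, rfl⟩
      rw [MulAut.smul_def, MulAut.conj_apply,
        show k⁻¹ * ((k : X) * l * s * (k * l)⁻¹) * k = l * s * l⁻¹ by group]
      exact hPl s hs
    · intro hy
      have hPl' : ∀ z ∈ P', l⁻¹ * z * l ∈ P' := by
        rintro _ ⟨z, hz, rfl⟩
        exact ⟨_, hPn.conj_mem' z hz ⟨l, hl⟩, rfl⟩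
      refine ⟨l⁻¹ * (k⁻¹ * y * k) * l, hPl' _ hy, ?_⟩
      rw [MulAut.smul_def, MulAut.conj_apply]
      group
  refine ⟨(L.map (MulAut.conj k).toMonoidHom).map X.subtype, map_subtype_le _, ?_, ?_, ?_, ?_⟩
  · rw [card_map_of_injective X.subtype_injective,
      ← Nat.card_congr (L.equivMapOfInjective _ (MulAut.conj k).injective).toEquiv]
    exact hLπ
  · intro y hy
    have h1 := (hRmem ⟨y, hTX hy⟩).1 (hR (mem_subgroupOf.2 hy))
    refine ⟨⟨y, hTX hy⟩, ⟨_, map_subtype_le _ h1, ?_⟩, rfl⟩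
    show k * (k⁻¹ * (⟨y, hTX hy⟩ : X) * k) * k⁻¹ = _
    group
  · have key : ∀ a ∈ (L.map (MulAut.conj k).toMonoidHom), ∀ y : X, (y : X) ∈ (R : Subgroup X) →
        a * y * a⁻¹ ∈ (R : Subgroup X) := by
      rintro _ ⟨a, ha, rfl⟩ y hy
      rw [hRmem] at hy ⊢
      have h1 : a * (k⁻¹ * y * k) * a⁻¹ ∈ P' := by
        obtain ⟨z, hz, hz'⟩ := hy
        rw [← hz']
        exact ⟨_, hPn.conj_mem z hz ⟨a, ha⟩, rfl⟩
      rw [show k⁻¹ * ((MulAut.conj k).toMonoidHom a * y * ((MulAut.conj k).toMonoidHom a)⁻¹) * k =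
        a * (k⁻¹ * y * k) * a⁻¹ by
          show k⁻¹ * ((k : X) * a * k⁻¹ * y * (k * a * k⁻¹)⁻¹) * k = _
          group]
      exact h1
    rintro _ ⟨a, ha, rfl⟩
    rw [mem_normalizer_iff]
    refine fun y => ⟨fun hy => ?_, fun hy => ?_⟩
    · rw [← hRT] at hy ⊢
      obtain ⟨z, hz, rfl⟩ := hy
      exact ⟨_, key a ha z hz, rfl⟩
    · rw [← hRT] at hy ⊢
      obtain ⟨z, hz, hz'⟩ := hy
      refine ⟨a⁻¹ * z * (a⁻¹)⁻¹, key a⁻¹ (inv_mem ha) z hz, ?_⟩
      have hz'' : (z : G) = (a : G) * y * (a : G)⁻¹ := hz'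
      simp [hz'', mul_assoc]
  · intro x hx
    obtain ⟨⟨⟨k', hk'⟩, ⟨l', hl'⟩⟩, e⟩ := hL.2 ⟨x, hx⟩
    have e' : (k' : X) * l' = ⟨x, hx⟩ := e
    refine ⟨_, mem_subgroupOf.1 (show k' * (l' * k * l'⁻¹) * k⁻¹ ∈ K from
      mul_mem (mul_mem hk' ((inferInstance : K.Normal).conj_mem _ hk l')) (inv_mem hk)), _,
      ⟨k * l' * k⁻¹, ⟨l', hl', rfl⟩, rfl⟩, ?_⟩
    have e'' := congrArg Subtype.val e'
    simp only [Subgroup.coe_mul] at e''
    rw [← e'']
    simp [mul_assoc]

/-- The subgroup `M` contains the normalizer of each member of a family closed upwards and under `M`. -/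
theorem normalizer_le (M : Subgroup G) (S : Sylow 2 G)
    (hNS : normalizer ((S : Subgroup G) : Set G) ≤ M) (Q : Subgroup G → Prop)
    (hmono : ∀ P P' : Subgroup G, Q P → P ≤ P' → Q P')
    (hconj : ∀ P : Subgroup G, ∀ m ∈ M, Q P → Q (P.map (MulAut.conj m).toMonoidHom))
    (hne : ∀ P : Subgroup G, Q P → P ≠ ⊥)
    (hk : ∀ P : Subgroup G, P ≤ (S : Subgroup G) → Q P → pk π (normalizer (P : Set G)) ≤ M) :
    ∀ P : Subgroup G, IsPGroup 2 P → P ≤ M → Q P → normalizer (P : Set G) ≤ M := by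
  haveI := Fact.mk Nat.prime_two
  have hSM : (S : Subgroup G) ≤ M := le_normalizer.trans hNS
  have hbig : ∀ P : Subgroup G, IsPGroup 2 P → P ≤ M → ∃ m ∈ M, P.map (MulAut.conj m).toMonoidHom ≤ S := by
    intro P hP hPM
    obtain ⟨R, hR⟩ := (hP.of_equiv (subgroupOfEquivOfLe hPM).symm).exists_le_sylow
    obtain ⟨m, hm⟩ := MulAction.exists_smul_eq M R (S.subtype hSM)
    refine ⟨m, m.2, ?_⟩
    rintro _ ⟨y, hy, rfl⟩
    have h1 : m * ⟨y, hPM hy⟩ * m⁻¹ ∈ ((S.subtype hSM : Sylow 2 M) : Subgroup M) := by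
      rw [← hm, Sylow.coe_subgroup_smul]
      exact ⟨⟨y, hPM hy⟩, hR (mem_subgroupOf.2 hy), rfl⟩
    rw [Sylow.coe_subtype, mem_subgroupOf] at h1
    exact h1
  intro P
  induction hn : Nat.card G - Nat.card P using Nat.strong_induction_on generalizing P with
  | _ k ih =>
  subst hn
  intro hP hPM hQ
  obtain ⟨m, hm, hPS⟩ := hbig P hP hPM
  set P' := P.map (MulAut.conj m).toMonoidHom with hP'
  suffices h' : normalizer (P' : Set G) ≤ M by
    intro x hx
    have hx' : m * x * m⁻¹ ∈ normalizer (P' : Set G) := by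
      rw [mem_normalizer_iff] at hx ⊢
      intro y
      rw [hP', mem_map_equiv, mem_map_equiv]
      simp only [MulAut.conj_symm_apply]
      rw [show m⁻¹ * (m * x * m⁻¹ * y * (m * x * m⁻¹)⁻¹) * m = x * (m⁻¹ * y * m) * x⁻¹ by group]
      exact hx _
    have := M.mul_mem (M.mul_mem (M.inv_mem hm) (h' hx')) hm
    simpa [mul_assoc] using this
  have hQ' : Q P' := hconj P m hm hQ
  have hP'p : IsPGroup 2 P' := hP.map _
  by_cases hPtop : P' = (S : Subgroup G)
  · rw [hPtop]; exact hNS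
  set X := normalizer (P' : Set G) with hX
  have hXt : X ≠ ⊤ := h.normalizer_ne_top hP'p (hne _ hQ')
  -- a Sylow 2-subgroup of `N_M(P')` is one of `X`
  have hlt : P'.subgroupOf (S : Subgroup G) < ⊤ :=
    lt_top_iff_ne_top.2 fun e => hPtop (le_antisymm hPS (subgroupOf_eq_top.1 e))
  haveI : Group.IsNilpotent (S : Subgroup G) := S.2.isNilpotent
  obtain ⟨⟨d, hdS⟩, hdn, hd⟩ := SetLike.exists_of_lt (Group.normalizerCondition_of_isNilpotent _ hlt)
  have hdX : d ∈ X := by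
    rw [hX, mem_normalizer_iff]
    intro y
    constructor
    · intro hy
      exact mem_subgroupOf.1 ((mem_normalizer_iff.1 hdn ⟨y, hPS hy⟩).1 (mem_subgroupOf.2 hy))
    · intro hy
      have h0 := hPS hy
      have h1 : y ∈ (S : Subgroup G) := by
        have := mul_mem (mul_mem (inv_mem hdS) h0) hdS
        simpa [mul_assoc] using this
      exact mem_subgroupOf.1 ((mem_normalizer_iff.1 hdn ⟨y, h1⟩).2 (mem_subgroupOf.2 hy))
  set T₀ := (S : Subgroup G) ⊓ X with hT₀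
  obtain ⟨R, hR⟩ := ((S.2.to_le (inf_le_left : T₀ ≤ S)).of_equiv
    (subgroupOfEquivOfLe (show T₀ ≤ M ⊓ X from inf_le_inf_right X hSM)).symm).exists_le_sylow
  set T := (R : Subgroup (M ⊓ X : Subgroup G)).map (M ⊓ X).subtype with hT
  have hTp : IsPGroup 2 T := R.2.map _
  have hTM : T ≤ M := (map_subtype_le _).trans inf_le_left
  have hTX : T ≤ X := (map_subtype_le _).trans inf_le_right
  have hT0T : T₀ ≤ T := fun y hy =>
    ⟨⟨y, ⟨hSM hy.1, hy.2⟩⟩, hR (mem_subgroupOf.2 hy), rfl⟩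
  have hPT : P' ≤ T := fun y hy => hT0T ⟨hPS hy, le_normalizer hy⟩
  have hcard : Nat.card G - Nat.card T < Nat.card G - Nat.card P := by
    have h1 : Nat.card P = Nat.card P' := (card_map_of_injective (MulAut.conj m).injective).symm
    have h2 : Nat.card P' < Nat.card T := by
      refine lt_of_le_of_ne (Nat.le_of_dvd Nat.card_pos (card_dvd_of_le hPT)) fun e => hd ?_
      exact mem_subgroupOf.2 (eq_of_le_of_card_ge hPT e.ge ▸ hT0T ⟨hdS, hdX⟩)
    have h3 : Nat.card T ≤ Nat.card G := Nat.le_of_dvd Nat.card_pos (card_subgroup_dvd_card T)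
    omega
  have hNT := ih _ hcard T rfl hTp hTM (hmono _ _ hQ' hPT)
  have hmax : ∀ U : Subgroup G, IsPGroup 2 U → T ≤ U → U ≤ X → U = T := by
    intro U hU hTU hUX
    by_contra hne'
    have hlt' : T.subgroupOf U < ⊤ :=
      lt_top_iff_ne_top.2 fun e => hne' (le_antisymm (subgroupOf_eq_top.1 e) hTU)
    haveI : Group.IsNilpotent U := hU.isNilpotent
    obtain ⟨⟨b, hbU⟩, hbn, hb⟩ := SetLike.exists_of_lt (Group.normalizerCondition_of_isNilpotent _ hlt')
    have hbT : b ∈ normalizer (T : Set G) := by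
      rw [mem_normalizer_iff]
      intro y
      constructor
      · intro hy
        exact mem_subgroupOf.1 ((mem_normalizer_iff.1 hbn ⟨y, hTU hy⟩).1 (mem_subgroupOf.2 hy))
      · intro hy
        have h1 : y ∈ U := by
          have := mul_mem (mul_mem (inv_mem hbU) (hTU hy)) hbU
          simpa [mul_assoc] using this
        exact mem_subgroupOf.1 ((mem_normalizer_iff.1 hbn ⟨y, h1⟩).2 (mem_subgroupOf.2 hy))
    set U' := U ⊓ normalizer (T : Set G) with hU'
    have hU'le : U'.subgroupOf (M ⊓ X) = (R : Subgroup (M ⊓ X : Subgroup G)) := by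
      refine R.3 ((hU.to_le inf_le_left).of_equiv
        (subgroupOfEquivOfLe (show U' ≤ M ⊓ X from le_inf (inf_le_right.trans hNT) (inf_le_left.trans hUX))).symm) ?_
      intro y hy
      have hy' : (y : G) ∈ T := ⟨y, hy, rfl⟩
      exact mem_subgroupOf.2 ⟨hTU hy', le_normalizer hy'⟩
    refine hb (mem_subgroupOf.2 ?_)
    exact ⟨⟨b, hNT hbT, hUX hbU⟩, hU'le ▸ mem_subgroupOf.2 ⟨hbU, hbT⟩, rfl⟩
  obtain ⟨L, -, -, -, hLn, hXL⟩ := h.struct hXt hTX hTp hmax
  intro x hx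
  obtain ⟨k, hk', l, hl, rfl⟩ := hXL x hx
  exact M.mul_mem (hk P' hPS hQ' hk') (hNT (hLn hl))

end Min

end CfsgLib.PiHom
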