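import Cfsg.Agent.Lib.PiHom.Lines
import Cfsg.Agent.Lib.PiHom.Column

/-!
# The five generalized characters attached to the lines, and their inner products
-/

set_option autoImplicit false
set_option linter.unusedSectionVars false
set_option linter.style.haveILetI false

open Finset
open scoped ComplexConjugate

namespace CfsgLib.PiHom

open Cfsg CfsgLib.Block

universe u

variable {π : Set ℕ} {G : Type u} [Group G] [Fintype G] {S : Sylow 2 G} {E : Subgroup G}

open scoped _root_.Classical in
/-- Four at the elements fused to elements outside `E` and off the line of `y`, otherwise zero. -/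
noncomputable def lineFun (S : Sylow 2 G) (E : Subgroup G) (y : G) (g : G) : ℂ :=
  if ∃ z, z ∈ (S : Subgroup G) ∧ z ∉ E ∧ IsConj z g ∧ ¬ Commute z y then 4 else 0

open scoped _root_.Classical in
/-- The elements of `S` outside `E`. -/
noncomputable def outer (S : Sylow 2 G) (E : Subgroup G) : Finset G :=
  Finset.univ.filter fun z => z ∈ (S : Subgroup G) ∧ z ∉ E

theorem mem_outer {z : G} : z ∈ outer S E ↔ z ∈ (S : Subgroup G) ∧ z ∉ E := by simp [outer]

theorem isClassFunction_lineFun (S : Sylow 2 G) (E : Subgroup G) (y : G) :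
    IsClassFunction G (lineFun S E y) := by
  classical
  intro g c
  have hiff : ∀ z, IsConj z (c * g * c⁻¹) ↔ IsConj z g := fun z =>
    ⟨fun h => h.trans (isConj_iff.2 ⟨c, rfl⟩).symm, fun h => h.trans (isConj_iff.2 ⟨c, rfl⟩)⟩
  simp only [lineFun, hiff]

theorem conj_lineFun (y g : G) : conj (lineFun S E y g) = lineFun S E y g := by
  rw [lineFun]
  split_ifs <;> simp [Complex.conj_ofNat]

theorem exists_of_lineFun_ne {y g : G} (h : lineFun S E y g ≠ 0) :
    ∃ z, z ∈ (S : Subgroup G) ∧ z ∉ E ∧ IsConj z g := by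
  classical
  rw [lineFun] at h
  split_ifs at h with h'
  · obtain ⟨z, hz, hzE, hzg, -⟩ := h'
    exact ⟨z, hz, hzE, hzg⟩
  · exact absurd rfl h

theorem lineFun_four (hF : Frame S E) (y : G) {e : G} (he : e ∈ E) : lineFun S E y e = 0 := by
  classical
  rw [lineFun, if_neg]
  rintro ⟨z, hz, hzE, hze, -⟩
  obtain ⟨g, rfl⟩ := isConj_iff.1 hze
  exact hF.not_mem_four_of_conj hz hzE he

namespace Min

variable (h : Min π G) (hF : Frame S E)
include h hF

open scoped _root_.Classical in
theorem lineFun_outer {y z : G} (hz : z ∈ (S : Subgroup G)) (hzE : z ∉ E) (hy : y ∈ (S : Subgroup G)) :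
    lineFun S E y z = if Commute z y then 0 else 4 := by
  classical
  rw [lineFun]
  by_cases hc : Commute z y
  · rw [if_pos hc, if_neg]
    rintro ⟨w, hw, hwE, hwz, hwy⟩
    have hwz' : Commute z w := (h.isConj_iff_commute hF hw hwE hz hzE).1 hwz
    exact hwy (hF.abel z hz hzE w hw y hy hwz'.symm hc.symm)
  · rw [if_neg hc, if_pos ⟨z, hz, hzE, IsConj.refl z, hc⟩]

theorem card_outer : (outer S E).card = 60 := by
  classical
  haveI := hF.klein
  have hset : outer S E = Finset.univ.filter (· ∈ (S : Subgroup G)) \ Finset.univ.filter (· ∈ E) := by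
    ext z; simp [mem_outer]
  rw [hset, Finset.card_sdiff_of_subset (fun z hz => by
    simp only [Finset.mem_filter, Finset.mem_univ, true_and] at hz ⊢
    exact hF.le hz), ← Fintype.card_subtype, ← Fintype.card_subtype, ← Nat.card_eq_fintype_card,
    ← Nat.card_eq_fintype_card, hF.card, (IsKleinFour.card_four : Nat.card E = 4)]

open scoped _root_.Classical in
theorem card_outer_line {y : G} (hy : y ∈ (S : Subgroup G)) (hyE : y ∉ E) :
    ((outer S E).filter fun z => Commute z y).card = 12 := by
  classical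
  rw [← hF.card_line hy hyE, Nat.card_eq_fintype_card, Fintype.card_subtype]
  congr 1
  ext z
  simp [mem_outer, and_assoc]

open scoped _root_.Classical in
theorem card_outer_off {y : G} (hy : y ∈ (S : Subgroup G)) (hyE : y ∉ E) :
    ((outer S E).filter fun z => ¬ Commute z y).card = 48 := by
  classical
  have := Finset.card_filter_add_card_filter_not (s := outer S E) (fun z => Commute z y)
  rw [h.card_outer_line hF hy hyE, h.card_outer hF] at this
  omega

open scoped _root_.Classical in
theorem card_outer_off_two {y y' : G} (hy : y ∈ (S : Subgroup G)) (hyE : y ∉ E) (hy' : y' ∈ (S : Subgroup G))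
    (hy'E : y' ∉ E) (hne : ¬ Commute y y') :
    ((outer S E).filter fun z => ¬ Commute z y ∧ ¬ Commute z y').card = 36 := by
  classical
  have h1 := Finset.card_filter_add_card_filter_not (s := (outer S E).filter fun z => ¬ Commute z y)
    (fun z => Commute z y')
  rw [h.card_outer_off hF hy hyE, Finset.filter_filter, Finset.filter_filter] at h1
  have h2 : (outer S E).filter (fun z => ¬ Commute z y ∧ Commute z y') = (outer S E).filter fun z => Commute z y' :=
    Finset.filter_congr fun z hz => ⟨And.right, fun hc => ⟨fun hc' => hne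
      (hF.abel z (mem_outer.1 hz).1 (mem_outer.1 hz).2 y hy y' hy' hc'.symm hc.symm), hc⟩⟩
  rw [h2, h.card_outer_line hF hy' hy'E] at h1
  omega

variable {M : Ideal AlgInt} [M.IsMaximal] [DecidableEq G]

/-- Summation over the sections of the elements outside `E`. -/
theorem sum_outer (hM : IsPModular 2 M) {φ : G → ℂ} (hφ : IsClassFunction G φ)
    (hsupp : ∀ u, φ u ≠ 0 → ∃ z, z ∈ (S : Subgroup G) ∧ z ∉ E ∧ IsConj z u) :
    192 * ∑ g : G, φ (pPt hM g) = (Nat.card G : ℂ) * ∑ z ∈ outer S E, φ z := by
  classical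
  haveI := Fact.mk Nat.prime_two
  set P2 := Finset.univ.filter (fun u : G => ∃ k : ℕ, orderOf u = 2 ^ k)
  have hsum : ∑ g : G, φ (pPt hM g) = ∑ u ∈ P2, ((regC 2 u).card : ℂ) * φ u := by
    rw [sum_by_pPart hM]
    refine Finset.sum_congr rfl fun u hu => ?_
    rw [Finset.sum_congr rfl fun s hs => by rw [pPt_mul hM (Finset.mem_filter.1 hu).2 hs], Finset.sum_const,
      nsmul_eq_mul]
  have h2pow : ∀ z ∈ (S : Subgroup G), ∃ k, orderOf z = 2 ^ k := fun z hz => by
    obtain ⟨k, hk⟩ := S.2 ⟨z, hz⟩
    obtain ⟨j, -, hj⟩ := (Nat.dvd_prime_pow Nat.prime_two).1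
      (orderOf_dvd_of_pow_eq_one (congrArg Subtype.val hk : z ^ 2 ^ k = 1))
    exact ⟨j, hj⟩
  have hreg : ∀ (z : G) (c : G), (regC 2 (c * z * c⁻¹)).card = (regC 2 z).card := fun z c => by
    refine (Finset.card_nbij' (fun s => c * s * c⁻¹) (fun s => c⁻¹ * s * c) ?_ ?_ ?_ ?_).symm
    · intro s hs
      rw [Finset.mem_coe, mem_regC, mem_cq_zpowers_iff] at hs ⊢
      exact ⟨hs.1.map (MulAut.conj c), by rw [orderOf_conj_eq]; exact hs.2⟩
    · intro s hs
      rw [Finset.mem_coe, mem_regC, mem_cq_zpowers_iff] at hs ⊢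
      have h1 := hs.1.map (MulAut.conj c⁻¹)
      simp only [MulAut.conj_apply] at h1
      rw [show c⁻¹ * (c * z * c⁻¹) * c⁻¹⁻¹ = z by group, inv_inv] at h1
      refine ⟨h1, ?_⟩
      show ¬ 2 ∣ orderOf (c⁻¹ * s * c)
      rw [show c⁻¹ * s * c = c⁻¹ * s * c⁻¹⁻¹ by group, orderOf_conj_eq]
      exact hs.2
    · intro s _
      show c⁻¹ * (c * s * c⁻¹) * c = s
      group
    · intro s _
      show c * (c⁻¹ * s * c) * c⁻¹ = s
      group
  have hclass : ∀ z ∈ outer S E, (∑ u ∈ P2.filter (IsConj z), (regC 2 u).card) * 16 = Nat.card G := by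
    intro z hz
    obtain ⟨hzS, hzE⟩ := mem_outer.1 hz
    obtain ⟨O, hO⟩ := h.exists_core hF hzS (fun e => hzE (e ▸ E.one_mem))
    have hR : (regC 2 z).card = Nat.card O := by
      rw [Nat.card_eq_fintype_card, Fintype.card_subtype]
      congr 1
      ext s
      rw [mem_regC, mem_cq_zpowers_iff]
      simp only [Finset.mem_filter, Finset.mem_univ, true_and]
      constructor
      · exact fun hs => (hO.mem_iff hs.1).2 hs.2
      · intro hs
        have hc : Commute s z := Subgroup.mem_centralizer_singleton_iff.1 (hO.le hs)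
        exact ⟨hc, (hO.mem_iff hc).1 hs⟩
    rw [Finset.sum_congr rfl (g := fun _ => Nat.card O) fun u hu => by
      obtain ⟨c, rfl⟩ := isConj_iff.1 (Finset.mem_filter.1 hu).2
      rw [hreg, hR], Finset.sum_const, smul_eq_mul]
    have hP : P2.filter (IsConj z) = Finset.univ.filter (IsConj z) := by
      ext u
      simp only [P2, Finset.mem_filter, Finset.mem_univ, true_and, and_iff_right_iff_imp]
      intro hzu
      obtain ⟨c, rfl⟩ := isConj_iff.1 hzu
      obtain ⟨k, hk⟩ := h2pow z hzS
      exact ⟨k, by rw [orderOf_conj_eq, hk]⟩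
    rw [hP, ← Fintype.card_subtype, ← Nat.card_eq_fintype_card, Char.card_isConj,
      ← (Subgroup.centralizer ({z} : Set G)).index_mul_card,
      ← (O.subgroupOf (Subgroup.centralizer ({z} : Set G))).card_mul_index,
      Nat.card_congr (Subgroup.subgroupOfEquivOfLe hO.le).toEquiv, hO.index_eq, hF.line z hzS hzE, mul_assoc]
  have hcount : ∀ u ∈ P2, φ u * ((outer S E).filter fun z => IsConj z u).card = φ u * 12 := by
    intro u _
    by_cases h0 : φ u = 0
    · rw [h0, zero_mul, zero_mul]
    obtain ⟨z, hz, hzE, hzu⟩ := hsupp u h0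
    rw [show ((outer S E).filter fun w => IsConj w u) = (outer S E).filter fun w => Commute w z from
      Finset.filter_congr fun w hw => ?_, h.card_outer_line hF hz hzE]
    · norm_num
    · obtain ⟨hwS, hwE⟩ := mem_outer.1 hw
      rw [← h.isConj_iff_commute hF hz hzE hwS hwE]
      exact ⟨fun e => hzu.trans e.symm, fun e => e.symm.trans hzu⟩
  have hdouble : ∑ u ∈ P2, ((regC 2 u).card : ℂ) * (φ u * ((outer S E).filter fun z => IsConj z u).card) =
      ∑ z ∈ outer S E, φ z * (∑ u ∈ P2.filter (IsConj z), ((regC 2 u).card : ℂ)) := by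
    simp only [Finset.card_filter, Nat.cast_sum, Finset.mul_sum]
    rw [Finset.sum_comm]
    refine Finset.sum_congr rfl fun z _ => ?_
    rw [Finset.sum_filter (p := IsConj z)]
    refine Finset.sum_congr rfl fun u _ => ?_
    by_cases hc : IsConj z u
    · rw [if_pos hc, if_pos hc, Char.classFun_isConj hφ hc]; push_cast; ring
    · rw [if_neg hc, if_neg hc]; simp
  rw [hsum, Finset.mul_sum, Finset.mul_sum]
  calc ∑ u ∈ P2, 192 * (((regC 2 u).card : ℂ) * φ u)
      = 16 * ∑ u ∈ P2, ((regC 2 u).card : ℂ) * (φ u * ((outer S E).filter fun z => IsConj z u).card) := by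
        rw [Finset.mul_sum]
        refine Finset.sum_congr rfl fun u hu => ?_
        rw [hcount u hu]; ring
    _ = ∑ z ∈ outer S E, (Nat.card G : ℂ) * φ z := by
        rw [hdouble, Finset.mul_sum]
        refine Finset.sum_congr rfl fun z hz => ?_
        rw [← hclass z hz]
        push_cast
        ring

theorem classInner_lineFun_one (hM : IsPModular 2 M) {y : G} (hy : y ∈ (S : Subgroup G)) (hyE : y ∉ E) :
    classInner (fun g => lineFun S E y (pPt hM g)) (oneChar G : G → ℂ) = 1 := by
  classical
  have h1 := h.sum_outer hF hM (φ := lineFun S E y) (isClassFunction_lineFun S E y) fun u hu => exists_of_lineFun_ne hu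
  rw [Finset.sum_congr (s₁ := outer S E) rfl fun z hz => h.lineFun_outer hF (mem_outer.1 hz).1 (mem_outer.1 hz).2 hy, Finset.sum_ite,
    Finset.sum_const_zero, zero_add, Finset.sum_const, h.card_outer_off hF hy hyE] at h1
  simp only [classInner, oneChar, map_one, mul_one]
  rw [inv_mul_eq_iff_eq_mul₀ Char.card_ne_zero', mul_one]
  norm_num at h1
  rw [Nat.card_eq_fintype_card]
  linear_combination h1 / 192

open scoped _root_.Classical in
theorem classInner_lineFun (hM : IsPModular 2 M) {y y' : G} (hy : y ∈ (S : Subgroup G)) (hyE : y ∉ E)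
    (hy' : y' ∈ (S : Subgroup G)) (hy'E : y' ∉ E) :
    classInner (fun g => lineFun S E y (pPt hM g)) (fun g => lineFun S E y' (pPt hM g)) =
      ((if y = y' ∨ Commute y y' then 4 else 3 : ℕ) : ℂ) := by
  classical
  have h1 := h.sum_outer hF hM (φ := fun u => lineFun S E y u * lineFun S E y' u)
    (fun g c => by simp only [isClassFunction_lineFun S E y g c, isClassFunction_lineFun S E y' g c])
    fun u hu => exists_of_lineFun_ne (left_ne_zero_of_mul hu)
  rw [Finset.sum_congr (s₁ := outer S E) rfl (g := fun z => if ¬ Commute z y ∧ ¬ Commute z y' then (16 : ℂ) else 0) fun z hz => by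
      show lineFun S E y z * lineFun S E y' z = _
      rw [h.lineFun_outer hF (mem_outer.1 hz).1 (mem_outer.1 hz).2 hy,
        h.lineFun_outer hF (mem_outer.1 hz).1 (mem_outer.1 hz).2 hy']
      by_cases c1 : Commute z y <;> by_cases c2 : Commute z y' <;> norm_num [c1, c2],
    Finset.sum_ite, Finset.sum_const_zero, add_zero, Finset.sum_const] at h1
  simp only [classInner, conj_lineFun]
  rw [inv_mul_eq_iff_eq_mul₀ Char.card_ne_zero']
  by_cases hc : Commute y y'
  · rw [if_pos (Or.inr hc)]
    rw [show ((outer S E).filter fun z => ¬ Commute z y ∧ ¬ Commute z y') = (outer S E).filter fun z => ¬ Commute z y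
      from Finset.filter_congr fun z hz => ⟨And.left, fun hn => ⟨hn, fun hc' =>
        hn (hF.abel y' hy' hy'E z (mem_outer.1 hz).1 y hy hc' hc)⟩⟩, h.card_outer_off hF hy hyE] at h1
    norm_num at h1 ⊢
    linear_combination h1 / 192
  · rw [if_neg (by rintro (rfl | e); exacts [hc (Commute.refl y), hc e])]
    rw [h.card_outer_off_two hF hy hyE hy' hy'E hc] at h1
    norm_num at h1 ⊢
    linear_combination h1 / 192

theorem isGeneralizedCharacter_lineFun (hM : IsPModular 2 M) {y : G} (hy : y ∈ (S : Subgroup G)) (hyE : y ∉ E) :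
    IsGeneralizedCharacter G (fun g => lineFun S E y (pPt hM g)) := by
  classical
  haveI := Fintype.ofFinite (IrrCharacter G)
  refine isGeneralizedCharacter_comp_pPt hM (isClassFunction_lineFun S E y) S ?_
  set T := (S : Subgroup G) with hT
  set A := (T ⊓ Subgroup.centralizer ({y} : Set G)).subgroupOf T with hA
  have hmemA : ∀ s : T, s ∈ A ↔ Commute (s : G) y := fun s => by
    rw [hA, Subgroup.mem_subgroupOf, Subgroup.mem_inf, Subgroup.mem_centralizer_singleton_iff]
    exact ⟨fun e => e.2, fun e => ⟨s.2, e⟩⟩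
  haveI : A.Normal := ⟨fun a ha s => by
    rw [hmemA] at ha ⊢
    have hc := hF.comm s s.2 (a : G) a.2
    have e : (s : G) * a * (s : G)⁻¹ = (s : G) * a * (s : G)⁻¹ * (a : G)⁻¹ * a := by group
    show Commute ((s : G) * a * (s : G)⁻¹) y
    rw [e]
    exact (hF.central _ hc y hy).mul_left ha⟩
  haveI := Fintype.ofFinite (T ⧸ A)
  have hidx : Nat.card (T ⧸ A) = 4 := by
    rw [← Subgroup.index_eq_card]
    have h1 := A.card_mul_index
    rw [hF.card, Nat.card_congr (Subgroup.subgroupOfEquivOfLe inf_le_left).toEquiv, hF.line y hy hyE] at h1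
    omega
  have hval : (fun s : T => lineFun S E y (s : G)) = ((4 : ℤ) : ℂ) • (fun _ : T => (1 : ℂ)) -
      fun s : T => (Representation.leftRegular ℂ (T ⧸ A)).character (QuotientGroup.mk' A s) := by
    funext s
    simp only [Pi.sub_apply, Pi.smul_apply, smul_eq_mul, mul_one, Char.regular_char, hidx,
      QuotientGroup.mk'_apply, QuotientGroup.eq_one_iff, hmemA]
    by_cases hsE : (s : G) ∈ E
    · rw [lineFun_four hF y hsE, if_pos (hF.central _ hsE y hy)]
      norm_num
    · rw [h.lineFun_outer hF s.2 hsE hy]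
      by_cases hc : Commute (s : G) y <;> simp [hc]
  rw [hval]
  exact Char.isGeneralizedCharacter_sub
    (Char.isGeneralizedCharacter_zsmul (Char.isGeneralizedCharacter_of_isCharacter
      (Char.isCharacter_of_isIrr Char.isIrrCharacter_one)) 4)
    (Char.isGeneralizedCharacter_of_isCharacter
      (Char.isCharacter_comp (Char.isCharacter_character _) (QuotientGroup.mk' A)))

end Min

end CfsgLib.PiHom
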