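import Cfsg.Agent.Lib.PiHom.Embedded
import Cfsg.Agent.Lib.Invol.ZStar
import Cfsg.Agent.Lib.Fusion.Transfer
import Cfsg.Agent.Lib.Coprime.Action
import Cfsg.Agent.S0214
import Cfsg.Agent.S0217

/-!
# The involutions of a Sylow 2-subgroup of a minimal counterexample
-/

set_option autoImplicit false
set_option linter.unusedSectionVars false
set_option linter.style.haveILetI false

open Subgroup

namespace CfsgLib.PiHom

universe u

variable {π : Set ℕ} {G : Type u} [Group G] [Finite G]

/-- `E` is a four group containing all involutions of `S`, central in `S` and fused by `N(S)`. -/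
structure Four (S : Sylow 2 G) (E : Subgroup G) : Prop where
  klein : IsKleinFour E
  le : E ≤ (S : Subgroup G)
  central : ∀ e ∈ E, ∀ s ∈ (S : Subgroup G), Commute e s
  invol : ∀ s ∈ (S : Subgroup G), s * s = 1 → s ∈ E
  trans : ∀ a ∈ E, ∀ b ∈ E, a ≠ 1 → b ≠ 1 → ∃ n ∈ normalizer ((S : Subgroup G) : Set G), n * a * n⁻¹ = b

namespace Min

variable (h : Min π G)
include h

theorem not_zcentral {z : G} (hz : orderOf z = 2) : ¬ CfsgLib.Invol.IsZCentral z := fun hc => by
  haveI := h.simple
  haveI := Fact.mk Nat.prime_two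
  have hz1 : z ≠ 1 := fun e => by rw [e, orderOf_one] at hz; norm_num at hz
  haveI hn : (Cfsg.pPrimeCore 2 G).Normal := by
    rw [CfsgLib.Coprime.pPrimeCore_eq_piCore Nat.prime_two]; infer_instance
  have hO : Cfsg.pPrimeCore 2 G = ⊥ := by
    refine (Normal.eq_bot_or_eq_top hn).resolve_right fun e => ?_
    have h1 := CfsgLib.Coprime.pPrimeCore_coprime (G := G) Nat.prime_two
    rw [e, card_top] at h1
    have h2 : 2 ∣ Nat.card G := hz ▸ orderOf_dvd_natCard z
    exact Nat.not_even_iff_odd.2 (Nat.coprime_two_right.1 h1) (even_iff_two_dvd.2 h2)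
  refine h.centralizer_ne_top hz1 (eq_top_iff.2 fun g _ => mem_centralizer_singleton_iff.2 ?_)
  have h1 := hc g
  rw [hO, mem_bot, mul_inv_eq_one, mul_inv_eq_iff_eq_mul] at h1
  exact h1.symm

/-- An involution central in a Sylow subgroup and alone there leads to an isolated involution. -/
theorem false_of_one_central (S : Sylow 2 G) {z : G} (hz : orderOf z = 2) (hzS : z ∈ (S : Subgroup G))
    (hzc : ∀ s ∈ (S : Subgroup G), Commute z s)
    (hone : ∀ y ∈ (S : Subgroup G), orderOf y = 2 → (∀ s ∈ (S : Subgroup G), Commute y s) → y = z) : False := by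
  classical
  haveI := Fact.mk Nat.prime_two
  set M := centralizer ({z} : Set G) with hM
  have hz1 : z ≠ 1 := fun e => by rw [e, orderOf_one] at hz; norm_num at hz
  have hSM : (S : Subgroup G) ≤ M := fun s hs => mem_centralizer_singleton_iff.2 (hzc s hs).eq.symm
  have hNS : normalizer ((S : Subgroup G) : Set G) ≤ M := by
    intro n hn
    have h1 : n * z * n⁻¹ = z := by
      refine hone _ ((mem_normalizer_iff.1 hn z).1 hzS) (CfsgLib.Invol.invol_conj hz n) fun s hs => ?_
      have := (hzc _ ((mem_normalizer_iff.1 (inv_mem hn) s).1 hs)).map (MulAut.conj n)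
      simpa [mul_assoc] using this
    exact mem_centralizer_singleton_iff.2 (mul_inv_eq_iff_eq_mul.1 h1)
  have hfix : ∀ {m : G}, m ∈ M → m * z * m⁻¹ = z := fun {m} hm => by
    rw [mem_centralizer_singleton_iff.1 hm, mul_inv_cancel_right]
  have hNM := h.normalizer_le M S hNS (fun P => z ∈ P) (fun P P' hP hle => hle hP)
    (fun P m hm hP => ⟨z, hP, hfix hm⟩) (fun P hP e => hz1 (mem_bot.1 (e ▸ hP))) (fun P hPS hP x hx => by
      have := h.pk_normalizer_le (S.2.to_le hPS) hx
      exact mem_centralizer_singleton_iff.2 (mem_centralizer_iff.1 this z hP).symm)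
  refine h.not_zcentral hz (CfsgLib.Invol.zstar_of_weakly_closed S hz fun g hg => ?_)
  by_contra hne
  -- a conjugate with largest centralizer in `S`
  let Y : Finset G := (Set.toFinite {y : G | y ∈ (S : Subgroup G) ∧ IsConj z y ∧ y ≠ z}).toFinset
  obtain ⟨y, hy, hmax⟩ := Y.exists_max_image (fun y => Nat.card ((S : Subgroup G) ⊓ centralizer ({y} : Set G) : Subgroup G))
    ⟨g * z * g⁻¹, (Set.Finite.mem_toFinset _).2 ⟨hg, isConj_iff.2 ⟨g, rfl⟩, hne⟩⟩
  simp only [Y, Set.Finite.mem_toFinset, Set.mem_ofPred_eq] at hy hmax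
  obtain ⟨hyS, hyc, hyne⟩ := hy
  obtain ⟨k, hk⟩ := isConj_iff.1 hyc
  set T := (S : Subgroup G) ⊓ centralizer ({y} : Set G) with hT
  have hyT : y ∈ T := ⟨hyS, mem_centralizer_singleton_iff.2 rfl⟩
  have hzT : z ∈ T := ⟨hzS, mem_centralizer_singleton_iff.2 (hzc y hyS).eq⟩
  obtain ⟨R, hR⟩ := ((S.2.to_le (inf_le_left : T ≤ (S : Subgroup G))).of_equiv
    (subgroupOfEquivOfLe (inf_le_right : T ≤ centralizer ({y} : Set G))).symm).exists_le_sylow
  set T' := (R : Subgroup (centralizer ({y} : Set G))).map (centralizer ({y} : Set G)).subtype with hT'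
  have hTT' : T ≤ T' := fun t ht => ⟨⟨t, ht.2⟩, hR (mem_subgroupOf.2 ht), rfl⟩
  have hT'p : IsPGroup 2 T' := R.2.map _
  have hcardT' : Nat.card (S : Subgroup G) ≤ Nat.card T' := by
    have hle : (S : Subgroup G).map (MulAut.conj k).toMonoidHom ≤ centralizer ({y} : Set G) := by
      rintro _ ⟨s, hs, rfl⟩
      refine mem_centralizer_singleton_iff.2 ?_
      rw [← hk]
      exact ((hzc s hs).symm.map (MulAut.conj k)).eq
    obtain ⟨R', hR'⟩ := ((S.2.map (MulAut.conj k).toMonoidHom).of_equiv
      (subgroupOfEquivOfLe hle).symm).exists_le_sylow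
    rw [hT', card_map_of_injective (centralizer ({y} : Set G)).subtype_injective, R.card_eq_multiplicity,
      ← R'.card_eq_multiplicity]
    refine le_trans (le_of_eq ?_) (Nat.le_of_dvd Nat.card_pos (card_dvd_of_le hR'))
    rw [Nat.card_congr (subgroupOfEquivOfLe hle).toEquiv, card_map_of_injective (MulAut.conj k).injective]
  by_cases heq : T' = T
  · have hTS : T = (S : Subgroup G) := eq_of_le_of_card_ge inf_le_left (heq ▸ hcardT')
    refine hyne (hone y hyS (by rw [← hk]; exact CfsgLib.Invol.invol_conj hz k) fun s hs => ?_)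
    exact (mem_centralizer_singleton_iff.1 ((hTS.symm ▸ hs : s ∈ T)).2).symm
  · have hlt : T.subgroupOf T' < ⊤ :=
      lt_top_iff_ne_top.2 fun e => heq (le_antisymm (subgroupOf_eq_top.1 e) hTT')
    haveI : Group.IsNilpotent T' := hT'p.isNilpotent
    obtain ⟨⟨d, hdT'⟩, hdn, hd⟩ := SetLike.exists_of_lt (Group.normalizerCondition_of_isNilpotent _ hlt)
    set U := T' ⊓ normalizer (T : Set G) with hU
    have hdU : d ∈ U := by
      refine ⟨hdT', mem_normalizer_iff.2 fun t => ⟨fun ht => ?_, fun ht => ?_⟩⟩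
      · exact mem_subgroupOf.1 ((mem_normalizer_iff.1 hdn ⟨t, hTT' ht⟩).1 (mem_subgroupOf.2 ht))
      · have h1 : t ∈ T' := by
          have := mul_mem (mul_mem (inv_mem hdT') (hTT' ht)) hdT'
          simpa [mul_assoc] using this
        exact mem_subgroupOf.1 ((mem_normalizer_iff.1 hdn ⟨t, h1⟩).2 (mem_subgroupOf.2 ht))
    have hTU : T ≤ U := le_inf hTT' le_normalizer
    have hUM : U ≤ M := inf_le_right.trans
      (hNM T (S.2.to_le inf_le_left) (inf_le_left.trans hSM) hzT)
    obtain ⟨R'', hR''⟩ := ((hT'p.to_le inf_le_left : IsPGroup 2 U).of_equiv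
      (subgroupOfEquivOfLe hUM).symm).exists_le_sylow
    obtain ⟨m, hm⟩ := MulAction.exists_smul_eq M R'' (S.subtype hSM)
    have hmS : ∀ u ∈ U, (m : G) * u * (m : G)⁻¹ ∈ (S : Subgroup G) := fun u hu => by
      have h1 : m * ⟨u, hUM hu⟩ * m⁻¹ ∈ ((S.subtype hSM : Sylow 2 M) : Subgroup M) := by
        rw [← hm, Sylow.coe_subgroup_smul]
        exact ⟨⟨u, hUM hu⟩, hR'' (mem_subgroupOf.2 hu), rfl⟩
      rw [Sylow.coe_subtype, mem_subgroupOf] at h1
      exact h1
    set y' := (m : G) * y * (m : G)⁻¹ with hy'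
    have hle : U.map (MulAut.conj (m : G)).toMonoidHom ≤ (S : Subgroup G) ⊓ centralizer ({y'} : Set G) := by
      rintro _ ⟨u, hu, rfl⟩
      refine ⟨hmS u hu, mem_centralizer_singleton_iff.2 ?_⟩
      have hcy : Commute u y := mem_centralizer_singleton_iff.1 (map_subtype_le _ hu.1)
      exact (hcy.map (MulAut.conj (m : G))).eq
    have h1 := hmax y' ⟨hmS y (hTU hyT), hyc.trans (isConj_iff.2 ⟨m, rfl⟩), fun e => hyne (by
      have := e.trans (hfix m.2).symm
      exact mul_left_cancel (mul_right_cancel this))⟩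
    have h2 : Nat.card T < Nat.card U := by
      refine lt_of_le_of_ne (Nat.le_of_dvd Nat.card_pos (card_dvd_of_le hTU)) fun e => hd ?_
      exact mem_subgroupOf.2 (eq_of_le_of_card_ge hTU e.ge ▸ hdU)
    have h3 : Nat.card U ≤ Nat.card ((S : Subgroup G) ⊓ centralizer ({y'} : Set G) : Subgroup G) := by
      rw [Nat.card_congr (U.equivMapOfInjective (MulAut.conj (m : G)).toMonoidHom
        (MulAut.conj (m : G)).injective).toEquiv]
      exact Nat.le_of_dvd Nat.card_pos (card_dvd_of_le hle)
    exact absurd (lt_of_lt_of_le h2 h3) (not_lt.2 h1)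

/-- The `π'`-parts of the involution centralizers generate a group of odd order, given three independent ones. -/
theorem false_of_eight (S : Sylow 2 G) {E : Subgroup G} (hE : IsKleinFour E) (hES : E ≤ (S : Subgroup G))
    (hEc : ∀ e ∈ E, ∀ s ∈ (S : Subgroup G), Commute e s) {t₀ : G} (ht₀ : orderOf t₀ = 2)
    (ht₀S : t₀ ∈ (S : Subgroup G)) (ht₀E : t₀ ∉ E) : False := by
  classical
  haveI := Fact.mk Nat.prime_two
  haveI := hE
  set W : Subgroup G := ⨆ t : {t : G // t ∈ (S : Subgroup G) ∧ orderOf t = 2}, pk π (centralizer ({(t : G)} : Set G))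
    with hW
  have hord : ∀ {t : G}, orderOf t = 2 → t ≠ 1 := fun {t} ht e => by rw [e, orderOf_one] at ht; norm_num at ht
  have hKW : ∀ {t : G}, t ∈ (S : Subgroup G) → orderOf t = 2 → pk π (centralizer ({t} : Set G)) ≤ W :=
    fun {t} h1 h2 => le_iSup (fun t : {t : G // t ∈ (S : Subgroup G) ∧ orderOf t = 2} =>
      pk π (centralizer ({(t : G)} : Set G))) ⟨t, h1, h2⟩
  set WE : Subgroup G := ⨆ e : {e : G // e ∈ E ∧ e ≠ 1}, pk π (centralizer ({(e : G)} : Set G)) with hWE
  have hEord : ∀ e ∈ E, e ≠ 1 → orderOf e = 2 := fun e he he1 => by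
    haveI : Nontrivial E := Finite.one_lt_card_iff_nontrivial.1 (by rw [IsKleinFour.card_four]; norm_num)
    rw [← orderOf_mk e he]
    exact (Monoid.exponent_eq_prime_iff Nat.prime_two).1 IsKleinFour.exponent_two _ fun e1 =>
      he1 (congrArg Subtype.val e1)
  have hEE : ∀ e ∈ E, e * e = 1 := fun e he => by
    by_cases he1 : e = 1
    · rw [he1, one_mul]
    · exact CfsgLib.Invol.invol_mul_self (hEord e he he1)
  -- one elementary abelian group of order eight through `E`
  have hA : ∀ t ∈ (S : Subgroup G), orderOf t = 2 → t ∉ E → pk π (centralizer ({t} : Set G)) ≤ WE ∧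
      Odd (Nat.card WE) := by
    intro t htS ht htE
    have htt : t * t = 1 := CfsgLib.Invol.invol_mul_self ht
    let A : Subgroup G :=
      { carrier := {x | x ∈ E ∨ t * x ∈ E}
        one_mem' := Or.inl E.one_mem
        mul_mem' := by
          rintro a b (ha | ha) (hb | hb)
          · exact Or.inl (E.mul_mem ha hb)
          · refine Or.inr ?_
            rw [← mul_assoc, ((hEc a ha t htS).symm).eq, mul_assoc]
            exact E.mul_mem ha hb
          · refine Or.inr ?_
            rw [← mul_assoc]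
            exact E.mul_mem ha hb
          · refine Or.inl ?_
            have h1 := E.mul_mem ha hb
            have e1 : t * a * t = a := by
              have hc : Commute (t * a) t := hEc _ ha t htS
              rw [hc.eq, ← mul_assoc, htt, one_mul]
            rw [← mul_assoc, e1] at h1
            exact h1
        inv_mem' := by
          rintro a (ha | ha)
          · exact Or.inl (E.inv_mem ha)
          · refine Or.inr ?_
            have hc : Commute (t * a) t := hEc _ ha t htS
            have h1 := E.inv_mem ha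
            rw [_root_.mul_inv_rev, inv_eq_of_mul_eq_one_right htt] at h1
            have h2 : Commute (a⁻¹ * t) t := hEc _ h1 t htS
            have : t * a⁻¹ = a⁻¹ * t := by
              calc t * a⁻¹ = t * (a⁻¹ * t) * t := by rw [mul_assoc t, mul_assoc a⁻¹, htt, mul_one]
                _ = a⁻¹ * t := by rw [← h2.eq, mul_assoc _ t t, htt, mul_one]
            rw [this]; exact h1 }
    have hEA : E ≤ A := fun x hx => Or.inl hx
    have htA : t ∈ A := Or.inr (by rw [htt]; exact E.one_mem)
    have hAS : A ≤ (S : Subgroup G) := by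
      rintro x (hx | hx)
      · exact hES hx
      · have := mul_mem htS (hES hx)
        rwa [← mul_assoc, htt, one_mul] at this
    have hAe : ∀ x ∈ A, ∀ y ∈ A, x * y = y * x := by
      have hx' : ∀ {x}, t * x ∈ E → Commute x t := fun {x} hx => by
        have hc : Commute (t * x) t := hEc _ hx t htS
        have h1 : x * t = t * x := by
          calc x * t = t * (t * x * t) := by rw [← mul_assoc, ← mul_assoc, htt, one_mul]
            _ = t * x := by rw [hc.eq, ← mul_assoc t t x, htt, one_mul]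
        exact h1
      rintro x (hx | hx) y hy
      · exact (hEc x hx y (hAS hy)).eq
      · have h1 : Commute (t * x) y := hEc _ hx y (hAS hy)
        have h2 : Commute t y := by
          rcases hy with hy | hy
          · exact (hEc y hy t htS).symm
          · exact (hx' hy).symm
        have h3 : x = t * (t * x) := by rw [← mul_assoc, htt, one_mul]
        rw [h3]
        exact (h2.mul_left h1).eq
    have hA2 : ∀ x ∈ A, x ^ 2 = 1 := by
      intro x hx
      rw [pow_two]
      rcases hx with hx | hx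
      · exact hEE x hx
      · have h1 := hEE _ hx
        rwa [show t * x * (t * x) = t * t * (x * x) by
          rw [mul_assoc t x, ← mul_assoc x t x, hAe x (Or.inr hx) t htA, mul_assoc t x x, mul_assoc t t],
          htt, one_mul] at h1
    have hA8 : 2 ^ 3 ≤ Nat.card A := by
      obtain ⟨m, hm⟩ := card_dvd_of_le hEA
      have hne : Nat.card E ≠ Nat.card A := fun e => htE ((eq_of_le_of_card_ge hEA e.ge).symm ▸ htA)
      have hpos : 0 < Nat.card A := Nat.card_pos
      rw [(IsKleinFour.card_four : Nat.card E = 4)] at hm hne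
      rcases m with _ | _ | m <;> omega
    have hAc : ∀ a ∈ A, A ≤ centralizer ({a} : Set G) := fun a ha x hx =>
      mem_centralizer_singleton_iff.2 (hAe x hx a ha)
    have hct : ∀ a ∈ A, a ≠ 1 → centralizer ({a} : Set G) ≠ ⊤ := fun a _ ha1 => h.centralizer_ne_top ha1
    obtain ⟨h1, h2⟩ := Cfsg.Agent.S0217.result (p := 2) A hAe hA2 hA8 (fun a => pk π (centralizer ({a} : Set G)))
      (fun a _ _ => pk_le π _)
      (fun a ha ha1 => by
        rw [← even_iff_two_dvd, Nat.not_even_iff_odd]
        exact h.odd_pk (hct a ha ha1))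
      (fun a ha _ b hb x hx => conj_mem_pk (fun y hy => mul_mem (mul_mem (hAc a ha hb) hy) (inv_mem (hAc a ha hb))) hx)
      (fun a ha ha1 => isSolvable_of_coNum h.two (h.coNum_pk (hct a ha ha1)))
      (fun a ha ha1 b hb hb1 x hx => mem_pk_of _ hx.2 ((h.mem_pk (hct a ha ha1)).1 hx.1).2)
    set WA : Subgroup G := ⨆ b : {a : G // a ∈ A ∧ a ≠ 1}, pk π (centralizer ({(b : G)} : Set G)) with hWA
    have hEW : WE ≤ WA := iSup_le fun e => le_iSup (fun b : {a : G // a ∈ A ∧ a ≠ 1} =>
      pk π (centralizer ({(b : G)} : Set G))) ⟨e, hEA e.2.1, e.2.2⟩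
    have hWodd : Odd (Nat.card WA) := by
      rw [← Nat.not_even_iff_odd, even_iff_two_dvd]; exact h1
    have hAW : A ≤ normalizer (WA : Set G) := by
      have key : ∀ a ∈ A, ∀ x ∈ WA, a * x * a⁻¹ ∈ WA := fun a ha x hx => by
        have hle : WA ≤ WA.comap (MulAut.conj a).toMonoidHom := iSup_le fun b y hy =>
          le_iSup (fun b : {a : G // a ∈ A ∧ a ≠ 1} => pk π (centralizer ({(b : G)} : Set G))) b
            (conj_mem_pk (fun z hz => mul_mem (mul_mem (hAc b b.2.1 ha) hz) (inv_mem (hAc b b.2.1 ha))) hy)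
        exact hle hx
      intro a ha
      rw [mem_normalizer_iff]
      refine fun x => ⟨key a ha x, fun hx => ?_⟩
      have := key a⁻¹ (A.inv_mem ha) _ hx
      simpa [mul_assoc] using this
    have hWAE : WA ≤ WE := by
      haveI : IsMulCommutative E := ⟨⟨mul_comm_of_exponent_two IsKleinFour.exponent_two⟩⟩
      refine CfsgLib.Coprime.le_of_centralizers_le (A := E) (fun hc => ?_) (hEA.trans hAW) ?_ fun e he he1 => ?_
      · have := hc.exponent_eq_card
        rw [IsKleinFour.exponent_two, IsKleinFour.card_four] at this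
        norm_num at this
      · rw [(IsKleinFour.card_four : Nat.card E = 4), show (4 : ℕ) = 2 ^ 2 by norm_num]
        exact Nat.Coprime.pow_left 2 (Nat.coprime_two_left.2 hWodd)
      · rw [h2 e (hEA he) he1]
        exact le_iSup (fun e : {e : G // e ∈ E ∧ e ≠ 1} => pk π (centralizer ({(e : G)} : Set G))) ⟨e, he, he1⟩
    have heq : WE = WA := le_antisymm hEW hWAE
    refine ⟨?_, heq ▸ hWodd⟩
    rw [heq]
    exact le_iSup (fun b : {a : G // a ∈ A ∧ a ≠ 1} => pk π (centralizer ({(b : G)} : Set G))) ⟨t, htA, hord ht⟩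
  have hWW : W = WE := by
    refine le_antisymm (iSup_le fun t => ?_) (iSup_le fun e => hKW (hES e.2.1) (hEord _ e.2.1 e.2.2))
    by_cases htE : (t : G) ∈ E
    · exact le_iSup (fun e : {e : G // e ∈ E ∧ e ≠ 1} => pk π (centralizer ({(e : G)} : Set G)))
        ⟨t, htE, hord t.2.2⟩
    · exact (hA t t.2.1 t.2.2 htE).1
  have hodd : Odd (Nat.card W) := hWW ▸ (hA t₀ ht₀S ht₀ ht₀E).2
  have hNW : normalizer ((S : Subgroup G) : Set G) ≤ normalizer (W : Set G) := by
    have key : ∀ n ∈ normalizer ((S : Subgroup G) : Set G), ∀ x ∈ W, n * x * n⁻¹ ∈ W := by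
      intro n hn x hx
      have hle : W ≤ W.comap (MulAut.conj n).toMonoidHom := iSup_le fun t y hy => by
        refine hKW (t := n * t * n⁻¹) ((mem_normalizer_iff.1 hn _).1 t.2.1) (CfsgLib.Invol.invol_conj t.2.2 n) ?_
        refine mem_pk_of _ ?_ (coNum_conj ((h.mem_pk (h.centralizer_ne_top (hord t.2.2))).1 hy).2)
        have hc : Commute y (t : G) := mem_centralizer_singleton_iff.1 (pk_le π _ hy)
        exact mem_centralizer_singleton_iff.2 (hc.map (MulAut.conj n)).eq
      exact hle hx
    intro n hn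
    rw [mem_normalizer_iff]
    refine fun x => ⟨key n hn x, fun hx => ?_⟩
    have := key n⁻¹ (inv_mem hn) _ hx
    simpa [mul_assoc] using this
  obtain ⟨M, hMt, hNM, hWM⟩ : ∃ M : Subgroup G, M ≠ ⊤ ∧ normalizer ((S : Subgroup G) : Set G) ≤ M ∧ W ≤ M := by
    by_cases hW1 : W = ⊥
    · refine ⟨_, h.normalizer_ne_top S.2 fun e => ?_, le_rfl, hW1 ▸ bot_le⟩
      rw [e, mem_bot] at ht₀S
      exact hord ht₀ ht₀S
    · refine ⟨_, h.ne_top_of_normalizer hW1 fun e => ?_, hNW, le_normalizer⟩
      rw [e, card_top] at hodd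
      exact Nat.not_even_iff_odd.2 hodd (even_iff_two_dvd.2 (ht₀ ▸ orderOf_dvd_natCard t₀))
  have hSM : (S : Subgroup G) ≤ M := le_normalizer.trans hNM
  refine h.no_stronglyEmbedded M ((Cfsg.Agent.S0214.result M hMt (S.subtype hSM) ?_).2 fun X hX hX1 => ?_)
  · intro e
    rw [Sylow.coe_subtype] at e
    have : (⟨t₀, hSM ht₀S⟩ : M) ∈ (S : Subgroup G).subgroupOf M := mem_subgroupOf.2 ht₀S
    rw [e, mem_bot] at this
    exact hord ht₀ (congrArg Subtype.val this)
  · rw [Sylow.coe_subtype] at hX
    have hle : X.map M.subtype ≤ (S : Subgroup G) := by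
      rintro _ ⟨x, hx, rfl⟩
      exact mem_subgroupOf.1 (hX hx)
    refine h.normalizer_le M S hNM (fun P => P ≠ ⊥) (fun P P' hP hPP' e => hP (le_bot_iff.1 (e ▸ hPP')))
      (fun P m _ hP e => hP ((map_eq_bot_iff_of_injective _ (MulAut.conj m).injective).1 e)) (fun _ hP => hP)
      (fun P hPS hP => ?_) _ (S.2.to_le hle) (map_subtype_le _)
      (fun e => hX1 ((map_eq_bot_iff_of_injective _ M.subtype_injective).1 e))
    obtain ⟨n, hn⟩ := IsPGroup.iff_card.1 (S.2.to_le hPS)
    have hn0 : n ≠ 0 := fun e => hP (Subgroup.eq_bot_of_card_eq _ (by rw [hn, e, pow_zero]))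
    obtain ⟨t, ht⟩ := exists_prime_orderOf_dvd_card' 2 (hn.symm ▸ dvd_pow_self 2 hn0 : 2 ∣ Nat.card P)
    refine le_trans ?_ ((hKW (hPS t.2) (by rw [orderOf_coe, ht])).trans hWM)
    intro x hx
    refine mem_pk_of _ ?_ ((h.mem_pk (h.normalizer_ne_top (S.2.to_le hPS) hP)).1 hx).2
    exact mem_centralizer_singleton_iff.2 (mem_centralizer_iff.1 (h.pk_normalizer_le (S.2.to_le hPS) hx) t t.2).symm

/-- A minimal counterexample has a Sylow 2-subgroup with a fused central four group of all involutions. -/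
theorem exists_four : ∃ (S : Sylow 2 G) (E : Subgroup G), Four S E := by
  classical
  haveI := Fact.mk Nat.prime_two
  obtain ⟨S⟩ : Nonempty (Sylow 2 G) := inferInstance
  have h2 : 2 ∣ Nat.card G := by
    by_contra hd
    exact h.not_solvable (CfsgLib.FT.isSolvable_of_odd G (Nat.odd_iff.2 (Nat.two_dvd_ne_zero.1 hd)))
  haveI : Nontrivial (S : Subgroup G) := by
    rw [← Finite.one_lt_card_iff_nontrivial]
    have := S.dvd_card_of_dvd_card h2
    have hp : 0 < Nat.card (S : Subgroup G) := Nat.card_pos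
    exact lt_of_lt_of_le one_lt_two (Nat.le_of_dvd hp this)
  haveI := S.2.center_nontrivial
  obtain ⟨⟨zs, hzs⟩, hz⟩ := exists_prime_orderOf_dvd_card' (G := center (S : Subgroup G)) 2 (by
    obtain ⟨n, hn⟩ := IsPGroup.iff_card.1 (S.2.to_subgroup (center (S : Subgroup G)))
    rw [hn]
    refine dvd_pow_self 2 fun e => ?_
    have : 1 < Nat.card (center (S : Subgroup G)) := Finite.one_lt_card
    rw [hn, e] at this
    norm_num at this)
  set z : G := (zs : G) with hzdef
  have hz' : orderOf z = 2 := by rw [hzdef, orderOf_coe, ← orderOf_mk zs hzs, hz]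
  have hzc : ∀ s ∈ (S : Subgroup G), Commute z s := fun s hs =>
    (congrArg Subtype.val (mem_center_iff.1 hzs ⟨s, hs⟩) : s * z = z * s).symm
  by_cases hone : ∀ y ∈ (S : Subgroup G), orderOf y = 2 → (∀ s ∈ (S : Subgroup G), Commute y s) → y = z
  · exact (h.false_of_one_central S hz' zs.2 hzc hone).elim
  push Not at hone
  obtain ⟨y, hyS, hy, hyc, hyz⟩ := hone
  have hyy := CfsgLib.Invol.invol_mul_self hy
  have hzz := CfsgLib.Invol.invol_mul_self hz'
  haveI hE := CfsgLib.Invol.isKleinFour_closure_pair hz' hy (Ne.symm hyz) (hzc y hyS)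
  set E := closure ({z, y} : Set G) with hEdef
  have hES : E ≤ (S : Subgroup G) := (closure_le _).2 (by rintro x (rfl | rfl); exacts [zs.2, hyS])
  have hEc : ∀ e ∈ E, ∀ s ∈ (S : Subgroup G), Commute e s := by
    intro e he s hs
    have hle : E ≤ centralizer ({s} : Set G) := (closure_le _).2 (by
      rintro x (rfl | rfl)
      exacts [mem_centralizer_singleton_iff.2 (hzc s hs).eq, mem_centralizer_singleton_iff.2 (hyc s hs).eq])
    exact mem_centralizer_singleton_iff.1 (hle he)
  have hinv : ∀ s ∈ (S : Subgroup G), s * s = 1 → s ∈ E := by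
    intro s hs hss
    by_contra hsE
    refine h.false_of_eight S hE hES hEc (t₀ := s) (orderOf_eq_prime (by rw [pow_two, hss]) ?_) hs hsE
    exact fun e => hsE (e ▸ E.one_mem)
  refine ⟨S, E, hE, hES, hEc, hinv, ?_⟩
  -- fusion in the normalizer of the Sylow subgroup
  have hEord : ∀ e ∈ E, e ≠ 1 → orderOf e = 2 := fun e he he1 => by
    haveI : Nontrivial E := Finite.one_lt_card_iff_nontrivial.1 (by rw [IsKleinFour.card_four]; norm_num)
    rw [← orderOf_mk e he]
    exact (Monoid.exponent_eq_prime_iff Nat.prime_two).1 IsKleinFour.exponent_two _ fun e1 =>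
      he1 (congrArg Subtype.val e1)
  have hfix : ∀ a ∈ E, a ≠ 1 → ∃ n ∈ normalizer ((S : Subgroup G) : Set G), n * a * n⁻¹ ≠ a := by
    intro a ha ha1
    by_contra! hall
    refine h.not_zcentral (hEord a ha ha1) (CfsgLib.Invol.zstar_of_weakly_closed S (hEord a ha ha1) fun g hg => ?_)
    have hgE : g * a * g⁻¹ ∈ E := hinv _ hg (by
      rw [show g * a * g⁻¹ * (g * a * g⁻¹) = g * (a * a) * g⁻¹ by group,
        CfsgLib.Invol.invol_mul_self (hEord a ha ha1)]
      group)
    have hnor : ∀ b : G, b ∈ E → (S : Subgroup G) ≤ normalizer ({b} : Set G) := fun b hb s hs =>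
      Subgroup.mem_set_normalizer_iff.2 fun x => by
        simp only [Set.mem_singleton_iff]
        constructor
        · rintro rfl; rw [← (hEc x hb s hs).eq, mul_inv_cancel_right]
        · intro e
          have h1 := congrArg (fun w => s⁻¹ * w * s) e
          simp only [mul_assoc, inv_mul_cancel_left, inv_mul_cancel, mul_one] at h1
          rw [h1, (hEc b hb s hs).eq, inv_mul_cancel_left]
    obtain ⟨c, hc, hn⟩ := CfsgLib.Fusion.exists_mem_normalizer_conj S (hnor a ha) (hnor _ hgE) g (fun x => by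
      simp only [Set.mem_singleton_iff]
      exact ⟨fun e => by rw [e], fun e => mul_left_cancel (mul_right_cancel e)⟩)
    have h1 := hall _ hn
    have h2 : c * (g * a * g⁻¹) * c⁻¹ = g * a * g⁻¹ :=
      Set.mem_singleton_iff.1 ((Subgroup.mem_set_normalizer_iff.1 hc _).1 rfl)
    rw [← h2]
    calc c * (g * a * g⁻¹) * c⁻¹ = c * g * a * (c * g)⁻¹ := by group
      _ = a := h1
  have hconjE : ∀ n ∈ normalizer ((S : Subgroup G) : Set G), ∀ a ∈ E, n * a * n⁻¹ ∈ E := fun n hn a ha =>
    hinv _ ((mem_normalizer_iff.1 hn a).1 (hES ha)) (by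
      by_cases ha1 : a = 1
      · rw [ha1]; group
      · rw [show n * a * n⁻¹ * (n * a * n⁻¹) = n * (a * a) * n⁻¹ by group,
          CfsgLib.Invol.invol_mul_self (hEord a ha ha1)]
        group)
  intro a ha b hb ha1 hb1
  by_cases hab : a = b
  · exact ⟨1, one_mem _, by rw [hab]; group⟩
  by_contra hno
  push Not at hno
  -- the third involution is then fixed
  obtain ⟨c, hc, hc1, hca, hcb⟩ : ∃ c ∈ E, c ≠ 1 ∧ c ≠ a ∧ c ≠ b := by
    by_contra! hall
    have hle : (E : Set G) ⊆ {1, a, b} := fun x hx => by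
      by_cases h1 : x = 1
      · exact Or.inl h1
      by_cases h2 : x = a
      · exact Or.inr (Or.inl h2)
      exact Or.inr (Or.inr (hall x hx h1 h2))
    have := Set.ncard_le_ncard hle
    rw [← Nat.card_coe_set_eq, show Nat.card (E : Set G) = 4 from IsKleinFour.card_four] at this
    have h3 : ({1, a, b} : Set G).ncard ≤ 3 :=
      (Set.ncard_insert_le _ _).trans (Nat.succ_le_succ ((Set.ncard_insert_le _ _).trans (by rw [Set.ncard_singleton])))
    omega
  have hlist : ∀ x ∈ E, x ≠ 1 → x = a ∨ x = b ∨ x = c := by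
    intro x hx hx1
    by_contra! hne
    have hle : ({1, a, b, c, x} : Set G) ⊆ (E : Set G) := by
      rintro y (rfl | rfl | rfl | rfl | rfl)
      exacts [E.one_mem, ha, hb, hc, hx]
    have := Set.ncard_le_ncard hle (Set.toFinite _)
    rw [← Nat.card_coe_set_eq (E : Set G), show Nat.card (E : Set G) = 4 from IsKleinFour.card_four,
      Set.ncard_insert_of_notMem (by simp [Ne.symm ha1, Ne.symm hb1, Ne.symm hc1, Ne.symm hx1]),
      Set.ncard_insert_of_notMem (by simp [hab, Ne.symm hca, Ne.symm hne.1]),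
      Set.ncard_insert_of_notMem (by simp [Ne.symm hcb, Ne.symm hne.2.1]),
      Set.ncard_pair (Ne.symm hne.2.2)] at this
    omega
  obtain ⟨n, hn, hnc⟩ := hfix c hc hc1
  have hne1 : ∀ {m x : G}, x ≠ 1 → m * x * m⁻¹ ≠ 1 := fun hx e => hx (conj_eq_one_iff.1 e)
  obtain ⟨m, hm, hma⟩ := hfix a ha ha1
  rcases hlist _ (hconjE m hm a ha) (hne1 ha1) with e | e | e
  · exact hma e
  · exact hno m hm e
  · rcases hlist _ (hconjE n hn c hc) (hne1 hc1) with e' | e' | e'
    · -- `c` goes to `a`: then some element sends `a` to `b`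
      obtain ⟨k, hk, hkb⟩ := hfix b hb hb1
      rcases hlist _ (hconjE k hk b hb) (hne1 hb1) with e'' | e'' | e''
      · exact hno k⁻¹ (inv_mem hk) (by rw [← e'']; group)
      · exact hkb e''
      · exact hno (k⁻¹ * m) (mul_mem (inv_mem hk) hm) (by
          calc k⁻¹ * m * a * (k⁻¹ * m)⁻¹ = k⁻¹ * (m * a * m⁻¹) * k := by group
            _ = b := by rw [e, ← e'']; group)
    · exact hno (n * m) (mul_mem hn hm) (by
        calc n * m * a * (n * m)⁻¹ = n * (m * a * m⁻¹) * n⁻¹ := by group
          _ = b := by rw [e, e'])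
    · exact hnc e'

end Min

end CfsgLib.PiHom
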