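import Cfsg.Agent.Lib.PiHom.Five

/-!
# Centralizers of 2-elements and their fusion in a minimal counterexample
-/

set_option autoImplicit false
set_option linter.unusedSectionVars false
set_option linter.style.haveILetI false

open Subgroup

namespace CfsgLib.PiHom

universe u

variable {π : Set ℕ} {G : Type u} [Group G] [Finite G] {S : Sylow 2 G} {E : Subgroup G}

theorem eq_one_of_odd_of_twoGroup {O P : Subgroup G} (hO : Odd (Nat.card O)) (hP : IsPGroup 2 P) {x : G}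
    (hxO : x ∈ O) (hxP : x ∈ P) : x = 1 := by
  obtain ⟨k, hk⟩ := hP ⟨x, hxP⟩
  rw [← orderOf_eq_one_iff]
  exact Nat.eq_one_of_dvd_coprimes (Nat.Coprime.pow_right k (Nat.coprime_two_right.2 hO))
    (orderOf_mk x hxO ▸ orderOf_dvd_natCard _) (orderOf_dvd_of_pow_eq_one (congrArg Subtype.val hk))

/-- An odd normal complement of `C_S(u)` in `C(u)`. -/
structure Core (S : Sylow 2 G) (u : G) (O : Subgroup G) : Prop where
  le : O ≤ centralizer ({u} : Set G)
  odd : Odd (Nat.card O)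
  normal : ∀ x ∈ centralizer ({u} : Set G), ∀ o ∈ O, x * o * x⁻¹ ∈ O
  gen : ∀ x ∈ centralizer ({u} : Set G), ∃ o ∈ O, ∃ s ∈ (S : Subgroup G), Commute s u ∧ o * s = x

namespace Core

variable {u : G} {O : Subgroup G} (hO : Core S u O)
include hO

theorem index_eq :
    (O.subgroupOf (centralizer ({u} : Set G))).index =
      Nat.card ((S : Subgroup G) ⊓ centralizer ({u} : Set G) : Subgroup G) := by
  set C := centralizer ({u} : Set G)
  haveI : (O.subgroupOf C).Normal :=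
    ⟨fun o ho g => mem_subgroupOf.2 (hO.normal g g.2 o (mem_subgroupOf.1 ho))⟩
  rw [Subgroup.index_eq_card]
  refine (Nat.card_congr (Equiv.ofBijective
    ((QuotientGroup.mk' (O.subgroupOf C)).comp (Subgroup.inclusion (inf_le_right : (S : Subgroup G) ⊓ C ≤ C)))
    ⟨fun a b hab => ?_, fun q => ?_⟩)).symm
  · rw [MonoidHom.comp_apply, MonoidHom.comp_apply, QuotientGroup.mk'_apply, QuotientGroup.mk'_apply,
      QuotientGroup.eq, mem_subgroupOf] at hab
    have h1 : (a : G)⁻¹ * b ∈ (S : Subgroup G) := mul_mem (inv_mem a.2.1) b.2.1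
    exact Subtype.ext (inv_mul_eq_one.1 (eq_one_of_odd_of_twoGroup hO.odd S.2 hab h1))
  · obtain ⟨⟨x, hx⟩, rfl⟩ := QuotientGroup.mk'_surjective (O.subgroupOf C) q
    obtain ⟨o, ho, s, hs, hsu, rfl⟩ := hO.gen x hx
    have hsC : s ∈ C := mem_centralizer_singleton_iff.2 hsu.eq
    refine ⟨⟨s, hs, hsC⟩, ?_⟩
    rw [MonoidHom.comp_apply, QuotientGroup.mk'_apply, QuotientGroup.mk'_apply, QuotientGroup.eq, mem_subgroupOf]
    show s⁻¹ * (o * s) ∈ O
    have := hO.normal s⁻¹ (inv_mem hsC) o ho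
    rwa [inv_inv, mul_assoc] at this

theorem mem_iff {x : G} (hx : Commute x u) : x ∈ O ↔ ¬ 2 ∣ orderOf x := by
  constructor
  · intro hxO hd
    exact Nat.not_even_iff_odd.2 (hO.odd.of_dvd_nat (orderOf_mk x hxO ▸ orderOf_dvd_natCard _))
      (even_iff_two_dvd.2 hd)
  · intro hd
    obtain ⟨o, ho, s, hs, hsu, rfl⟩ := hO.gen x (mem_centralizer_singleton_iff.2 hx.eq)
    set C := centralizer ({u} : Set G)
    haveI : (O.subgroupOf C).Normal :=
      ⟨fun o ho g => mem_subgroupOf.2 (hO.normal g g.2 o (mem_subgroupOf.1 ho))⟩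
    have hsC : s ∈ C := mem_centralizer_singleton_iff.2 hsu.eq
    have hq : QuotientGroup.mk' (O.subgroupOf C) ⟨o * s, mem_centralizer_singleton_iff.2 hx.eq⟩ =
        QuotientGroup.mk' (O.subgroupOf C) ⟨s, hsC⟩ := by
      rw [show (⟨o * s, mem_centralizer_singleton_iff.2 hx.eq⟩ : C) = ⟨o, hO.le ho⟩ * ⟨s, hsC⟩ from rfl, map_mul,
        QuotientGroup.mk'_apply _ (⟨o, hO.le ho⟩ : C),
        (QuotientGroup.eq_one_iff (⟨o, hO.le ho⟩ : C)).2 (mem_subgroupOf.2 ho), one_mul]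
    obtain ⟨k, hk⟩ := S.2 ⟨s, hs⟩
    have h1 : QuotientGroup.mk' (O.subgroupOf C) ⟨s, hsC⟩ = 1 := by
      rw [← orderOf_eq_one_iff]
      refine Nat.eq_one_of_dvd_coprimes (Nat.Coprime.pow_right k (Nat.coprime_two_right.2
        (Nat.odd_iff.2 (Nat.two_dvd_ne_zero.1 hd)))) ?_ ?_
      · rw [← hq]
        exact (orderOf_map_dvd _ _).trans (by rw [orderOf_mk])
      · refine (orderOf_map_dvd _ _).trans (orderOf_dvd_of_pow_eq_one ?_)
        exact Subtype.ext (congrArg Subtype.val hk :)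
    rw [QuotientGroup.mk'_apply, QuotientGroup.eq_one_iff, mem_subgroupOf] at h1
    exact mul_mem ho h1

end Core

namespace Min

variable (h : Min π G) (hF : Frame S E)
include h hF

theorem exists_core_four {a : G} (ha : a ∈ E) (ha1 : a ≠ 1) : ∃ O : Subgroup G, Core S a O := by
  haveI := Fact.mk Nat.prime_two
  set C := centralizer ({a} : Set G)
  have hCt : C ≠ ⊤ := h.centralizer_ne_top ha1
  have hSC : (S : Subgroup G) ≤ C := fun s hs => mem_centralizer_singleton_iff.2 (hF.central a ha s hs).eq.symm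
  obtain ⟨L, hLC, -, hSL, hLS, hgen⟩ := h.struct hCt hSC S.2 fun Q hQ hSQ _ => S.3 hQ hSQ
  haveI : ((S : Subgroup G).subgroupOf L).Normal :=
    (normal_subgroupOf_iff_le_normalizer hSL).2 hLS
  have hidx : ¬ 2 ∣ ((S : Subgroup G).subgroupOf L).index := fun hd =>
    (S.subtype hSL).not_dvd_index (by rw [Sylow.coe_subtype]; exact hd)
  obtain ⟨D', hD'⟩ := exists_right_complement'_of_coprime (N := (S : Subgroup G).subgroupOf L) (by
    obtain ⟨n, hn⟩ := IsPGroup.iff_card.1 S.2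
    rw [Nat.card_congr (subgroupOfEquivOfLe hSL).toEquiv, hn]
    exact Nat.Coprime.pow_left n (Nat.prime_two.coprime_iff_not_dvd.2 hidx))
  set D := D'.map L.subtype with hD
  have hDodd : Odd (Nat.card D) := by
    rw [hD, card_map_of_injective L.subtype_injective, ← hD'.symm.index_eq_card]
    exact Nat.odd_iff.2 (Nat.two_dvd_ne_zero.1 hidx)
  have hDL : D ≤ L := map_subtype_le _
  have hDS : ∀ d ∈ D, ∀ s ∈ (S : Subgroup G), Commute d s := fun d hd s hs => by
    have hdo : Odd (orderOf d) := hDodd.of_dvd_nat (orderOf_mk d hd ▸ orderOf_dvd_natCard _)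
    exact h.centralizes_sylow hF d (hLS (hDL hd)) hdo
      (hF.centralizes_four (hLS (hDL hd)) hdo ha ha1 (mem_centralizer_singleton_iff.1 (hLC (hDL hd)))) s hs
  set K := pk π C
  have hDK : D ≤ normalizer (K : Set G) := fun d hd => by
    rw [mem_normalizer_iff]
    have key : ∀ g ∈ C, ∀ k ∈ K, g * k * g⁻¹ ∈ K := fun g hg k hk =>
      conj_mem_pk (fun z hz => mul_mem (mul_mem hg hz) (inv_mem hg)) hk
    refine fun k => ⟨key d (hLC (hDL hd)) k, fun hk => ?_⟩
    have := key d⁻¹ (inv_mem (hLC (hDL hd))) _ hk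
    simpa [mul_assoc] using this
  have hmem : ∀ {x : G}, x ∈ K ⊔ D ↔ ∃ k ∈ K, ∃ d ∈ D, k * d = x := fun {x} => by
    rw [← SetLike.mem_coe, coe_mul_of_right_le_normalizer_left _ _ hDK]
    exact Set.mem_mul
  refine ⟨K ⊔ D, sup_le (pk_le π C) (hDL.trans hLC), ?_, ?_, ?_⟩
  · refine ((h.odd_pk hCt).mul hDodd).of_dvd_nat (card_dvd_mul_card le_sup_left ?_ le_sup_right fun x hx => hmem.1 hx)
    intro x hx k hk
    refine conj_mem_pk (fun z hz => ?_) hk
    have hxC : x ∈ C := sup_le (pk_le π C) (hDL.trans hLC) hx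
    exact mul_mem (mul_mem hxC hz) (inv_mem hxC)
  · intro x hx o ho
    obtain ⟨k, hk, l, hl, rfl⟩ := hgen x hx
    obtain ⟨⟨⟨s, hs⟩, ⟨d, hd⟩⟩, e⟩ := hD'.2 ⟨l, hl⟩
    have e' : (s : G) * (d : G) = l := congrArg Subtype.val e
    obtain ⟨k', hk', d', hd', rfl⟩ := hmem.1 ho
    rw [show k * l * (k' * d') * (k * l)⁻¹ = k * l * k' * (k * l)⁻¹ * (k * (l * d' * l⁻¹) * k⁻¹) by group]
    refine mul_mem (mem_sup_left (conj_mem_pk (fun z hz => mul_mem (mul_mem hx hz) (inv_mem hx)) hk')) ?_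
    refine mul_mem (mul_mem (mem_sup_left hk) (mem_sup_right ?_)) (inv_mem (mem_sup_left hk))
    have hdd : (d : G) * d' * (d : G)⁻¹ ∈ D := mul_mem (mul_mem ⟨d, hd, rfl⟩ hd') (inv_mem ⟨d, hd, rfl⟩)
    rw [← e', show (s : G) * d * d' * ((s : G) * d)⁻¹ = s * (d * d' * (d : G)⁻¹) * (s : G)⁻¹ by group,
      ← (hDS _ hdd _ (mem_subgroupOf.1 hs)).eq, mul_inv_cancel_right]
    exact hdd
  · intro x hx
    obtain ⟨k, hk, l, hl, rfl⟩ := hgen x hx
    obtain ⟨⟨⟨s, hs⟩, ⟨d, hd⟩⟩, e⟩ := hD'.2 ⟨l, hl⟩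
    have e' : (s : G) * (d : G) = l := congrArg Subtype.val e
    refine ⟨k * d, mul_mem (mem_sup_left hk) (mem_sup_right ⟨d, hd, rfl⟩), s, mem_subgroupOf.1 hs,
      (hF.central a ha _ (mem_subgroupOf.1 hs)).symm, ?_⟩
    rw [mul_assoc, (show (d : G) * (s : G) = (s : G) * d from (hDS _ ⟨d, hd, rfl⟩ _ (mem_subgroupOf.1 hs)).eq), e']

theorem exists_core {u : G} (hu : u ∈ (S : Subgroup G)) (hu1 : u ≠ 1) : ∃ O : Subgroup G, Core S u O := by
  by_cases huE : u ∈ E
  · exact h.exists_core_four hF huE hu1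
  obtain ⟨O, hO⟩ := h.exists_core_four hF (hF.sq u hu) (hF.sq_ne_one hu huE)
  have hle : centralizer ({u} : Set G) ≤ centralizer ({u * u} : Set G) := fun x hx =>
    mem_centralizer_singleton_iff.2 ((show Commute x u from mem_centralizer_singleton_iff.1 hx).mul_right
      (mem_centralizer_singleton_iff.1 hx)).eq
  refine ⟨O ⊓ centralizer ({u} : Set G), inf_le_right, hO.odd.of_dvd_nat (card_dvd_of_le inf_le_left),
    fun x hx o ho => mem_inf.2 ⟨hO.normal x (hle hx) o (mem_inf.1 ho).1, mul_mem (mul_mem hx (mem_inf.1 ho).2) (inv_mem hx)⟩, fun x hx => ?_⟩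
  obtain ⟨o, ho, s, hs, hsa, rfl⟩ := hO.gen x (hle hx)
  have hos : Commute (o * s) u := mem_centralizer_singleton_iff.1 hx
  have huC : u ∈ centralizer ({u * u} : Set G) := mem_centralizer_singleton_iff.2 (mul_assoc u u u).symm
  have hsu : Commute s u := by
    have h1 : s * u * s⁻¹ * u⁻¹ ∈ O := by
      have e : s * u * s⁻¹ * u⁻¹ = o⁻¹ * (u * o * u⁻¹) := by
        calc s * u * s⁻¹ * u⁻¹ = o⁻¹ * (o * s * u) * s⁻¹ * u⁻¹ := by group
          _ = o⁻¹ * (u * (o * s)) * s⁻¹ * u⁻¹ := by rw [hos.eq]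
          _ = o⁻¹ * (u * o * u⁻¹) := by group
      rw [e]
      exact mul_mem (inv_mem ho) (hO.normal u huC o ho)
    exact mul_inv_eq_iff_eq_mul.1 (mul_inv_eq_one.1 (eq_one_of_odd_of_twoGroup hO.odd S.2 h1
      (mul_mem (mul_mem (mul_mem hs hu) (inv_mem hs)) (inv_mem hu))))
  refine ⟨o, ⟨ho, mem_centralizer_singleton_iff.2 ?_⟩, s, hs, hsu, rfl⟩
  have := hos.mul_left (hsu.inv_left)
  rw [mul_inv_cancel_right] at this
  exact this.eq

/-- Elements of `S` conjugate in the centralizer of an involution of `E` are conjugate in `S`. -/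
theorem conj_in_sylow {a : G} (ha : a ∈ E) (ha1 : a ≠ 1) {g y z : G} (hg : Commute g a)
    (hy : y ∈ (S : Subgroup G)) (hz : z ∈ (S : Subgroup G)) (hgy : g * y * g⁻¹ = z) :
    ∃ s ∈ (S : Subgroup G), s * y * s⁻¹ = z := by
  obtain ⟨O, hO⟩ := h.exists_core_four hF ha ha1
  obtain ⟨o, ho, s, hs, -, rfl⟩ := hO.gen g (mem_centralizer_singleton_iff.2 hg.eq)
  set y' := s * y * s⁻¹ with hy'
  have hy'S : y' ∈ (S : Subgroup G) := mul_mem (mul_mem hs hy) (inv_mem hs)
  have h1 : z * y'⁻¹ ∈ O := by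
    have e : z * y'⁻¹ = o * (y' * o⁻¹ * y'⁻¹) := by rw [← hgy, hy']; group
    rw [e]
    exact mul_mem ho (hO.normal y' (mem_centralizer_singleton_iff.2 (hF.central a ha y' hy'S).eq.symm) _
      (inv_mem ho))
  exact ⟨s, hs, (mul_inv_eq_one.1 (eq_one_of_odd_of_twoGroup hO.odd S.2 h1 (mul_mem hz (inv_mem hy'S)))).symm⟩

/-- No involution inverts an element of order four of `S`. -/
theorem not_inverted {y : G} (hy : y ∈ (S : Subgroup G)) (hyE : y ∉ E) {t : G} (ht : t * t = 1) :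
    t * y * t⁻¹ ≠ y⁻¹ := by
  intro e
  have ha := hF.sq y hy
  have hyy : y * y * (y * y) = 1 := hF.mul_self ha
  have hta : Commute t (y * y) := by
    have : t * (y * y) * t⁻¹ = y * y := by
      rw [show t * (y * y) * t⁻¹ = t * y * t⁻¹ * (t * y * t⁻¹) by group, e, ← _root_.mul_inv_rev,
        inv_eq_of_mul_eq_one_right hyy]
    exact mul_inv_eq_iff_eq_mul.1 this
  obtain ⟨O, hO⟩ := h.exists_core_four hF ha (hF.sq_ne_one hy hyE)
  obtain ⟨o, ho, s, hs, -, rfl⟩ := hO.gen t (mem_centralizer_singleton_iff.2 hta.eq)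
  have hsC : ∀ {x : G}, x ∈ (S : Subgroup G) → x ∈ centralizer ({y * y} : Set G) := fun hx =>
    mem_centralizer_singleton_iff.2 (hF.central _ ha _ hx).eq.symm
  have hss : s * s = 1 := by
    have h1 : s * s ∈ O := by
      have e' : s * s = s * o⁻¹ * s⁻¹ * o⁻¹ * (o * s * (o * s)) := by group
      rw [e', ht, mul_one]
      exact mul_mem (hO.normal s (hsC hs) _ (inv_mem ho)) (inv_mem ho)
    exact eq_one_of_odd_of_twoGroup hO.odd S.2 h1 (mul_mem hs hs)
  have hsy : Commute s y := (hF.central s (hF.invol s hs hss) y hy)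
  have h2 : y * y ∈ O := by
    have e1 : o * s * y * (o * s)⁻¹ = o * y * o⁻¹ := by
      rw [show o * s * y * (o * s)⁻¹ = o * (s * y * s⁻¹) * o⁻¹ by group, hsy.eq, mul_inv_cancel_right]
    rw [e1] at e
    have e2 : (y * y)⁻¹ = o * (y * o⁻¹ * y⁻¹) := by
      calc (y * y)⁻¹ = y⁻¹ * y⁻¹ := by group
        _ = o * y * o⁻¹ * y⁻¹ := by rw [e]
        _ = o * (y * o⁻¹ * y⁻¹) := by group
    rw [← inv_mem_iff, e2]
    exact mul_mem ho (hO.normal _ (hsC hy) _ (inv_mem ho))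
  exact hF.sq_ne_one hy hyE (eq_one_of_odd_of_twoGroup hO.odd S.2 h2 (hF.le ha))

end Min

end CfsgLib.PiHom
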