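import Cfsg.Agent.Lib.PiHom.Moments
import Cfsg.Agent.Lib.PiHom.Decomp
import Cfsg.Agent.Lib.Block.InvolutionColumn
import Cfsg.Agent.Lib.Block.KleinFour
import Cfsg.Agent.Lib.Char.SignedIrr

/-!
# The values of the characters in the five decompositions are contradictory
-/

set_option autoImplicit false
set_option linter.unusedSectionVars false
set_option linter.style.haveILetI false

open Finset
open scoped ComplexConjugate

namespace CfsgLib.PiHom

open Cfsg CfsgLib CfsgLib.Block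

universe u

variable {π : Set ℕ} {G : Type u} [Group G] [Fintype G] {S : Sylow 2 G} {E : Subgroup G}

theorem qfun_smul (i : G) (c : ℂ) (v : G → ℂ) :
    Char.Signed.qfun i (c • v) = c * Char.Signed.qfun i v := by
  have := Fintype.ofFinite (IrrCharacter G)
  simp only [Char.Signed.qfun, finsum_eq_sum_of_fintype, Finset.mul_sum]
  exact Finset.sum_congr rfl fun χ _ => by rw [Char.classInner_smul_left]; ring

theorem normSq_two {p q : ℂ} {u : ℂ} (hu : p + q = u) (hb : 1 + Complex.normSq p + Complex.normSq q +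
    4 * Complex.normSq (3 - u) + Complex.normSq (-1 - u) ≤ 16) : p = 1 ∧ q = 1 := by
  subst hu
  simp only [Complex.normSq_apply, Complex.add_re, Complex.add_im, Complex.sub_re, Complex.sub_im,
    Complex.neg_re, Complex.neg_im, Complex.one_re, Complex.one_im, Complex.re_ofNat, Complex.im_ofNat] at hb
  have h1 : (p.re + q.re - 2) ^ 2 * 5.5 + (p.im + q.im) ^ 2 * 5.5 + (p.re - q.re) ^ 2 * 0.5 +
      (p.im - q.im) ^ 2 * 0.5 ≤ 0 := by
    norm_num
    nlinarith
  have a1 := sq_nonneg (p.re + q.re - 2)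
  have a2 := sq_nonneg (p.im + q.im)
  have a3 := sq_nonneg (p.re - q.re)
  have a4 := sq_nonneg (p.im - q.im)
  have e1 : p.re + q.re - 2 = 0 := by nlinarith
  have e2 : p.im + q.im = 0 := by nlinarith
  have e3 : p.re - q.re = 0 := by nlinarith
  have e4 : p.im - q.im = 0 := by nlinarith
  constructor <;> apply Complex.ext <;> simp only [Complex.one_re, Complex.one_im] <;> linarith

theorem sum_hom_eq_zero {T : Type*} [Group T] [Fintype T] (lam : T →* ℂˣ) (s : Finset T) {t : T}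
    (ht : lam t ≠ 1) (hs : ∀ x, x ∈ s → t * x ∈ s) : ∑ x ∈ s, conj (lam x : ℂ) = 0 := by
  classical
  have himg : s.image (fun x => t * x) = s :=
    Finset.eq_of_subset_of_card_le (Finset.image_subset_iff.2 hs)
      (by rw [Finset.card_image_of_injective _ (mul_right_injective t)])
  have h1 : ∑ x ∈ s, conj (lam x : ℂ) = conj (lam t : ℂ) * ∑ x ∈ s, conj (lam x : ℂ) := by
    conv_lhs => rw [← himg, Finset.sum_image fun a _ b _ h => mul_left_cancel h]
    rw [Finset.mul_sum]
    exact Finset.sum_congr rfl fun x _ => by rw [map_mul, Units.val_mul, map_mul]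
  have h2 : (1 - conj (lam t : ℂ)) * ∑ x ∈ s, conj (lam x : ℂ) = 0 := by
    rw [sub_mul, one_mul, ← h1, sub_self]
  refine (mul_eq_zero.1 h2).resolve_left fun h0 => ht (Units.ext ?_)
  rw [sub_eq_zero] at h0
  have := congrArg conj h0
  rw [map_one, Complex.conj_conj] at this
  rw [Units.val_one, ← this]

/-- Congruences for a signed character equal to `1` or to `1 - 4·[line]` outside `E` on `S`. -/
theorem dvd_of_values {H : Subgroup G} [Fintype H] {θ : H →* ℂˣ} {v : G → ℂ} {χ : IrrCharacter G} {ε : ℤ}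
    (hv : ∀ g, v g = (ε : ℂ) * (χ : G → ℂ) g) {n : ℕ} (hn : Nat.card H = n) {z : ℤ}
    (hz : ∑ t : H, v t * conj (θ t : ℂ) = z) : (n : ℤ) ∣ z := by
  haveI := Fintype.ofFinite (IrrCharacter H)
  obtain ⟨m, hm⟩ := Char.classInner_isCharacter (Char.isCharacter_comp (Char.isCharacter_irr χ) H.subtype)
    (Char.isCharacter_of_isIrr (Char.isIrrCharacter_lin θ))
  refine ⟨ε * m, ?_⟩
  have h1 : ((n : ℂ)) * ((ε : ℂ) * m) = z := by
    rw [← hz, ← hm, classInner, ← hn, mul_left_comm (ε : ℂ), mul_inv_cancel_left₀ Char.card_ne_zero', Finset.mul_sum]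
    exact Finset.sum_congr rfl fun t _ => by rw [hv]; simp [mul_assoc]
  exact_mod_cast h1.symm

namespace Frame

variable (hF : Frame S E)
include hF

theorem exists_hom {T : Subgroup G} (hT : ∀ a ∈ T, ∀ b ∈ T, a * b = b * a) {e : G} (he : e ∈ T) (he1 : e ≠ 1) :
    ∃ θ : T →* ℂˣ, θ ⟨e, he⟩ ≠ 1 := by
  classical
  haveI := Fintype.ofFinite (IrrCharacter T)
  by_contra! hall
  have hdeg : ∀ χ : IrrCharacter T, (χ : T → ℂ) 1 = 1 :=
    Char.degree_one_of_comm fun a b => Subtype.ext (hT a a.2 b b.2)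
  have hval : ∀ χ : IrrCharacter T, (χ : T → ℂ) ⟨e, he⟩ = 1 := fun χ => by
    obtain ⟨θ, hθ⟩ := Char.linearCharEquiv.surjective ⟨χ, hdeg χ⟩
    rw [← congrFun (congrArg (fun z => ((z.1 : IrrCharacter T) : T → ℂ)) hθ) ⟨e, he⟩]
    show ((θ ⟨e, he⟩ : ℂˣ) : ℂ) = 1
    rw [hall θ, Units.val_one]
  have h1 := Char.sum_irr_mul_conj (G := T) 1 ⟨e, he⟩
  rw [if_neg (fun hc => he1 (congrArg Subtype.val (isConj_one_right.1 hc)))] at h1
  simp only [hdeg, hval, map_one, mul_one, Finset.sum_const, Finset.card_univ, nsmul_eq_mul,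
    Nat.cast_eq_zero] at h1
  haveI : Nonempty (IrrCharacter T) := ⟨oneChar T⟩
  exact Fintype.card_ne_zero h1

end Frame

namespace Min

variable (h : Min π G) (hF : Frame S E)
include h hF

theorem signed_ne_one {χ : IrrCharacter G} (hχ : χ ≠ oneChar G) {ε : ℤ} (hε : ε = 1 ∨ ε = -1) {p : ℤ}
    (hp : (ε : ℂ) * (χ : G → ℂ) 1 = p) : p ≠ 1 := by
  intro e
  subst e
  obtain ⟨d, hd0, hd⟩ := Char.isIrrCharacter_degree χ.2
  rw [hd] at hp
  have h1 : ε * (d : ℤ) = 1 := by exact_mod_cast hp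
  have hd1 : d = 1 := by rcases hε with rfl | rfl <;> omega
  obtain ⟨θ, hθ⟩ := Char.linearCharEquiv.surjective ⟨χ, by rw [hd, hd1, Nat.cast_one]⟩
  refine hχ (Subtype.ext (funext fun g => ?_))
  have hker : g ∈ θ.ker := (Abelianization.commutator_subset_ker θ) (h.commutator_eq_top ▸ Subgroup.mem_top g)
  rw [← congrFun (congrArg (fun z => ((z.1 : IrrCharacter G) : G → ℂ)) hθ) g]
  show ((θ g : ℂˣ) : ℂ) = 1
  rw [MonoidHom.mem_ker.1 hker, Units.val_one]

/-- No group of Suzuki type survives. -/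
theorem false_of_frame : False := by
  classical
  haveI := Fact.mk Nat.prime_two
  haveI := hF.klein
  obtain ⟨M, hM⟩ := exists_pModular Nat.prime_two
  haveI := hM.2.1
  haveI := Fintype.ofFinite (IrrCharacter G)
  obtain ⟨y, hy, hyinj, hycov⟩ := h.exists_lines hF
  set F : Fin 5 → G → ℂ := fun j g => lineFun S E (y j) (pPt hM g) with hFdef
  obtain ⟨a, b, x, ea, eb, d, hea, heb, hd, ha1, hb1, hx1, hab, hxa, hxb, hxinj, hdec⟩ :=
    exists_decomposition F (fun j => h.isGeneralizedCharacter_lineFun hF hM (hy j).1 (hy j).2)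
      (fun j => h.classInner_lineFun_one hF hM (hy j).1 (hy j).2)
      (fun j => by
        rw [hFdef, h.classInner_lineFun hF hM (hy j).1 (hy j).2 (hy j).1 (hy j).2, if_pos (Or.inl rfl)]
        norm_num)
      (fun j k hjk => by
        rw [hFdef, h.classInner_lineFun hF hM (hy j).1 (hy j).2 (hy k).1 (hy k).2, if_neg]
        · norm_num
        · rintro (e | e)
          · exact hjk (hyinj j k (e ▸ Commute.refl _))
          · exact hjk (hyinj j k e))
  set A : G → ℂ := fun g => (ea : ℂ) * (a : G → ℂ) g with hA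
  set B : G → ℂ := fun g => (eb : ℂ) * (b : G → ℂ) g with hB
  set X : Fin 5 → G → ℂ := fun j g => (d j : ℂ) * (x j : G → ℂ) g with hX
  have hdec' : ∀ j g, lineFun S E (y j) (pPt hM g) = 1 + A g + B g + X j g := hdec
  -- the elements of `S` are their own 2-parts
  have h2pow : ∀ g ∈ (S : Subgroup G), ∃ k, orderOf g = 2 ^ k := fun g hg => by
    obtain ⟨k, hk⟩ := S.2 ⟨g, hg⟩
    obtain ⟨i, -, hi⟩ := (Nat.dvd_prime_pow Nat.prime_two).1
      (orderOf_dvd_of_pow_eq_one (congrArg Subtype.val hk : g ^ 2 ^ k = 1))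
    exact ⟨i, hi⟩
  have hF0 : ∀ j, ∀ e ∈ E, 1 + A e + B e + X j e = 0 := fun j e he => by
    rw [← hdec', pPt_of_twoPow hM (h2pow e (hF.le he)), lineFun_four hF _ he]
  -- membership in the principal block
  have hB0 : ∀ χ : IrrCharacter G, (χ = a ∨ χ = b ∨ ∃ j, χ = x j) → χ ∈ principalBlock M G := by
    intro χ hχ
    obtain ⟨j, hj⟩ : ∃ j, χ = a ∨ χ = b ∨ χ = x j := by
      rcases hχ with e | e | ⟨j, e⟩
      exacts [⟨0, Or.inl e⟩, ⟨0, Or.inr (Or.inl e)⟩, ⟨j, Or.inr (Or.inr e)⟩]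
    by_contra hn
    have h0 := classInner_eq_zero_of_section hM (isClassFunction_lineFun S E (y j)) hn
    have hFj : (fun g => lineFun S E (y j) (pPt hM g)) = (oneChar G : G → ℂ) + (ea : ℂ) • (a : G → ℂ) +
        (eb : ℂ) • (b : G → ℂ) + (d j : ℂ) • (x j : G → ℂ) := funext fun g => by
      rw [hdec']; simp [hA, hB, hX, oneChar]
    rw [hFj] at h0
    simp only [Char.classInner_add_left, Char.classInner_smul_left] at h0
    rcases hj with rfl | rfl | rfl
    · rw [Char.classInner_irr_ne ha1.symm, Char.classInner_irr_self, Char.classInner_irr_ne hab.symm,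
        Char.classInner_irr_ne (hxa j)] at h0
      rcases hea with e | e <;> simp [e] at h0
    · rw [Char.classInner_irr_ne hb1.symm, Char.classInner_irr_self, Char.classInner_irr_ne hab,
        Char.classInner_irr_ne (hxb j)] at h0
      rcases heb with e | e <;> simp [e] at h0
    · rw [Char.classInner_irr_ne (hx1 j).symm, Char.classInner_irr_self, Char.classInner_irr_ne (hxa j).symm,
        Char.classInner_irr_ne (hxb j).symm] at h0
      rcases hd j with e | e <;> simp [e] at h0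
  have hone : oneChar G ∈ principalBlock M G := one_mem_principalBlock
  have hcol : ∀ (g : G), g ∈ (S : Subgroup G) → g ≠ 1 → 1 + Complex.normSq (A g) + Complex.normSq (B g) +
      ∑ j, Complex.normSq (X j g) ≤ (Nat.card ((S : Subgroup G) ⊓ Subgroup.centralizer ({g} : Set G) : Subgroup G) : ℝ) := by
    intro g hg hg1
    obtain ⟨O, hO⟩ := h.exists_core hF hg hg1
    have h1 := sum_principal_le hM (h2pow g hg) hO.odd hO.le hO.normal
      (insert (oneChar G) (insert a (insert b (Finset.univ.image x)))) fun χ hχ => by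
        simp only [Finset.mem_insert, Finset.mem_image, Finset.mem_univ, true_and] at hχ
        rcases hχ with rfl | rfl | rfl | ⟨j, rfl⟩
        exacts [hone, hB0 _ (Or.inl rfl), hB0 _ (Or.inr (Or.inl rfl)), hB0 _ (Or.inr (Or.inr ⟨j, rfl⟩))]
    rw [Finset.sum_insert (by simpa [ha1.symm, hb1.symm] using hx1), Finset.sum_insert (by simpa [hab] using hxa),
      Finset.sum_insert (by simpa using hxb), Finset.sum_image fun i _ j _ e => hxinj e, hO.index_eq] at h1
    have hsq : ∀ {e : ℤ}, (e = 1 ∨ e = -1) → ∀ w : ℂ, Complex.normSq ((e : ℂ) * w) = Complex.normSq w :=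
      fun {e} he w => by rcases he with rfl | rfl <;> simp
    simp only [hA, hB, hX, hsq hea, hsq heb, fun j => hsq (hd j)]
    simpa [oneChar, add_assoc] using h1
  -- the column at an element of order four
  have hout : ∀ z, z ∈ (S : Subgroup G) → z ∉ E →
      A z = 1 ∧ B z = 1 ∧ ∀ j, X j z = if Commute z (y j) then -3 else 1 := by
    intro z hz hzE
    have hX' : ∀ j, X j z = (if Commute z (y j) then -1 else 3) - (A z + B z) := fun j => by
      have h1 := hdec' j z
      rw [pPt_of_twoPow hM (h2pow z hz), h.lineFun_outer hF hz hzE (hy j).1] at h1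
      split_ifs at h1 ⊢ <;> linear_combination -h1
    obtain ⟨k, hk⟩ := hycov z hz hzE
    have huniq : ∀ j, Commute z (y j) → j = k := fun j hj =>
      hyinj j k (hF.abel z hz hzE _ (hy j).1 _ (hy k).1 hj.symm hk.symm)
    have h16 := hcol z hz (fun e => hzE (e ▸ E.one_mem))
    rw [hF.line z hz hzE, ← Finset.add_sum_erase _ _ (Finset.mem_univ k),
      Finset.sum_congr (s₁ := Finset.univ.erase k) rfl (g := fun _ => Complex.normSq (3 - (A z + B z))) fun j hj => by
        rw [hX', if_neg fun hc => Finset.ne_of_mem_erase hj (huniq j hc)],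
      hX' k, if_pos hk, Finset.sum_const, Finset.card_erase_of_mem (Finset.mem_univ k)] at h16
    obtain ⟨e1, e2⟩ := normSq_two rfl (p := A z) (q := B z) (by
      simp only [Finset.card_univ, Fintype.card_fin, nsmul_eq_mul] at h16
      push_cast at h16
      linarith)
    refine ⟨e1, e2, fun j => ?_⟩
    rw [hX', e1, e2]
    split_ifs <;> norm_num
  -- the column at an involution
  obtain ⟨a0, ha0, ha01⟩ := hF.exists_ne_one
  have hconjE : ∀ e ∈ E, e ≠ 1 → IsConj a0 e := fun e he he1 => by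
    obtain ⟨n, -, hn⟩ := hF.trans a0 ha0 e he ha01 he1
    exact isConj_iff.2 ⟨n, hn⟩
  have hint : ∀ (χ : IrrCharacter G) (ε : ℤ), ∃ p q : ℤ, (ε : ℂ) * (χ : G → ℂ) 1 = p ∧
      (ε : ℂ) * (χ : G → ℂ) a0 = q ∧ ∀ e ∈ E, e ≠ 1 → (ε : ℂ) * (χ : G → ℂ) e = q := fun χ ε => by
    obtain ⟨n, hn, -⟩ := exists_int_at_involution χ (v := a0) (by rw [pow_two, hF.mul_self ha0])
    obtain ⟨dd, -, hdd⟩ := Char.isIrrCharacter_degree χ.2
    refine ⟨ε * dd, ε * n, by rw [hdd]; push_cast; rfl, by rw [hn]; push_cast; rfl, fun e he he1 => ?_⟩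
    rw [← Char.classFun_isConj (Char.isClassFunction_irr χ) (hconjE e he he1), hn]
    push_cast; rfl
  obtain ⟨pA, qA, hpA, hqA, hqA'⟩ := hint a ea
  obtain ⟨pB, qB, hpB, hqB, hqB'⟩ := hint b eb
  obtain ⟨pX, qX, hpX, hqX, hqX'⟩ := hint (x 0) (d 0)
  have hAa : A a0 = qA := hqA
  have hBa : B a0 = qB := hqB
  have hXa : X 0 a0 = qX := hqX
  have hsum : 1 + qA + qB + qX = 0 := by
    have h1 := hF0 0 a0 ha0
    rw [hAa, hBa, hXa] at h1
    exact_mod_cast h1
  have hXall : ∀ j, X j a0 = qX := fun j => by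
    linear_combination hF0 j a0 ha0 - hF0 0 a0 ha0 + hXa
  have hsq : qA ^ 2 + qB ^ 2 + 5 * qX ^ 2 ≤ 63 := by
    have h1 := hcol a0 (hF.le ha0) ha01
    have h64 : (Nat.card ((S : Subgroup G) ⊓ Subgroup.centralizer ({a0} : Set G) : Subgroup G) : ℝ) ≤ 64 := by
      have := Nat.le_of_dvd Nat.card_pos (Subgroup.card_dvd_of_le
        (inf_le_left : (S : Subgroup G) ⊓ Subgroup.centralizer ({a0} : Set G) ≤ S))
      rw [hF.card] at this
      exact_mod_cast this
    simp only [hAa, hBa, hXall, Finset.sum_const, Finset.card_univ, Fintype.card_fin, nsmul_eq_mul,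
      ← Complex.ofReal_intCast, Complex.normSq_ofReal] at h1
    have h2 : ((qA ^ 2 + qB ^ 2 + 5 * qX ^ 2 : ℤ) : ℝ) ≤ ((63 : ℤ) : ℝ) := by
      push_cast at h1 ⊢; nlinarith
    exact_mod_cast h2
  -- congruences
  have hsplitS : ∀ (v : G → ℂ) (p q : ℤ), v 1 = p → (∀ e ∈ E, e ≠ 1 → v e = q) →
      ∑ t : (S : Subgroup G), v t = (p + 3 * q : ℤ) + ∑ z ∈ outer S E, v z := by
    intro v p q hp hq
    rw [show ∑ t : (S : Subgroup G), v t = ∑ g ∈ Finset.univ.filter (· ∈ (S : Subgroup G)), v g from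
      (Finset.sum_subtype _ (by simp) v).symm,
      ← Finset.sum_sdiff (s₁ := Finset.univ.filter (· ∈ E)) (fun z hz => by
        simp only [Finset.mem_filter, Finset.mem_univ, true_and] at hz ⊢
        exact hF.le hz), add_comm]
    congr 1
    · rw [← Finset.add_sum_erase _ v (Finset.mem_filter.2 ⟨Finset.mem_univ _, E.one_mem⟩ : (1 : G) ∈ _), hp,
        Finset.sum_congr rfl fun e he => hq e (Finset.mem_filter.1 (Finset.mem_of_mem_erase he)).2
          (Finset.ne_of_mem_erase he), Finset.sum_const, Finset.card_erase_of_mem (by simp [E.one_mem]),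
        ← Fintype.card_subtype, ← Nat.card_eq_fintype_card, (IsKleinFour.card_four : Nat.card E = 4)]
      push_cast
      ring
    · refine Finset.sum_congr ?_ fun _ _ => rfl
      ext z; simp [mem_outer]
  have hS1 : ∀ (χ : IrrCharacter G) (ε : ℤ) (v : G → ℂ), (∀ g, v g = (ε : ℂ) * (χ : G → ℂ) g) →
      ∀ z : ℤ, ∑ t : (S : Subgroup G), v t = z → (64 : ℤ) ∣ z := fun χ ε v hv z hz => by
    refine dvd_of_values (θ := (1 : (S : Subgroup G) →* ℂˣ)) hv hF.card ?_
    simpa using hz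
  have hA64 : (64 : ℤ) ∣ pA + 3 * qA + 60 := hS1 a ea A (fun g => rfl) _ (by
    rw [hsplitS A pA qA hpA hqA', Finset.sum_congr rfl fun z hz => (hout z (mem_outer.1 hz).1 (mem_outer.1 hz).2).1,
      Finset.sum_const, h.card_outer hF]
    norm_num)
  have hB64 : (64 : ℤ) ∣ pB + 3 * qB + 60 := hS1 b eb B (fun g => rfl) _ (by
    rw [hsplitS B pB qB hpB hqB', Finset.sum_congr rfl fun z hz => (hout z (mem_outer.1 hz).1 (mem_outer.1 hz).2).2.1,
      Finset.sum_const, h.card_outer hF]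
    norm_num)
  have hX64 : (64 : ℤ) ∣ pX + 3 * qX + 12 := hS1 (x 0) (d 0) (X 0) (fun g => rfl) _ (by
    rw [hsplitS (X 0) pX qX hpX hqX',
      Finset.sum_congr rfl fun z hz => (hout z (mem_outer.1 hz).1 (mem_outer.1 hz).2).2.2 0,
      Finset.sum_ite, Finset.sum_const, Finset.sum_const, h.card_outer_line hF (hy 0).1 (hy 0).2,
      h.card_outer_off hF (hy 0).1 (hy 0).2]
    norm_num)
  set T : Subgroup G := (S : Subgroup G) ⊓ Subgroup.centralizer ({y 0} : Set G) with hT
  have hT' : ∀ {t : G}, t ∈ T → t ∈ (S : Subgroup G) ∧ Commute t (y 0) := fun ht =>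
    ⟨ht.1, Subgroup.mem_centralizer_singleton_iff.1 ht.2⟩
  have hET : E ≤ T := fun e he =>
    ⟨hF.le he, Subgroup.mem_centralizer_singleton_iff.2 (hF.central e he _ (hy 0).1).eq⟩
  obtain ⟨θ, hθ⟩ := hF.exists_hom (T := T) (fun s hs t ht => (hF.abel _ (hy 0).1 (hy 0).2 s (hT' hs).1 t (hT' ht).1
    (hT' hs).2 (hT' ht).2).eq) (hET ha0) ha01
  have h16 : ∀ (χ : IrrCharacter G) (ε : ℤ) (v : G → ℂ) (p q c : ℤ), (∀ g, v g = (ε : ℂ) * (χ : G → ℂ) g) →
      v 1 = p → (∀ e ∈ E, e ≠ 1 → v e = q) → (∀ t ∈ T, t ∉ E → v t = c) → (16 : ℤ) ∣ p - q := by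
    intro χ ε v p q c hv hp hq hc
    refine dvd_of_values (H := T) (θ := θ) hv (hF.line _ (hy 0).1 (hy 0).2) ?_
    have hpt : ∀ t : T, v t * conj (θ t : ℂ) = (c : ℂ) * conj (θ t : ℂ) +
        ((q : ℂ) - c) * (if (t : G) ∈ E then conj (θ t : ℂ) else 0) +
        ((p : ℂ) - q) * (if t = 1 then 1 else 0) := fun t => by
      by_cases ht : (t : G) ∈ E
      · by_cases ht1 : t = 1
        · subst ht1
          rw [if_pos ht, if_pos rfl, OneMemClass.coe_one, hp]
          simp
        · rw [if_pos ht, if_neg ht1, hq t ht fun e => ht1 (Subtype.ext e)]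
          ring
      · have ht1 : t ≠ 1 := fun e => ht (by rw [e]; exact E.one_mem)
        rw [if_neg ht, if_neg ht1, hc t t.2 ht]
        ring
    rw [Finset.sum_congr rfl fun t _ => hpt t, Finset.sum_add_distrib, Finset.sum_add_distrib, ← Finset.mul_sum,
      ← Finset.mul_sum, ← Finset.mul_sum, ← Finset.sum_filter, sum_hom_eq_zero θ Finset.univ hθ (fun _ _ => Finset.mem_univ _),
      sum_hom_eq_zero θ _ hθ (fun t ht => Finset.mem_filter.2 ⟨Finset.mem_univ _, E.mul_mem ha0 (Finset.mem_filter.1 ht).2⟩),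
      Finset.sum_ite_eq' Finset.univ (1 : T), if_pos (Finset.mem_univ _)]
    push_cast
    ring
  have hA16 : (16 : ℤ) ∣ pA - qA := h16 a ea A pA qA 1 (fun g => rfl) hpA hqA'
    fun t ht htE => by rw [(hout t (hT' ht).1 htE).1, Int.cast_one]
  have hB16 : (16 : ℤ) ∣ pB - qB := h16 b eb B pB qB 1 (fun g => rfl) hpB hqB'
    fun t ht htE => by rw [(hout t (hT' ht).1 htE).2.1, Int.cast_one]
  have hX16 : (16 : ℤ) ∣ pX - qX := h16 (x 0) (d 0) (X 0) pX qX (-3) (fun g => rfl) hpX hqX'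
    fun t ht htE => by rw [(hout t (hT' ht).1 htE).2.2 0, if_pos (hT' ht).2]; norm_num
  -- class multiplication
  have hq0 : Char.Signed.qfun a0 (F 0) = 0 := by
    simp only [Char.Signed.qfun, finsum_eq_sum_of_fintype, classInner, mul_assoc, Finset.sum_mul]
    simp only [mul_div_assoc, Finset.sum_div]
    rw [← Finset.mul_sum, Finset.sum_comm]
    refine mul_eq_zero_of_right _ (Finset.sum_eq_zero fun g _ => ?_)
    by_cases hg : F 0 g = 0
    · refine Finset.sum_eq_zero fun χ _ => ?_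
      rw [hg]
      simp
    obtain ⟨z, hz, hzE, hzg⟩ := exists_of_lineFun_ne hg
    have h0 := Char.classConst_formula a0 a0 g
    rw [InvolutionColumn.classConst_eq_zero (hF.mul_self ha0) (fun c => h.not_inverted hF hz hzE (by
      rw [show c * a0 * c⁻¹ * (c * a0 * c⁻¹) = c * (a0 * a0) * c⁻¹ by group, hF.mul_self ha0]; group))
      (isPPart_pPt hM g) hzg, Nat.cast_zero, finsum_eq_sum_of_fintype, zero_eq_mul] at h0
    have hne : ∀ w : G, (Nat.card {v : G // IsConj w v} : ℂ) ≠ 0 := fun w => by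
      haveI : Nonempty {v : G // IsConj w v} := ⟨⟨w, IsConj.refl w⟩⟩
      exact_mod_cast Nat.card_pos.ne'
    have h2 := h0.resolve_left (div_ne_zero (mul_ne_zero (hne a0) (hne a0)) (by exact_mod_cast Nat.card_pos.ne'))
    rw [← mul_zero (F 0 g), ← h2, Finset.mul_sum]
    exact Finset.sum_congr rfl fun χ _ => by ring
  have heq : (1 : ℚ) + (qA : ℚ) ^ 2 / pA + (qB : ℚ) ^ 2 / pB + (qX : ℚ) ^ 2 / pX = 0 := by
    have hF' : F 0 = (oneChar G : G → ℂ) + (ea : ℂ) • (a : G → ℂ) + (eb : ℂ) • (b : G → ℂ) +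
        (d 0 : ℂ) • (x 0 : G → ℂ) := funext fun g => by
      show lineFun S E (y 0) (pPt hM g) = _
      rw [hdec']; simp [hA, hB, hX, oneChar]
    rw [hF', Char.Signed.qfun_add, Char.Signed.qfun_add, Char.Signed.qfun_add, qfun_smul, qfun_smul, qfun_smul,
      Char.Signed.qfun_sg a0 (Char.Signed.Sg.of_irr _), Char.Signed.qfun_sg a0 (Char.Signed.Sg.of_irr _),
      Char.Signed.qfun_sg a0 (Char.Signed.Sg.of_irr _), Char.Signed.qfun_sg a0 (Char.Signed.Sg.of_irr _)] at hq0
    have key : ∀ {χ : IrrCharacter G} {ε p q : ℤ}, (ε = 1 ∨ ε = -1) → (ε : ℂ) * (χ : G → ℂ) 1 = p →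
        (ε : ℂ) * (χ : G → ℂ) a0 = q → (ε : ℂ) * ((χ : G → ℂ) a0 ^ 2 / (χ : G → ℂ) 1) = (q : ℂ) ^ 2 / (p : ℂ) := by
      intro χ ε p q he hp hq
      rw [← hp, ← hq]
      rcases he with rfl | rfl <;> simp [neg_div, div_neg]
    rw [key hea hpA hqA, key heb hpB hqB, key (hd 0) hpX hqX] at hq0
    simp only [oneChar, one_pow, div_one] at hq0
    have h3 : (((1 : ℚ) + (qA : ℚ) ^ 2 / pA + (qB : ℚ) ^ 2 / pB + (qX : ℚ) ^ 2 / pX : ℚ) : ℂ) = ((0 : ℚ) : ℂ) := by
      push_cast
      exact hq0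
    exact Rat.cast_injective h3
  exact no_solution hsum hsq hA64 hB64 hX64 hA16 hB16 hX16 (h.signed_ne_one hF ha1 hea hpA)
    (h.signed_ne_one hF hb1 heb hpB) heq

end Min

end CfsgLib.PiHom
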